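import Groth.Agent.ExtShX.PnAsymp
import Groth.Agent.SmoothReg.Scheme
import Groth.Agent.CurveEmbed.Conic
import Groth.Agent.H23.PnChart
import Groth.Agent.S10829
import Groth.Agent.S0299
import Groth.Agent.LC.GorRows
import Groth.Agent.LC.CdDim
import Groth.Agent.LC.Matlis
import Groth.Agent.LC.Depth
import Groth.Agent.QCoh.Stalk
import Groth.Agent.QCoh.Support
import Groth.Agent.Snapper.DimVanish
import Mathlib

/-!
# Negative twists and local cohomology at the closed points
-/

set_option autoImplicit false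
set_option linter.style.haveILetI false
set_option linter.unusedSectionVars false
set_option backward.isDefEq.respectTransparency false
set_option backward.isDefEq.respectTransparency.types false
set_option maxHeartbeats 1000000

universe u

open CategoryTheory CategoryTheory.Limits AlgebraicGeometry TopologicalSpace Opposite Abelian

noncomputable section

namespace Groth.Agent.ExtShX

variable {k : Type u} [Field k] {r : ℕ}

local notation "ℙ" => CohB1.ProjSpace r k
local notation "Ω" => Twist.twistProjSpace r k (-((r : ℤ) + 1))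

theorem irreducibleSpace_pn : IrreducibleSpace ℙ :=
  haveI := H23.PnChart.isIntegral_projSpace r k
  inferInstance

theorem isRegularLocalRing_stalk_pn (x : ℙ) : IsRegularLocalRing ((ℙ).presheaf.stalk x) := by
  haveI := CurveEmbed.smooth_toSpec r k
  refine SmoothReg.isRegularLocalRing_stalk_of_mem_smoothLocus (f := CohB1.ProjSpace.toSpec r k) ?_
  rw [(CohB1.ProjSpace.toSpec r k).smoothLocus_eq_top]
  trivial

theorem ringKrullDim_stalk_pn {x : ℙ} (hx : IsClosed ({x} : Set ℙ)) :
    ringKrullDim ((ℙ).presheaf.stalk x) = (r : WithBot ℕ∞) := by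
  haveI := CurveEmbed.smooth_toSpec r k
  haveI := irreducibleSpace_pn (k := k) (r := r)
  exact (SmoothReg.ringKrullDim_stalk_closedPoint (f := CohB1.ProjSpace.toSpec r k) hx).trans (S10829.result k r)

/-- `H^i(P, F(-m)) = 0` for `m ≫ 0` iff `H^i_x(F_x) = 0` at every closed point. -/
theorem twist_vanishing_iff_H {F : (ℙ).Modules} (hF : Coh.IsCoh F) (i : ℕ) :
    (∃ m₀ : ℤ, ∀ m : ℤ, m₀ ≤ m →
      Subsingleton (Coh.HH ℙ (Twist.twistBy (CohB1.polyGrading r k) F (-m)) i)) ↔
    ∀ x : ℙ, IsClosed ({x} : Set ℙ) →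
      Subsingleton (LocCoh.H (IsLocalRing.maximalIdeal ((ℙ).presheaf.stalk x)) i (F.presheaf.stalk x)) := by
  haveI := isLocallyNoetherian_pn (k := k) (r := r)
  haveI := isSeparated_pn (k := k) (r := r)
  haveI := compactSpace_pn (k := k) (r := r)
  haveI : IsNoetherian ℙ := {}
  haveI hfin : ∀ x : ℙ, Module.Finite ((ℙ).presheaf.stalk x) (F.presheaf.stalk x) := fun x =>
    QCoh.finite_stalk_of_isFT hF.1 hF.2 x
  by_cases hir : i ≤ r
  · obtain ⟨j, hj⟩ := Nat.exists_eq_add_of_le hir
    rw [twist_vanishing_iff hF i j hj.symm]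
    have hloc : ∀ x : ℙ, IsClosed ({x} : Set ℙ) →
        (Subsingleton (LocCoh.H (IsLocalRing.maximalIdeal ((ℙ).presheaf.stalk x)) i (F.presheaf.stalk x)) ↔
          Subsingleton (Abelian.Ext (ModuleCat.of ((ℙ).presheaf.stalk x) (F.presheaf.stalk x))
            (ModuleCat.of ((ℙ).presheaf.stalk x) ((ℙ).presheaf.stalk x)) j)) := fun x hx => by
      haveI := isRegularLocalRing_stalk_pn (k := k) x
      haveI := LC.gorenstein_of_isRegularLocalRing (R := (ℙ).presheaf.stalk x)
      obtain ⟨E, _, _, f, hf⟩ := S0299.result ((ℙ).presheaf.stalk x)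
        (IsLocalRing.ResidueField ((ℙ).presheaf.stalk x))
      obtain ⟨e⟩ := LC.exists_localDuality_gorenstein r (ringKrullDim_stalk_pn hx) E hf
        (F.presheaf.stalk x) j i hj.symm
      refine e.toEquiv.subsingleton_congr.trans ⟨fun h => ⟨fun a b => ?_⟩, fun h => ⟨fun φ ψ => ?_⟩⟩
      · by_contra hab
        obtain ⟨φ, hφ⟩ := LC.exists_dual_ne_zero hf (sub_ne_zero.2 hab)
        exact hφ (by rw [Subsingleton.elim φ 0, LinearMap.zero_apply])
      · exact LinearMap.ext fun a => by rw [Subsingleton.elim a 0, map_zero, map_zero]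
    refine ⟨fun h x hx => (hloc x hx).2 (h x), fun h => ?_⟩
    haveI : ModSite.HasSheafHom (O := (ℙ).sheaf) F := ModTensor.hasSheafHom _
    haveI : HasInjectiveResolutions (ModSite.Mod (ℙ).sheaf) := hasInjRes ℙ
    let E : (ℙ).Modules := (ModSite.extSh (O := (ℙ).sheaf) F j).obj Ω
    have hE : Coh.IsCoh E := isCoh_extSh hF (isCoh_twistPn _) j
    have hS : CohB1.support E = ∅ := by
      by_contra hne
      obtain ⟨x, hxS, hx⟩ := (QCoh.isClosed_support_of_isFT hE.1 hE.2).exists_closed_singleton
        (Set.nonempty_iff_ne_empty.2 hne)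
      exact hxS ((subsingleton_stalk_extSh_dual hF j x).2 ((hloc x hx).1 (h x hx)))
    intro x
    exact (subsingleton_stalk_extSh_dual hF j x).1 (not_not.1 fun hx => hS.le hx)
  · refine iff_of_true ⟨0, fun m _ => ?_⟩ fun x hx => ?_
    · refine Snapper.subsingleton_HH_of_dim_lt (X := ℙ) (r + 1) ⊤ ?_ _ (isCoh_twistByPn hF (-m)).1
        (Set.subset_univ _) i (by omega)
      rw [show topologicalKrullDim ↥((⊤ : Closeds ℙ) : Set ℙ) = topologicalKrullDim ℙ from
        IsHomeomorph.topologicalKrullDim_eq _ (Homeomorph.Set.univ ℙ).isHomeomorph, S10829.result k r]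
      exact_mod_cast Nat.lt_succ_self r
    · refine LC.subsingleton_H_of_supportDim_lt _ _ i ?_
      refine (Module.supportDim_le_ringKrullDim _ _).trans_lt ?_
      rw [ringKrullDim_stalk_pn hx]
      exact_mod_cast Nat.lt_of_not_le hir

end Groth.Agent.ExtShX
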