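import Groth.Agent.ExtShX.PnAsymp
import Groth.Agent.Lib.ProjRegularPn
import Groth.Agent.AmpleX.QAGenerated
import Groth.Agent.PnCoh.Finite.ProjSpace
import Groth.Agent.QCoh.Support
import Groth.Agent.H23.PnChart
import Groth.Agent.S0844
import Groth.Agent.S0843
import Mathlib

/-!
# Horrocks' splitting criterion on projective space
-/

set_option autoImplicit false
set_option linter.style.haveILetI false
set_option linter.unusedSectionVars false
set_option backward.isDefEq.respectTransparency false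
set_option backward.isDefEq.respectTransparency.types false
set_option maxHeartbeats 1000000

universe u

open CategoryTheory CategoryTheory.Limits AlgebraicGeometry TopologicalSpace Opposite
open Groth.Agent.PnCoh.Finite
open scoped Groth.Agent.H23.PicMul

noncomputable section

namespace Groth.Agent.ExtShX.Horrocks

attribute [local instance] MvPolynomial.gradedAlgebra

variable {K : Type u} [Field K] {d : ℕ}

local notation "ℙ" => CohB1.ProjSpace d K
local notation "𝒪(" n ")" => Twist.twistProjSpace d K n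

/-- `F ↦ F(n)`. -/
abbrev tF (n : ℤ) : (ℙ).Modules ⥤ (ℙ).Modules := DCoh.tensorBi.flip.obj (𝒪(n))

theorem tF_additive (n : ℤ) : (tF (K := K) (d := d) n).Additive :=
  (SheafHomX.adj (X := ℙ) (𝒪(n))).left_adjoint_additive

/-- `O(a)(b) ≅ O(a + b)`. -/
def twAdd (a b : ℤ) : CohB1.tensorMod (𝒪(a)) (𝒪(b)) ≅ 𝒪(a + b) :=
  (twist_tensor_iso _ PnDual.coordsR_mem PnDual.coordsR_cover a b).some

/-- `O ≅ O(0)`. -/
def oneIso : Coh.structureModule ℙ ≅ 𝒪(0) :=
  @asIso _ _ _ _ _ (isIso_oneHom _ PnDual.coordsR_mem PnDual.coordsR_cover)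

/-- `F(a)(b) ≅ F(a + b)`. -/
def tFComp (F : (ℙ).Modules) (a b : ℤ) : (tF b).obj ((tF a).obj F) ≅ (tF (a + b)).obj F :=
  (ProjRegular.twist_twist_iso F a b).some

/-- `F(0) ≅ F`. -/
def tFZero (F : (ℙ).Modules) : (tF 0).obj F ≅ F :=
  (DCoh.tensorBi.obj F).mapIso oneIso.symm ≪≫ (H23.PicMul.unit F).some

theorem tF_zero_hom {F G : (ℙ).Modules} (φ : F ⟶ G) (n : ℤ) (h : (tF n).map φ = 0) : φ = 0 :=
  ProjRegular.eq_zero_of_flip_map_eq_zero PnDual.coordsR_mem PnDual.coordsR_cover φ n h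

/-- Vanishing passes to retracts. -/
theorem subsingleton_of_retract {F G : (ℙ).Modules} (i : G ⟶ F) (p : F ⟶ G) (h : i ≫ p = 𝟙 G) (n : ℤ) (q : ℕ)
    (hv : Subsingleton (Coh.HH ℙ ((tF n).obj F) q)) : Subsingleton (Coh.HH ℙ ((tF n).obj G) q) :=
  subsingleton_HH_of_decomposition (fun _ : PUnit.{u+1} => (tF n).obj F) (fun _ => (tF n).map i) (fun _ => (tF n).map p)
    (by rw [Fintype.sum_unique, ← Functor.map_comp, h, CategoryTheory.Functor.map_id]) q fun _ => hv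

theorem isZero_of_generated {G : (ℙ).Modules} (hg : Curv2.IsGloballyGenerated G)
    (h : Subsingleton (Coh.HH ℙ G 0)) : IsZero G := by
  obtain ⟨σ, p, hp⟩ := hg
  haveI : Subsingleton Γ(G, ⊤) := (Sheaf.H.equiv₀ (Coh.toAb G) isTerminalTop).toEquiv.symm.subsingleton
  have hp0 : p = 0 := Sigma.hom_ext _ _ fun j => by
    rw [comp_zero]
    exact AmpleX.eq_zero_of_one_eq_zero _ (Subsingleton.elim _ _)
  rw [IsZero.iff_id_eq_zero]
  exact (cancel_epi p).1 (by rw [hp0, zero_comp, zero_comp])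

/-- The function of an endomorphism of the structure module. -/
def fn (u : Coh.structureModule ℙ ⟶ Coh.structureModule ℙ) : Γ(ℙ, ⊤) := InvX.one u

theorem fn_comp (a b : Coh.structureModule ℙ ⟶ Coh.structureModule ℙ) : fn (a ≫ b) = fn a * fn b := by
  let t : Γ(Coh.structureModule ℙ, ⊤) := (1 : Γ(ℙ, ⊤))
  have h : InvX.one (a ≫ b) = b.app ⊤ (fn a • t) :=
    congrArg (b.app ⊤) (show (InvX.one a : Γ(Coh.structureModule ℙ, ⊤)) = fn a • t from (mul_one (fn a)).symm)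
  rw [Scheme.Modules.Hom.app_smul] at h
  exact h

theorem eq_id_of_fn (a : Coh.structureModule ℙ ⟶ Coh.structureModule ℙ) (ha : fn a = 1) : a = 𝟙 _ := by
  refine sub_eq_zero.1 (AmpleX.eq_zero_of_one_eq_zero _ ?_)
  exact sub_eq_zero.2 ha

theorem isIso_of_ne_zero (u : Coh.structureModule ℙ ⟶ Coh.structureModule ℙ) (hu : u ≠ 0) : IsIso u := by
  haveI := H23.PnChart.isIntegral_projSpace d K
  haveI := isProper_pn (k := K) (r := d)
  have hf : IsField Γ(ℙ, ⊤) := isField_of_universallyClosed K (ℙ ↘ Spec (CommRingCat.of K))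
  have hne : fn u ≠ 0 := fun h => hu (AmpleX.eq_zero_of_one_eq_zero u h)
  obtain ⟨w, hw⟩ := hf.mul_inv_cancel hne
  let v : Coh.structureModule ℙ ⟶ Coh.structureModule ℙ := InvX.ofSect (show Γ(Coh.structureModule ℙ, ⊤) from w)
  have hv : fn v = w := InvX.one_ofSect _
  exact ⟨v, eq_id_of_fn _ (by rw [fn_comp, hv]; exact hw), eq_id_of_fn _ (by rw [fn_comp, hv, mul_comm]; exact hw)⟩

theorem not_subsingleton_sections (n : ℕ) : ¬ Subsingleton (Coh.HH ℙ (𝒪((n : ℤ))) 0) := fun h => by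
  obtain ⟨e⟩ := S0843.result K d n
  haveI := h
  haveI := e.symm.toEquiv.subsingleton
  let x : ↥(MvPolynomial.homogeneousSubmodule (Fin (d + 1)) K n) :=
    ⟨MvPolynomial.X 0 ^ n, by simpa using (MvPolynomial.isHomogeneous_X K (0 : Fin (d + 1))).pow n⟩
  exact pow_ne_zero n (MvPolynomial.X_ne_zero (0 : Fin (d + 1))) (congrArg Subtype.val (Subsingleton.elim x 0))

/-- Intermediate cohomology vanishes in all twists, and sections vanish in negative twists. -/
def Hyp (F : (ℙ).Modules) : Prop :=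
  (∃ n₀ : ℤ, ∀ n : ℤ, n ≤ n₀ → Subsingleton (Coh.HH ℙ ((tF n).obj F) 0)) ∧
    ∀ (n : ℤ) (i : ℕ), 1 ≤ i → i < d → Subsingleton (Coh.HH ℙ ((tF n).obj F) i)

theorem isMRegular_iff (hd : 1 ≤ d) {F : (ℙ).Modules} (hF : Hyp F) (m : ℤ) :
    Curv2.IsMRegular K d F m ↔ Subsingleton (Coh.HH ℙ ((tF (m - d)).obj F) d) :=
  ⟨fun h => h d hd le_rfl, fun h i h1 h2 => by
    rcases lt_or_eq_of_le h2 with h3 | rfl
    · exact hF.2 _ i h1 h3
    · exact h⟩

theorem generated_of_regular {F : (ℙ).Modules} (hFc : Coh.IsCoh F) {m : ℤ} (h : Curv2.IsMRegular K d F m) :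
    Curv2.IsGloballyGenerated ((tF m).obj F) :=
  ProjRegular.isGloballyGenerated ProjRegular.coords_mem ProjRegular.coords_cover ProjRegular.coords_noetherian
    (ProjRegular.good_twistBy hFc m) (ProjRegular.reg0_of_isMRegular hFc h)

theorem isZero_of_tF {F : (ℙ).Modules} (n : ℤ) (h : IsZero ((tF n).obj F)) : IsZero F := by
  rw [IsZero.iff_id_eq_zero]
  exact tF_zero_hom _ n (by rw [CategoryTheory.Functor.map_id]; exact h.eq_of_src _ _)

/-- One split summand. -/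
theorem exists_split (hd : 1 ≤ d) {F : (ℙ).Modules} (hFc : Coh.IsCoh F) (hF : Hyp F) (hF0 : ¬ IsZero F)
    (N : ℤ) (hN : Curv2.IsMRegular K d F N) :
    ∃ a : ℤ, a ≤ N ∧ ∃ (i : 𝒪(-a) ⟶ F) (p : F ⟶ 𝒪(-a)), i ≫ p = 𝟙 (𝒪(-a)) := by
  classical
  obtain ⟨⟨n₀, hn₀⟩, hmid⟩ := hF
  have hnot : ¬ ∀ m, Curv2.IsMRegular K d F m := fun h =>
    hF0 (isZero_of_tF n₀ (isZero_of_generated (generated_of_regular hFc (h n₀)) (hn₀ n₀ le_rfl)))
  obtain ⟨m₁, hm₁⟩ := not_forall.1 hnot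
  have hup : ∀ m m', m ≤ m' → Curv2.IsMRegular K d F m → Curv2.IsMRegular K d F m' := fun m m' hle h => by
    obtain ⟨e, rfl⟩ := Int.le.dest hle
    exact ProjRegular.isMRegular_add hFc h e
  obtain ⟨a, ha, hmin⟩ := Int.exists_least_of_bdd (P := fun m => Curv2.IsMRegular K d F m)
    ⟨m₁, fun m hm => le_of_lt (lt_of_not_ge fun hle => hm₁ (hup m m₁ hle hm))⟩ ⟨N, hN⟩
  refine ⟨a, hmin N hN, ?_⟩
  have hna : ¬ Subsingleton (Coh.HH ℙ ((tF (a - 1 - d)).obj F) d) := fun h => by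
    have := hmin (a - 1) ((isMRegular_iff hd ⟨⟨n₀, hn₀⟩, hmid⟩ (a - 1)).2 h)
    omega
  obtain ⟨φ, hφ⟩ : ∃ φ : (tF (a - 1 - d)).obj F ⟶ 𝒪(-((d : ℤ) + 1)), φ ≠ 0 := by
    by_contra hc
    push Not at hc
    obtain ⟨t⟩ := PnDual.exists_trace' (m := d) (R := K) (b := -((d : ℤ) + 1)) rfl
    have hb := PnDual.bijective_top_pn t (PnDual.goodPn_of_isCoh (ProjRegular.isCoh_twistBy hFc (a - 1 - d)))
    haveI hs : Subsingleton (CohB1.tensorMod F (𝒪(a - 1 - d)) ⟶ 𝒪(-((d : ℤ) + 1))) :=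
      ⟨fun f g => (hc f).trans (hc g).symm⟩
    haveI : Module.Free K (Coh.HH ℙ ((tF (a - 1 - d)).obj F) d) := Module.Free.of_divisionRing _ _
    exact hna ((Module.subsingleton_dual_iff K).1 (@Equiv.subsingleton _ _ (Equiv.ofBijective _ hb).symm hs))
  let A := tFComp F (a - 1 - d) ((d : ℤ) + 1) ≪≫
    eqToIso (congrArg (fun n => (tF n).obj F) (show a - 1 - (d : ℤ) + ((d : ℤ) + 1) = a by omega))
  let B := twAdd (K := K) (-((d : ℤ) + 1)) ((d : ℤ) + 1) ≪≫
    eqToIso (congrArg (fun n : ℤ => 𝒪(n)) (neg_add_cancel _)) ≪≫ oneIso.symm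
  let ψ : (tF a).obj F ⟶ Coh.structureModule ℙ := A.inv ≫ (tF ((d : ℤ) + 1)).map φ ≫ B.hom
  have hψ : ψ ≠ 0 := fun h => hφ (tF_zero_hom φ ((d : ℤ) + 1)
    ((cancel_mono B.hom).1 (((cancel_epi A.inv).1 (h.trans comp_zero.symm)).trans zero_comp.symm)))
  obtain ⟨σ, p, hp⟩ := generated_of_regular hFc ha
  obtain ⟨s, hs⟩ : ∃ s : Coh.structureModule ℙ ⟶ (tF a).obj F, s ≫ ψ ≠ 0 := by
    by_contra hc
    push Not at hc
    refine hψ ((cancel_epi p).1 ?_)
    rw [comp_zero]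
    refine Sigma.hom_ext _ _ fun j => ?_
    rw [comp_zero, ← Category.assoc]
    exact hc _
  haveI := isIso_of_ne_zero _ hs
  let w : 𝒪(-a) ≅ (tF (-a)).obj (Coh.structureModule ℙ) :=
    ((H23.PicMul.comm _ _).some ≪≫ (H23.PicMul.unit _).some).symm
  let v : (tF (-a)).obj ((tF a).obj F) ≅ F :=
    tFComp F a (-a) ≪≫ eqToIso (congrArg (fun n => (tF n).obj F) (add_neg_cancel a)) ≪≫ tFZero F
  refine ⟨w.hom ≫ (tF (-a)).map (inv (s ≫ ψ) ≫ s) ≫ v.hom, v.inv ≫ (tF (-a)).map ψ ≫ w.inv, ?_⟩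
  simp only [Category.assoc, Iso.hom_inv_id_assoc]
  rw [← Functor.map_comp_assoc, Category.assoc, IsIso.inv_hom_id, CategoryTheory.Functor.map_id]
  simp

/-- The coproduct decomposition. -/
theorem exists_decomposition (hd : 1 ≤ d) (N : ℤ) : ∀ (m : ℕ) (F : (ℙ).Modules), Coh.IsCoh F → Hyp F →
    Curv2.IsMRegular K d F N → Module.finrank K (Coh.HH ℙ ((tF N).obj F) 0) ≤ m →
    ∃ (r : ℕ) (a : Fin r → ℤ), Nonempty (F ≅ ∐ fun j => 𝒪(a j)) := by
  classical
  intro m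
  induction m using Nat.strong_induction_on with
  | _ m ih =>
  intro F hFc hF hN hm
  by_cases hF0 : IsZero F
  · refine ⟨0, Fin.elim0, ⟨hF0.iso ?_⟩⟩
    rw [IsZero.iff_id_eq_zero]
    exact Sigma.hom_ext _ _ fun j => j.elim0
  obtain ⟨a, haN, i, p, hip⟩ := exists_split hd hFc hF hF0 N hN
  let G : (ℙ).Modules := kernel p
  let ι := kernel.ι p
  let e : F ⟶ G := kernel.lift p (𝟙 F - p ≫ i) (by rw [Preadditive.sub_comp, Category.assoc, hip, Category.id_comp, Category.comp_id, sub_self])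
  have hιe : ι ≫ e = 𝟙 G := (cancel_mono ι).1 (by
    rw [Category.assoc, kernel.lift_ι, Preadditive.comp_sub, Category.comp_id, kernel.condition_assoc, zero_comp,
      sub_zero, Category.id_comp])
  have hie : i ≫ e = 0 := (cancel_mono ι).1 (by
    rw [Category.assoc, kernel.lift_ι, Preadditive.comp_sub, Category.comp_id, ← Category.assoc, hip,
      Category.id_comp, sub_self, zero_comp])
  have hei : e ≫ ι = 𝟙 F - p ≫ i := kernel.lift_ι _ _ _
  haveI := isLocallyNoetherian_pn (k := K) (r := d)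
  have hGc : Coh.IsCoh G := QCoh.isCoh_kernel hFc (isCoh_twistPn (-a)) p
  have hG : Hyp G := ⟨hF.1.imp fun n₀ h n hn => subsingleton_of_retract ι e hιe n 0 (h n hn),
    fun n j h1 h2 => subsingleton_of_retract ι e hιe n j (hF.2 n j h1 h2)⟩
  have hGN : Curv2.IsMRegular K d G N := fun j h1 h2 => subsingleton_of_retract ι e hιe _ j (hN j h1 h2)
  have hlt : Module.finrank K (Coh.HH ℙ ((tF N).obj G) 0) < Module.finrank K (Coh.HH ℙ ((tF N).obj F) 0) := by
    haveI := projSpace_finite_HH d K ((tF N).obj F) (ProjRegular.isCoh_twistBy hFc N) 0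
    haveI := tF_additive (K := K) (d := d) N
    let A := Canon.HHlin K ((tF N).map ι) 0
    let B := Canon.HHlin K ((tF N).map e) 0
    let C := Canon.HHlin K ((tF N).map p) 0
    have hBA : ∀ x, B (A x) = x := fun x => by
      rw [PnDual.HHlin_comp, ← Functor.map_comp, hιe, CategoryTheory.Functor.map_id, PnDual.HHlin_id]
    have hCA : ∀ x, C (A x) = 0 := fun x => by
      rw [PnDual.HHlin_comp, ← Functor.map_comp, kernel.condition, Functor.map_zero]
      show Sheaf.H.map ((QCoh.toAbFunctor ℙ).map 0) 0 x = 0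
      have h := Sheaf.H.map_add_apply (n := 0) ((QCoh.toAbFunctor ℙ).map (0 : (tF N).obj G ⟶ (tF N).obj (𝒪(-a))))
        ((QCoh.toAbFunctor ℙ).map 0) x
      rw [← Functor.map_add, add_zero] at h
      exact left_eq_add.1 h
    have hC : ∀ y, C (Canon.HHlin K ((tF N).map i) 0 y) = y := fun y => by
      rw [PnDual.HHlin_comp, ← Functor.map_comp, hip, CategoryTheory.Functor.map_id, PnDual.HHlin_id]
    have hne : Nontrivial (Coh.HH ℙ ((tF N).obj (𝒪(-a))) 0) := by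
      by_contra hc
      rw [not_nontrivial_iff_subsingleton] at hc
      have h := QCoh.subsingleton_HH_of_iso (twAdd (-a) N) 0 hc
      obtain ⟨n, hn⟩ : ∃ n : ℕ, -a + N = (n : ℤ) := ⟨(-a + N).toNat, by omega⟩
      rw [hn] at h
      exact not_subsingleton_sections (K := K) (d := d) n h
    have hrange : LinearMap.range A ≠ ⊤ := fun h => by
      obtain ⟨y, hy⟩ := exists_ne (0 : Coh.HH ℙ ((tF N).obj (𝒪(-a))) 0)
      obtain ⟨x, hx⟩ := h.ge (trivial : Canon.HHlin K ((tF N).map i) 0 y ∈ ⊤)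
      exact hy ((hC y).symm.trans (hx ▸ hCA x))
    exact (LinearMap.finrank_range_of_inj (Function.LeftInverse.injective hBA)).symm.trans_lt
      (Submodule.finrank_lt hrange)
  obtain ⟨r, b, ⟨ψ⟩⟩ := ih _ (lt_of_lt_of_le hlt hm) G hGc hG hGN le_rfl
  let c : Fin (r + 1) → ℤ := Fin.cons (-a) b
  let T := fun j => 𝒪(c j)
  let fwd : (∐ T) ⟶ F := Sigma.desc (Fin.cases (motive := fun j => T j ⟶ F) i
    fun j => (Sigma.ι (fun j => 𝒪(b j)) j ≫ ψ.inv ≫ ι))
  let bwd : F ⟶ ∐ T := p ≫ Sigma.ι T 0 + e ≫ ψ.hom ≫ Sigma.desc fun j => Sigma.ι T j.succ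
  have hι0 : Sigma.ι T 0 ≫ fwd = i := Sigma.ι_desc _ _
  have hιs : ∀ j : Fin r, Sigma.ι T j.succ ≫ fwd = Sigma.ι (fun j => 𝒪(b j)) j ≫ ψ.inv ≫ ι := fun j =>
    Sigma.ι_desc _ _
  let sd : (∐ fun j => 𝒪(b j)) ⟶ ∐ T := Sigma.desc fun j => Sigma.ι T (Fin.succ j)
  have h1 : sd ≫ fwd = ψ.inv ≫ ι := Sigma.hom_ext _ _ fun j => by
    rw [← Category.assoc]
    exact (congrArg (· ≫ fwd) (Sigma.ι_desc (fun j => Sigma.ι T (Fin.succ j)) j)).trans (hιs j)
  refine ⟨r + 1, c, ⟨⟨bwd, fwd, ?_, ?_⟩⟩⟩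
  · show (p ≫ Sigma.ι T 0 + e ≫ ψ.hom ≫ sd) ≫ fwd = 𝟙 F
    rw [Preadditive.add_comp, Category.assoc, Category.assoc, Category.assoc, h1, Iso.hom_inv_id_assoc]
    refine (congrArg₂ (· + ·) (congrArg (p ≫ ·) hι0) hei).trans ?_
    exact add_sub_cancel _ _
  · have hib : i ≫ bwd = Sigma.ι T 0 := by
      show i ≫ (p ≫ Sigma.ι T 0 + e ≫ ψ.hom ≫ sd) = _
      rw [Preadditive.comp_add, ← Category.assoc i e, hie, zero_comp, add_zero, ← Category.assoc]
      exact (congrArg (· ≫ Sigma.ι T 0) hip).trans (Category.id_comp _)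
    have hιb : ι ≫ bwd = ψ.hom ≫ sd := by
      show ι ≫ (p ≫ Sigma.ι T 0 + e ≫ ψ.hom ≫ sd) = _
      rw [Preadditive.comp_add, ← Category.assoc ι p, kernel.condition, zero_comp, zero_add, ← Category.assoc ι e, hιe,
        Category.id_comp]
    refine Sigma.hom_ext _ _ fun j => ?_
    rw [← Category.assoc]
    refine Eq.trans ?_ (Category.comp_id _).symm
    refine Fin.cases ?_ (fun j => ?_) j
    · exact (congrArg (· ≫ bwd) hι0).trans hib
    · refine (congrArg (· ≫ bwd) (hιs j)).trans ?_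
      rw [Category.assoc, Category.assoc, hιb, Iso.inv_hom_id_assoc]
      exact Sigma.ι_desc _ _

end Groth.Agent.ExtShX.Horrocks
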