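import Groth.Agent.ExtShX.TensorFree
import Groth.Agent.EtMVLib.ExtTools
import Groth.Agent.KFlatLib.Scheme.TensorStalk
import Mathlib

/-!
# The tensor–Hom adjunction on Ext groups, for finite locally free modules
-/

set_option autoImplicit false
set_option linter.style.haveILetI false
set_option backward.isDefEq.respectTransparency false
set_option backward.isDefEq.respectTransparency.types false

universe u

open CategoryTheory CategoryTheory.Limits AlgebraicGeometry TopologicalSpace Opposite

namespace Groth.Agent.ExtShX

variable {X : Scheme.{u}} {E : X.Modules}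

theorem mono_tensorRight (hE : FlatMod.IsFinLocFree E) {A B : X.Modules} (f : A ⟶ B) [Mono f] :
    Mono ((DCoh.tensorBi.flip.obj E).map f) := by
  refine Preadditive.mono_of_isZero_kernel _ (KFlatLib.isZero_of_stalk _ fun x => ?_)
  haveI : Mono ((DerSch.stalkFunctor X x).map ((DCoh.tensorBi.flip.obj E).map f)) := by
    haveI := QCoh.free_stalk_of_isFinLocFree hE x
    haveI : Module.Flat (X.presheaf.stalk x) ((DerSch.stalkFunctor X x).obj E) :=
      (inferInstance : Module.Flat (X.presheaf.stalk x) (E.presheaf.stalk x))
    have hm : Mono ((MonoidalCategory.tensorRight ((DerSch.stalkFunctor X x).obj E)).map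
        ((DerSch.stalkFunctor X x).map f)) :=
      (ModuleCat.mono_iff_injective _).2
        (Module.Flat.rTensor_preserves_injective_linearMap _ ((ModuleCat.mono_iff_injective _).1 inferInstance))
    exact ((MorphismProperty.monomorphisms (ModuleCat.{u} (X.presheaf.stalk x))).arrow_mk_iso_iff
      (((Functor.mapArrowFunctor _ _).mapIso (KFlatLib.stalkTensorRightIso E x)).app (Arrow.mk f))).2 hm
  exact (isZero_kernel_of_mono ((DerSch.stalkFunctor X x).map ((DCoh.tensorBi.flip.obj E).map f))).of_iso
    (PreservesKernel.iso (DerSch.stalkFunctor X x) ((DCoh.tensorBi.flip.obj E).map f))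

theorem nonempty_ext_sheafHom_addEquiv (hE : FlatMod.IsFinLocFree E)
    [ModSite.HasSheafHom (O := X.sheaf) E] [HasExt.{u} X.Modules] [EnoughInjectives X.Modules]
    (A B : X.Modules) (n : ℕ) :
    Nonempty (Abelian.Ext (CohB1.tensorMod A E) B n ≃+
      Abelian.Ext A ((ModSite.sheafHom (O := X.sheaf) E).obj B) n) := by
  let SE : X.Modules ⥤ X.Modules := ModSite.sheafHom (O := X.sheaf) E
  let adj : (DCoh.tensorBi.flip.obj E : X.Modules ⥤ X.Modules) ⊣ SE := ModSite.sheafHomAdj (O := X.sheaf) E
  haveI : SE.Additive := ModSite.sheafHom_additive X.sheaf E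
  haveI : PreservesFiniteLimits SE := by
    have : PreservesLimitsOfSize.{0, 0} SE := adj.rightAdjoint_preservesLimits
    exact ⟨fun _ => inferInstance⟩
  haveI : SE.PreservesEpimorphisms := preservesEpimorphisms_sheafHom hE
  haveI : SE.PreservesHomology := Functor.preservesHomology_of_preservesEpis_and_kernels SE
  haveI : PreservesFiniteColimits SE := Functor.preservesFiniteColimits_of_preservesHomology SE
  haveI : (DCoh.tensorBi.flip.obj E : X.Modules ⥤ X.Modules).PreservesMonomorphisms :=
    ⟨fun f _ => mono_tensorRight hE f⟩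
  exact ⟨AddEquiv.ofBijective _ (EtMVLib.adjExtMap_bijective adj A B n)⟩

end Groth.Agent.ExtShX
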