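import Groth.Agent.ExtShX.TensorFree
import Groth.Agent.ExtShX.ExtAdj
import Groth.Agent.PerfGen7.ResDescend
import Mathlib

/-!
# Tensoring an injective module with a finite locally free one
-/

set_option autoImplicit false
set_option linter.style.haveILetI false
set_option backward.isDefEq.respectTransparency false
set_option backward.isDefEq.respectTransparency.types false
set_option maxHeartbeats 800000

universe u

open CategoryTheory CategoryTheory.Limits AlgebraicGeometry TopologicalSpace Opposite

namespace Groth.Agent.ExtShX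

variable {X : Scheme.{u}} {E : X.Modules}

theorem isIso_bidualMap (hE : FlatMod.IsFinLocFree E) : IsIso (RefHull.bidualMap E) := by
  have hfp := QCoh.isFP_of_isFinLocFree hE
  have hfd : CohB1.IsFP (RefHull.dual E) := QCoh.isFP_of_isFinLocFree (PerfGen7.ResDescend.isFinLocFree_dual hE)
  refine ZClosLib.isIso_of_stalkMap_bijective _ fun x => ?_
  haveI := QCoh.free_stalk_of_isFinLocFree hE x
  haveI := QCoh.finite_stalk_of_isFT (QCoh.isQCoh_of_isFinLocFree hE) (QCoh.isFT_of_isFP hfp) x
  have hb := RefX.evalStalk_bijective (G := Coh.structureModule X) hfd x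
  have hr := (RefX.bidualAt_bijective_iff hfp x).2
    ((inferInstance : Module.IsReflexive (X.presheaf.stalk x) (E.presheaf.stalk x)))
  have key : RefHull.bidualAt E x = (RefHull.evalStalk (RefHull.dual E) (Coh.structureModule X) x).comp
      (RefHull.stalkMapₗ (RefHull.bidualMap E) x) := by
    refine LinearMap.ext fun v => ?_
    obtain ⟨U, hx, m, rfl⟩ := TopCat.Presheaf.exists_germ_eq E.presheaf v
    rw [LinearMap.comp_apply, RefHull.stalkMapₗ_germ, RefHull.evalStalk_germ, RefHull.bidualMap_app_apply]
  rw [key, LinearMap.coe_comp, Function.Bijective.of_comp_iff' hb] at hr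
  exact hr

theorem injective_tensor (hE : FlatMod.IsFinLocFree E) (I : X.Modules) [Injective I] :
    Injective (CohB1.tensorMod I E) := by
  let E' : X.Modules := RefHull.dual E
  have hE' : FlatMod.IsFinLocFree E' := PerfGen7.ResDescend.isFinLocFree_dual hE
  haveI := isIso_bidualMap hE
  haveI := isIso_tenDualHom hE' I
  haveI : ModSite.HasSheafHom (O := X.sheaf) E' :=
    ⟨_, ⟨SheafHomX.adj E'⟩⟩
  haveI : (DCoh.tensorBi.flip.obj E' : X.Modules ⥤ X.Modules).PreservesMonomorphisms :=
    ⟨fun f _ => mono_tensorRight hE' f⟩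
  let adj : (DCoh.tensorBi.flip.obj E' : X.Modules ⥤ X.Modules) ⊣ ModSite.sheafHom (O := X.sheaf) E' :=
    ModSite.sheafHomAdj (O := X.sheaf) E'
  haveI : Injective ((ModSite.sheafHom (O := X.sheaf) E').obj I) := adj.map_injective I inferInstance
  exact Injective.of_iso
    ((iso E' I) ≪≫ (asIso (tenDualHom E' I)).symm ≪≫
      (DCoh.tensorBi.obj I).mapIso (asIso (RefHull.bidualMap E)).symm) inferInstance

end Groth.Agent.ExtShX
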