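import Groth.Agent.H23.CocycleMod
import Groth.Agent.CanonTriv.TopPow
import Groth.Agent.Synt29.ExtBC
import Groth.Agent.QCoh.FT
import Groth.Agent.AmpleVan.Kill
import Mathlib

/-!
# The top exterior power of a quasi-coherent module with local frames
-/

set_option autoImplicit false
set_option linter.style.haveILetI false
set_option linter.unusedSectionVars false
set_option backward.isDefEq.respectTransparency false
set_option backward.isDefEq.respectTransparency.types false

universe u

open CategoryTheory CategoryTheory.Limits AlgebraicGeometry TopologicalSpace Opposite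
open scoped TensorProduct

noncomputable section

namespace Groth.Agent.ExtShX.TopExt

open Groth.Agent.AModX

variable {X : Scheme.{u}} {n : ℕ} {E : X.Modules}

section Basis

variable {U : X.Opens} {s : Fin n → Γ(E, U)} (hs : H23.Frame.IsFrame E s)

/-- The basis given by a frame. -/
def bas (W : X.Opens) (hW : W ≤ U) : Module.Basis (Fin n) Γ(X, W) Γ(E, W) :=
  Module.Basis.ofEquivFun (LinearEquiv.ofBijective
    (Fintype.linearCombination Γ(X, W) fun i => res E hW (s i))
    ((congrArg Function.Bijective (funext fun c => (Fintype.linearCombination_apply _ _ c).symm)).mp (hs W hW))).symm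

theorem bas_apply (W : X.Opens) (hW : W ≤ U) (i : Fin n) : bas hs W hW i = res E hW (s i) := by
  simp [bas, Fintype.linearCombination_apply, Pi.single_apply]

theorem repr_res {W W' : X.Opens} (hW : W ≤ U) (h : W' ≤ W) (v : Γ(E, W)) (i : Fin n) :
    (bas hs W' (h.trans hW)).repr (res E h v) i = resR h ((bas hs W hW).repr v i) := by
  conv_lhs => rw [← (bas hs W hW).sum_repr v]
  simp only [map_sum, res_smul, bas_apply, res_res]
  simp only [← bas_apply hs W' (h.trans hW), map_smul, Module.Basis.repr_self, Finsupp.smul_single, smul_eq_mul,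
    mul_one]
  simp [Finsupp.single_apply]

theorem det_res {W W' : X.Opens} (hW : W ≤ U) (h : W' ≤ W) (v : Fin n → Γ(E, W)) :
    (bas hs W' (h.trans hW)).det (fun i => res E h (v i)) = resR h ((bas hs W hW).det v) := by
  simp only [Module.Basis.det_apply, RingHom.map_det]
  congr 1
  ext i j
  simp [Module.Basis.toMatrix_apply, repr_res hs hW h]

end Basis

variable (U : X → X.Opens) (s : ∀ x, Fin n → Γ(E, U x)) (hs : ∀ x, H23.Frame.IsFrame E (s x))

/-- The determinant in the frame at `x`. -/
def D (x : X) (W : X.Opens) (hW : W ≤ U x) : Γ(E, W) [⋀^Fin n]→ₗ[Γ(X, W)] Γ(X, W) :=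
  (bas (hs x) W hW).det

theorem D_res (x : X) {W W' : X.Opens} (hW : W ≤ U x) (h : W' ≤ W) (v : Fin n → Γ(E, W)) :
    D U s hs x W' (h.trans hW) (fun i => res E h (v i)) = resR h (D U s hs x W hW v) :=
  det_res (hs x) hW h v

theorem D_change (x y : X) (W : X.Opens) (hx : W ≤ U x) (hy : W ≤ U y) (v : Fin n → Γ(E, W)) :
    D U s hs y W hy v = D U s hs y W hy (bas (hs x) W hx) * D U s hs x W hx v := by
  have h := (D U s hs y W hy).eq_smul_basis_det (bas (hs x) W hx)
  exact (congrArg (fun F => F v) h).trans rfl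

theorem D_bas_self (x : X) (W : X.Opens) (hx : W ≤ U x) : D U s hs x W hx (bas (hs x) W hx) = 1 :=
  (bas (hs x) W hx).det_self

theorem D_bas_res (x y : X) {W W' : X.Opens} (hx : W ≤ U x) (hy : W ≤ U y) (h : W' ≤ W) :
    resR h (D U s hs y W hy (bas (hs x) W hx)) = D U s hs y W' (h.trans hy) (bas (hs x) W' (h.trans hx)) := by
  rw [← D_res U s hs y hy h]
  congr 1
  funext i
  rw [bas_apply, bas_apply, res_res]

/-- The determinant cocycle. -/
def coc : H23.CocycleMod.Cocycle U where
  g x y :=
    { val := D U s hs y (U x ⊓ U y) inf_le_right (bas (hs x) _ inf_le_left)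
      inv := D U s hs x (U x ⊓ U y) inf_le_left (bas (hs y) _ inf_le_right)
      val_inv := by rw [← D_change U s hs x y, D_bas_self]
      inv_val := by rw [← D_change U s hs y x, D_bas_self] }
  trans x y z W hx hy hz := by
    show resR _ (D U s hs z _ _ _) = resR _ (D U s hs z _ _ _) * resR _ (D U s hs y _ _ _)
    rw [D_bas_res, D_bas_res, D_bas_res]
    exact D_change U s hs y z W hy hz _

/-- The module of top forms. -/
def L : X.Modules := H23.CocycleMod.mod (coc U s hs)

/-- The top form of a tuple of sections, as a family of determinants. -/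
def alt (W : X.Opens) :
    Γ(E, W) [⋀^Fin n]→ₗ[Γ(X, W)] ↥(H23.CocycleMod.grp (coc U s hs) W) where
  toFun v := ⟨fun x => D U s hs x (W ⊓ U x) inf_le_right fun i => res E inf_le_left (v i),
    fun x y V hV hx hy => by
      show resR _ (D U s hs y _ _ _) = resR _ (D U s hs y _ _ _) * resR _ (D U s hs x _ _ _)
      rw [D_bas_res, ← D_res, ← D_res]
      simp only [res_res]
      exact D_change U s hs x y V hx hy _⟩
  map_update_add' v i a b := H23.CocycleMod.grp_ext _ fun x => by
    have h : ∀ z, (fun k => res E (inf_le_left : W ⊓ U x ≤ W) (Function.update v i z k)) =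
        Function.update (fun k => res E inf_le_left (v k)) i (res E inf_le_left z) := fun z =>
      funext fun k => Function.apply_update (fun _ a => res E inf_le_left a) v i z k
    show D U s hs x _ _ _ = D U s hs x _ _ _ + D U s hs x _ _ _
    rw [h, h, h, map_add, AlternatingMap.map_update_add]
  map_update_smul' v i c a := H23.CocycleMod.grp_ext _ fun x => by
    have h : ∀ z, (fun k => res E (inf_le_left : W ⊓ U x ≤ W) (Function.update v i z k)) =
        Function.update (fun k => res E inf_le_left (v k)) i (res E inf_le_left z) := fun z =>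
      funext fun k => Function.apply_update (fun _ a => res E inf_le_left a) v i z k
    show D U s hs x _ _ _ = resR _ c * D U s hs x _ _ _
    rw [h, h, res_smul, AlternatingMap.map_update_smul, smul_eq_mul]
  map_eq_zero_of_eq' v i j hv hij := H23.CocycleMod.grp_ext _ fun x => by
    show D U s hs x _ _ _ = 0
    exact AlternatingMap.map_eq_zero_of_eq _ _ (by rw [hv]) hij

/-- The map from the exterior power of sections. -/
def Φ (W : X.Opens) : ↥(⋀[Γ(X, W)]^n Γ(E, W)) →ₗ[Γ(X, W)] Γ(L U s hs, W) :=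
  exteriorPower.alternatingMapLinearEquiv (alt U s hs W)

theorem Φ_ιMulti (W : X.Opens) (v : Fin n → Γ(E, W)) :
    Φ U s hs W (exteriorPower.ιMulti Γ(X, W) n v) = (show Γ(L U s hs, W) from alt U s hs W v) :=
  exteriorPower.alternatingMapLinearEquiv_apply_ιMulti _ v

theorem res_Φ {W W' : X.Opens} (h : W' ≤ W) (v : Fin n → Γ(E, W)) :
    res (L U s hs) h (Φ U s hs W (exteriorPower.ιMulti Γ(X, W) n v)) =
      Φ U s hs W' (exteriorPower.ιMulti Γ(X, W') n fun i => res E h (v i)) := by
  rw [Φ_ιMulti, Φ_ιMulti]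
  refine (show Function.Injective (H23.CocycleMod.fam (coc U s hs) (W := W')) from fun _ _ e => e)
    (H23.CocycleMod.grp_ext _ fun x => ?_)
  refine (H23.CocycleMod.fam_res _ h _ x).trans ?_
  show resR _ (D U s hs x _ _ _) = D U s hs x _ _ _
  rw [← D_res]
  simp only [res_res]

theorem bijective_Φ_of_le {W : X.Opens} (x : X) (hW : W ≤ U x) : Function.Bijective (Φ U s hs W) := by
  let b := bas (hs x) W hW
  let w := exteriorPower.ιMulti Γ(X, W) n fun i => b i
  have hw : Function.Bijective fun r : Γ(X, W) => r • w := CanonTriv.bijective_smul_ιMulti b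
  have he : Φ U s hs W w = res (L U s hs) hW (H23.CocycleMod.frame (coc U s hs) x) := by
    refine (show Function.Injective (H23.CocycleMod.fam (coc U s hs) (W := W)) from fun _ _ e => e)
      (H23.CocycleMod.grp_ext _ fun y => ?_)
    refine Eq.trans ?_ (H23.CocycleMod.fam_res _ hW _ y).symm
    rw [Φ_ιMulti]
    show D U s hs y (W ⊓ U y) inf_le_right (fun i => res E inf_le_left (b i)) =
      resR _ (H23.CocycleMod.tr (coc U s hs) x y (U x ⊓ U y) inf_le_left inf_le_right)
    rw [H23.CocycleMod.tr, resR_resR]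
    show _ = resR _ (D U s hs y _ _ _)
    rw [D_bas_res]
    congr 1
    funext i
    simp [b, bas_apply, res_res]
  have key : (fun r : Γ(X, W) => Φ U s hs W (r • w)) =
      fun r => r • res (L U s hs) hW (H23.CocycleMod.frame (coc U s hs) x) := funext fun r => by
    rw [map_smul, he]
  exact (Function.Bijective.of_comp_iff (Φ U s hs W) hw).1
    ((congrArg Function.Bijective key).mpr (H23.CocycleMod.isFrame_frame (coc U s hs) x W hW))

theorem isInvertible_L (hU : ∀ x, x ∈ U x) : PicF.IsInvertible (L U s hs) :=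
  H23.CocycleMod.isInvertible _ (eq_top_iff.2 fun x _ => Opens.mem_iSup.2 ⟨x, hU x⟩)

theorem bijective_Φ (hE : Coh.IsQCoh E) (hU : ∀ x, x ∈ U x) (V : X.affineOpens) :
    Function.Bijective (Φ U s hs V.1) := by
  have hLq : Coh.IsQCoh (L U s hs) := ProjUPX.isQCoh_of_isInvertible (isInvertible_L U s hs hU)
  obtain ⟨S, hS, hSle⟩ := QCoh.exists_affine_basicOpen_le U (fun x => ⟨x, hU x⟩) V.2
  letI : ∀ r : S, Module Γ(X, V.1) Γ(L U s hs, X.basicOpen r.1) := fun r => QCoh.basicModule r.1 (L U s hs)
  haveI : ∀ r : S, IsLocalizedModule.Away r.1 (QCoh.basicRes r.1 (L U s hs)) := fun r =>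
    QCoh.isLocalizedModule_basicRes r.1 hLq V.2
  haveI : ∀ r : S, IsLocalization.Away r.1 Γ(X, X.basicOpen r.1) := fun r => V.2.isLocalization_basicOpen r.1
  let Mp : S → Type u := fun r => Γ(X, X.basicOpen r.1) ⊗[Γ(X, V.1)] ↥(⋀[Γ(X, V.1)]^n Γ(E, V.1))
  let fM : ∀ r : S, ↥(⋀[Γ(X, V.1)]^n Γ(E, V.1)) →ₗ[Γ(X, V.1)] Mp r := fun r =>
    TensorProduct.mk Γ(X, V.1) Γ(X, X.basicOpen r.1) _ 1
  haveI : ∀ r : S, IsLocalizedModule.Away r.1 (fM r) := fun r =>
    (isLocalizedModule_iff_isBaseChange (Submonoid.powers r.1) Γ(X, X.basicOpen r.1) (fM r)).2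
      (TensorProduct.isBaseChange _ _ _)
  refine bijective_of_isLocalized_span S hS Mp fM (fun r : S => Γ(L U s hs, X.basicOpen r.1))
    (fun r => QCoh.basicRes r.1 (L U s hs)) (Φ U s hs V.1) fun r => ?_
  obtain ⟨x, hx⟩ := hSle r.1 r.2
  let B := Γ(X, X.basicOpen r.1)
  letI := QCoh.basicModule r.1 E
  haveI : IsScalarTower Γ(X, V.1) B Γ(E, X.basicOpen r.1) := IsScalarTower.of_algebraMap_smul fun _ _ => rfl
  haveI : IsScalarTower Γ(X, V.1) B Γ(L U s hs, X.basicOpen r.1) := IsScalarTower.of_algebraMap_smul fun _ _ => rfl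
  haveI := QCoh.isLocalizedModule_basicRes r.1 hE V.2
  have hb : IsBaseChange B (QCoh.basicRes r.1 E) := IsLocalizedModule.isBaseChange (Submonoid.powers r.1) B _
  let G : Γ(X, X.basicOpen r.1) ⊗[Γ(X, V.1)] ↥(⋀[Γ(X, V.1)]^n Γ(E, V.1)) →ₗ[B] Γ(L U s hs, X.basicOpen r.1) :=
    Φ U s hs (X.basicOpen r.1) ∘ₗ exteriorPower.map n hb.equiv.toLinearMap ∘ₗ
      Synt29.ExtBC.fwd Γ(X, V.1) B Γ(E, V.1) n
  have hG : Function.Bijective G := by
    refine (bijective_Φ_of_le U s hs x hx).comp (Function.Bijective.comp (g := exteriorPower.map n hb.equiv.toLinearMap) ?_ (Synt29.ExtBC.bijective_fwd (A := Γ(X, V.1)) (B := B) (M := Γ(E, V.1)) n))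
    refine Function.bijective_iff_has_inverse.2 ⟨exteriorPower.map n hb.equiv.symm.toLinearMap, fun z => ?_, fun z => ?_⟩
    · rw [← LinearMap.comp_apply, ← exteriorPower.map_comp]
      simp [exteriorPower.map_id]
    · rw [← LinearMap.comp_apply, ← exteriorPower.map_comp]
      simp [exteriorPower.map_id]
  have heq : G.restrictScalars Γ(X, V.1) =
      IsLocalizedModule.map (Submonoid.powers r.1) (fM r) (QCoh.basicRes r.1 (L U s hs)) (Φ U s hs V.1) := by
    refine IsLocalizedModule.ext (Submonoid.powers r.1) (fM r)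
      (IsLocalizedModule.map_units (QCoh.basicRes r.1 (L U s hs))) ?_
    rw [IsLocalizedModule.map_comp]
    refine exteriorPower.linearMap_ext (AlternatingMap.ext fun v => ?_)
    show G (1 ⊗ₜ exteriorPower.ιMulti Γ(X, V.1) n v) =
      res (L U s hs) (X.basicOpen_le r.1) (Φ U s hs V.1 (exteriorPower.ιMulti Γ(X, V.1) n v))
    rw [res_Φ]
    simp only [G, LinearMap.comp_apply]
    rw [Synt29.ExtBC.fwd_tmul, one_smul, exteriorPower.map_apply_ιMulti]
    congr 2
    funext i
    show hb.equiv ((1 : B) ⊗ₜ v i) = _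
    rw [IsBaseChange.equiv_tmul, one_smul]
    rfl
  rw [← heq]
  exact hG

include hs in
/-- Top exterior powers exist. -/
theorem exists_isExtPow (hE : Coh.IsQCoh E) (hU : ∀ x, x ∈ U x) :
    ∃ M : X.Modules, ExtPow.IsExtPow n E M ∧ PicF.IsInvertible M := by
  refine ⟨L U s hs, ⟨fun V => (LinearEquiv.ofBijective (Φ U s hs V.1) (bijective_Φ U s hs hE hU V)).symm,
    fun V W h e => ?_⟩, isInvertible_L U s hs hU⟩
  exact res_Φ U s hs h e

end Groth.Agent.ExtShX.TopExt
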