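import Groth.Agent.H9Misc.SupportsSS
import Mathlib

/-!
# Ext modules as derived functors of `Hom(M, -)`, linearly
-/

set_option autoImplicit false
set_option linter.style.haveILetI false
set_option backward.isDefEq.respectTransparency false
set_option backward.isDefEq.respectTransparency.types false

universe u

open CategoryTheory CategoryTheory.Limits

namespace Groth.Agent.ExtShX

variable {R : Type u} [CommRing R] (M : ModuleCat.{u} R)

/-- `N ↦ Hom(M, N)`, with values in modules. -/
noncomputable abbrev homL : ModuleCat.{u} R ⥤ ModuleCat.{u} R :=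
  (linearCoyoneda R (ModuleCat.{u} R)).obj (Opposite.op M)

instance linear_homL : Functor.Linear R (homL M) where
  map_smul {X Y} f r := by
    refine ModuleCat.hom_ext (LinearMap.ext fun g => ?_)
    show (show M ⟶ X from g) ≫ (r • f) = r • ((show M ⟶ X from g) ≫ f)
    exact Linear.comp_smul M X Y (show M ⟶ X from g) r f

theorem homologyMap_smul_id {C : Type*} [Category C] [Preadditive C] [Linear R C] [CategoryWithHomology C]
    {ι : Type*} {c : ComplexShape ι} (K : HomologicalComplex C c) (i : ι) (a : R) :
    HomologicalComplex.homologyMap (a • 𝟙 K) i = a • 𝟙 (K.homology i) := by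
  refine (ShortComplex.homologyMap_smul ((HomologicalComplex.shortComplexFunctor C c i).map (𝟙 K)) a).trans ?_
  exact congrArg (fun t => a • t) (HomologicalComplex.homologyMap_id K i)

theorem rightDerived_homL_map_smul (n : ℕ) (N : ModuleCat.{u} R) (a : R) :
    ((homL M).rightDerived n).map (a • 𝟙 N) = a • 𝟙 (((homL M).rightDerived n).obj N) := by
  let I := injectiveResolution N
  have w : I.ι.f 0 ≫ (a • 𝟙 I.cocomplex : I.cocomplex ⟶ I.cocomplex).f 0 = (a • 𝟙 N) ≫ I.ι.f 0 := by
    rw [HomologicalComplex.smul_f_apply, HomologicalComplex.id_f, Linear.comp_smul, Category.comp_id,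
      Linear.smul_comp]
    exact congrArg (a • ·) (Category.id_comp _).symm
  have h := InjectiveResolution.isoRightDerivedObj_hom_naturality (a • 𝟙 N) I I (a • 𝟙 I.cocomplex) w (homL M) n
  rw [Functor.comp_map] at h
  rw [((homL M).mapHomologicalComplex (ComplexShape.up ℕ)).map_smul] at h
  rw [CategoryTheory.Functor.map_id] at h
  rw [HomologicalComplex.homologyFunctor_map, homologyMap_smul_id] at h
  rw [← cancel_mono (I.isoRightDerivedObj (homL M) n).hom, h, Linear.comp_smul, Linear.smul_comp,
    Category.id_comp]
  exact congrArg (fun t => a • t) (Category.comp_id _)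

/-- The right derived functors of `Hom(M, -)` are the Ext modules. -/
theorem nonempty_rightDerived_homL (N : ModuleCat.{u} R) (n : ℕ) :
    Nonempty (((homL M).rightDerived n).obj N ≃ₗ[R] Abelian.Ext M N n) := by
  let e : (homL M).rightDerived n ⋙ forget₂ (ModuleCat.{u} R) AddCommGrpCat.{u} ≅
      Abelian.extFunctorObj M n :=
    (SiteBase.rightDerivedCompIso (homL M) (forget₂ (ModuleCat.{u} R) AddCommGrpCat.{u}) n).symm ≪≫
      SiteBase.rightDerivedCongr (F := homL M ⋙ forget₂ (ModuleCat.{u} R) AddCommGrpCat.{u})
        (G := SpObjSS.homFrom M)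
        (NatIso.ofComponents (fun _ => Iso.refl _) (fun _ => (Category.comp_id _).trans (Category.id_comp _).symm)) n ≪≫
      SuppCore.rightDerivedHomFromNatIso M n
  let f : ↑(((homL M).rightDerived n).obj N) ≃+ Abelian.Ext M N n := (e.app N).addCommGroupIsoToAddEquiv
  refine ⟨{ f with map_smul' := fun a z => ?_ }⟩
  show f (a • z) = a • f z
  have h := ConcreteCategory.congr_hom (e.hom.naturality (a • 𝟙 N)) z
  have h1 : ((homL M).rightDerived n ⋙ forget₂ (ModuleCat.{u} R) AddCommGrpCat.{u}).map (a • 𝟙 N) z = a • z := by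
    show ((homL M).rightDerived n).map (a • 𝟙 N) z = a • z
    rw [rightDerived_homL_map_smul]
    rfl
  rw [Abelian.Ext.smul_eq_comp_mk₀]
  exact (congrArg f h1).symm.trans h

end Groth.Agent.ExtShX
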