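import Groth.Prelude.Def_ModSite2
import Groth.Prelude.Def_DerSch
import Groth.Prelude.Def_RefHull
import Groth.Prelude.Def_MeroDiv
import Groth.Agent.ExtShX.RingExt
import Groth.Agent.SiteBase.DerivedPrecomp
import Mathlib

/-!
# Stalks at a point of the site of opens versus stalks on the space
-/

set_option autoImplicit false
set_option linter.style.haveILetI false
set_option backward.isDefEq.respectTransparency false
set_option backward.isDefEq.respectTransparency.types false

universe u

open CategoryTheory CategoryTheory.Limits AlgebraicGeometry TopologicalSpace Opposite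

namespace Groth.Agent.ExtShX

variable (X : Scheme.{u}) (x : X)

/-- The point of the site of opens given by `x`. -/
noncomputable abbrev pt : GrothendieckTopology.Point.{u} (Opens.grothendieckTopology X) :=
  Opens.pointGrothendieckTopology x

/-- The comparison map of the two stalks of the structure sheaf. -/
noncomputable def ringCmp : ModSite.stalkRing (pt X x) X.sheaf ⟶ X.presheaf.stalk x :=
  (pt X x).presheafFiberDesc (P := X.sheaf.obj) (fun U h => X.presheaf.germ U x h.down.down)
    (fun _ _ f h => X.presheaf.germ_res f x h.down.down)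

theorem ringCmp_germ (U : X.Opens) (h : (pt X x).fiber.obj U) (r : Γ(X, U)) :
    (ringCmp X x).hom (ModSite.germRing (O := X.sheaf) (pt X x) U h r) = X.presheaf.germ U x h.down.down r :=
  ConcreteCategory.congr_hom ((pt X x).toPresheafFiber_presheafFiberDesc (P := X.sheaf.obj)
    (fun U h => X.presheaf.germ U x h.down.down) (fun _ _ f h => X.presheaf.germ_res f x h.down.down) U h) r

theorem ringCmp_bijective : Function.Bijective (ringCmp X x).hom := by
  constructor
  · intro a b hab
    obtain ⟨U, h, a₀, b₀, rfl, rfl⟩ := (pt X x).toPresheafFiber_jointly_surjective₂ (P := X.sheaf.obj) a b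
    rw [ringCmp_germ, ringCmp_germ] at hab
    obtain ⟨W, hxW, i, i', e⟩ := X.presheaf.germ_eq x h.down.down h.down.down a₀ b₀ hab
    refine ((pt X x).toPresheafFiber_eq_iff' (P := X.sheaf.obj) U h a₀ b₀).2 ⟨W, i, ⟨⟨hxW⟩⟩, Subsingleton.elim _ _, ?_⟩
    rw [Subsingleton.elim i' i] at e
    exact e
  · intro t
    obtain ⟨U, hU, r, rfl⟩ := TopCat.Presheaf.exists_germ_eq X.presheaf t
    exact ⟨_, ringCmp_germ X x U ⟨⟨hU⟩⟩ r⟩

/-- The comparison map of the two stalks of a module. -/
noncomputable def modCmp (M : X.Modules) : ModSite.stalkAb (O := X.sheaf) (pt X x) M ⟶ M.presheaf.stalk x :=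
  (pt X x).presheafFiberDesc (P := (ModSite.toAb (O := X.sheaf) M).obj) (fun U h => M.presheaf.germ U x h.down.down)
    (fun _ _ f h => M.presheaf.germ_res f x h.down.down)

theorem modCmp_germ (M : X.Modules) (U : X.Opens) (h : (pt X x).fiber.obj U) (s : Γ(M, U)) :
    (modCmp X x M).hom (ModSite.germ (O := X.sheaf) (pt X x) M U h s) = M.presheaf.germ U x h.down.down s :=
  ConcreteCategory.congr_hom ((pt X x).toPresheafFiber_presheafFiberDesc (P := (ModSite.toAb (O := X.sheaf) M).obj)
    (fun U h => M.presheaf.germ U x h.down.down) (fun _ _ f h => M.presheaf.germ_res f x h.down.down) U h) s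

theorem modCmp_bijective (M : X.Modules) : Function.Bijective (modCmp X x M).hom := by
  constructor
  · intro a b hab
    obtain ⟨U, h, a₀, b₀, rfl, rfl⟩ :=
      (pt X x).toPresheafFiber_jointly_surjective₂ (P := (ModSite.toAb (O := X.sheaf) M).obj) a b
    rw [modCmp_germ, modCmp_germ] at hab
    obtain ⟨W, hxW, i, i', e⟩ := M.presheaf.germ_eq x h.down.down h.down.down a₀ b₀ hab
    refine ((pt X x).toPresheafFiber_eq_iff' (P := (ModSite.toAb (O := X.sheaf) M).obj) U h a₀ b₀).2
      ⟨W, i, ⟨⟨hxW⟩⟩, Subsingleton.elim _ _, ?_⟩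
    rw [Subsingleton.elim i' i] at e
    exact e
  · intro t
    obtain ⟨U, hU, s, rfl⟩ := TopCat.Presheaf.exists_germ_eq M.presheaf t
    exact ⟨_, modCmp_germ X x M U ⟨⟨hU⟩⟩ s⟩

theorem modCmp_smul (M : X.Modules) (r : ModSite.stalkRing (pt X x) X.sheaf)
    (m : ModSite.stalkAb (O := X.sheaf) (pt X x) M) :
    (modCmp X x M).hom (r • m) = (ringCmp X x).hom r • (modCmp X x M).hom m := by
  obtain ⟨U, hU, r₀, rfl⟩ := (pt X x).toPresheafFiber_jointly_surjective (P := X.sheaf.obj) r
  obtain ⟨V, hV, m₀, rfl⟩ := (pt X x).toPresheafFiber_jointly_surjective (P := (ModSite.toAb (O := X.sheaf) M).obj) m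
  have hx : x ∈ U ⊓ V := ⟨hU.down.down, hV.down.down⟩
  have e₁ := (pt X x).toPresheafFiber_w_apply (homOfLE (inf_le_left : U ⊓ V ≤ U)) ⟨⟨hx⟩⟩ X.sheaf.obj r₀
  have e₂ := (pt X x).toPresheafFiber_w_apply (homOfLE (inf_le_right : U ⊓ V ≤ V)) ⟨⟨hx⟩⟩
      (ModSite.toAb (O := X.sheaf) M).obj m₀
  have key : ∀ (W : X.Opens) (h : (pt X x).fiber.obj W) (r : Γ(X, W)) (m : Γ(M, W)),
      (modCmp X x M).hom (ModSite.germRing (O := X.sheaf) (pt X x) W h r • ModSite.germ (O := X.sheaf) (pt X x) M W h m) =
        (ringCmp X x).hom (ModSite.germRing (O := X.sheaf) (pt X x) W h r) •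
          (modCmp X x M).hom (ModSite.germ (O := X.sheaf) (pt X x) M W h m) := by
    intro W h r m
    rw [← ModSite.germ_smul, modCmp_germ, modCmp_germ, ringCmp_germ]
    exact Mero.germ_smul M W x h.down.down r m
  have E₁ := e₁.trans (congrArg (fun t => (pt X x).toPresheafFiber U t X.sheaf.obj r₀) (Subsingleton.elim _ hU))
  have E₂ := e₂.trans (congrArg (fun t => (pt X x).toPresheafFiber V t (ModSite.toAb (O := X.sheaf) M).obj m₀)
    (Subsingleton.elim _ hV))
  exact E₁ ▸ E₂ ▸ key (U ⊓ V) ⟨⟨hx⟩⟩ _ _

section Transfer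

variable {R S : Type u} [CommRing R] [CommRing S] (e : R ≃+* S)

/-- Restriction of scalars along a ring isomorphism. -/
noncomputable abbrev resE : ModuleCat.{u} S ⥤ ModuleCat.{u} R := ModuleCat.restrictScalars e.toRingHom

/-- `Hom` commutes with restriction of scalars along a ring isomorphism. -/
noncomputable def resHomIso (M : ModuleCat.{u} S) :
    resE e ⋙ homL ((resE e).obj M) ≅ homL M ⋙ resE e :=
  NatIso.ofComponents
    (fun N =>
      (({ Equiv.symm ((Functor.FullyFaithful.ofFullyFaithful (resE e)).homEquiv (X := M) (Y := N)) with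
          map_add' := fun f g => ((resE e).map_injective (by
            refine ((Functor.FullyFaithful.ofFullyFaithful (resE e)).map_preimage _).trans ?_
            refine Eq.trans ?_ ((resE e).map_add).symm
            exact congrArg₂ (· + ·) ((Functor.FullyFaithful.ofFullyFaithful (resE e)).map_preimage f).symm
              ((Functor.FullyFaithful.ofFullyFaithful (resE e)).map_preimage g).symm))
          map_smul' := fun r f => ((resE e).map_injective (by
            refine ((Functor.FullyFaithful.ofFullyFaithful (resE e)).map_preimage _).trans ?_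
            refine ModuleCat.hom_ext (LinearMap.ext fun v => ?_)
            show e r • (show (resE e).obj M ⟶ (resE e).obj N from f).hom v = e r • _
            exact congrArg (e r • ·) (ConcreteCategory.congr_hom
              ((Functor.FullyFaithful.ofFullyFaithful (resE e)).map_preimage f) v).symm)) } :
        ↑((resE e ⋙ homL ((resE e).obj M)).obj N) ≃ₗ[R] ↑((homL M ⋙ resE e).obj N))).toModuleIso)
    (fun {N N'} p => ModuleCat.hom_ext (LinearMap.ext fun f => (resE e).map_injective (by
      refine ((Functor.FullyFaithful.ofFullyFaithful (resE e)).map_preimage _).trans ?_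
      exact ((congrArg (fun t => t ≫ (resE e).map p)
        ((Functor.FullyFaithful.ofFullyFaithful (resE e)).map_preimage f)).symm.trans
          ((resE e).map_comp _ _).symm))))

theorem nonempty_ext_restrict (M N : ModuleCat.{u} S) (n : ℕ) :
    Nonempty ((resE e).obj (ModuleCat.of S (Abelian.Ext M N n)) ≅
      ModuleCat.of R (Abelian.Ext ((resE e).obj M) ((resE e).obj N) n)) := by
  obtain ⟨fS⟩ := nonempty_rightDerived_homL M N n
  obtain ⟨fR⟩ := nonempty_rightDerived_homL ((resE e).obj M) ((resE e).obj N) n
  haveI : (resE e).PreservesInjectiveObjects :=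
    Functor.preservesInjectiveObjects_of_adjunction_of_preservesMonomorphisms (resE e).asEquivalence.symm.toAdjunction
  let i := (SiteBase.rightDerivedCompIso (homL M) (resE e) n).symm ≪≫
    SiteBase.rightDerivedCongr (resHomIso e M).symm n ≪≫
      SiteBase.rightDerivedPrecompIso (resE e) (homL ((resE e).obj M)) n
  exact ⟨(resE e).mapIso fS.toModuleIso.symm ≪≫ i.app N ≪≫ fR.toModuleIso⟩

end Transfer

theorem nonempty_ext_congr {R : Type u} [CommRing R] {M M' N N' : ModuleCat.{u} R} (a : M' ≅ M) (b : N ≅ N') (n : ℕ) :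
    Nonempty (ModuleCat.of R (Abelian.Ext M N n) ≅ ModuleCat.of R (Abelian.Ext M' N' n)) := by
  obtain ⟨f⟩ := nonempty_rightDerived_homL M N n
  obtain ⟨f'⟩ := nonempty_rightDerived_homL M' N' n
  let t : homL M ≅ homL M' := (linearCoyoneda R (ModuleCat.{u} R)).mapIso a.op
  exact ⟨f.toModuleIso.symm ≪≫ (SiteBase.rightDerivedCongr t n).app N ≪≫ ((homL M').rightDerived n).mapIso b ≪≫
    f'.toModuleIso⟩

/-- The comparison of stalks as an isomorphism of rings. -/
noncomputable def ringEq : ModSite.stalkRing (pt X x) X.sheaf ≃+* X.presheaf.stalk x :=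
  RingEquiv.ofBijective (ringCmp X x).hom (ringCmp_bijective X x)

/-- The stalk at the point of the site is the stalk at the point. -/
noncomputable def stalkModIso (M : X.Modules) :
    ModSite.stalkMod (O := X.sheaf) (pt X x) M ≅ (resE (ringEq X x)).obj ((DerSch.stalkFunctor X x).obj M) :=
  LinearEquiv.toModuleIso (R := ModSite.stalkRing (pt X x) X.sheaf)
    (LinearEquiv.ofBijective
      ({ toFun := (modCmp X x M).hom, map_add' := map_add _, map_smul' := fun r m => modCmp_smul X x M r m } :
        ModSite.stalkAb (O := X.sheaf) (pt X x) M →ₗ[ModSite.stalkRing (pt X x) X.sheaf]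
          ↑((resE (ringEq X x)).obj ((DerSch.stalkFunctor X x).obj M)))
      (modCmp_bijective X x M))

end Groth.Agent.ExtShX
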