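import Groth.Agent.ExtShX.Tilde
import Groth.Agent.KFlatLib.Scheme.ExtZero
import Groth.Agent.QCoh.Local
import Groth.Agent.ExtShX.Site
import Groth.Agent.ModTensor.SheafHom
import Groth.Agent.KZ.LFRes
import Groth.Agent.QCoh.FT
import Mathlib

/-!
# Local Ext sheaves on affine opens; coherence
-/

set_option autoImplicit false
set_option linter.style.haveILetI false
set_option backward.isDefEq.respectTransparency false
set_option backward.isDefEq.respectTransparency.types false

universe u

open CategoryTheory CategoryTheory.Limits AlgebraicGeometry TopologicalSpace Opposite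

namespace Groth.Agent.ExtShX

/-- Ext modules of finite modules over a Noetherian ring are finite. -/
theorem finite_ext {A : Type u} [CommRing A] [IsNoetherianRing A] (N : ModuleCat.{u} A) [Module.Finite A N] (i : ℕ) :
    ∀ (M : ModuleCat.{u} A) [Module.Finite A M], Module.Finite A (Abelian.Ext M N i) := by
  induction i with
  | zero =>
    intro M _
    exact Module.Finite.equiv ((ModuleCat.homLinearEquiv (S := A)).symm.trans Abelian.Ext.linearEquiv₀.symm)
  | succ i ih =>
    intro M _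
    obtain ⟨k, π, hπ⟩ := Module.Finite.exists_fin' A M
    let S : ShortComplex (ModuleCat.{u} A) := ShortComplex.mk
      (ModuleCat.ofHom (LinearMap.ker π).subtype) (ModuleCat.ofHom π)
      (ModuleCat.hom_ext (LinearMap.comp_ker_subtype π))
    have hS : S.ShortExact :=
      { exact := (ShortComplex.ShortExact.moduleCat_exact_iff_function_exact S).2 (LinearMap.exact_subtype_ker_map π)
        mono_f := (ModuleCat.mono_iff_injective _).2 (Submodule.injective_subtype _)
        epi_g := (ModuleCat.epi_iff_surjective _).2 hπ }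
    haveI : Module.Finite A (ModuleCat.of A (LinearMap.ker π)) := Module.Finite.of_fg (IsNoetherian.noetherian _)
    haveI : Projective S.X₂ := (IsProjective.iff_projective (R := A) (Fin k → A)).1 inferInstance
    haveI := ih (ModuleCat.of A (LinearMap.ker π))
    refine Module.Finite.of_surjective (R := A) (M := Abelian.Ext S.X₁ N i)
      (hS.extClass.precompOfLinear A N (Nat.add_comm 1 i)) fun x => ?_
    obtain ⟨y, hy⟩ := Abelian.Ext.contravariant_sequence_exact₃ hS N x
      (Abelian.Ext.eq_zero_of_projective _) (Nat.add_comm 1 i)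
    exact ⟨y, hy⟩

variable {X : Scheme.{u}}

theorem nonempty_extSh_congr {F F' : X.Modules} (a : F ≅ F') [ModSite.HasSheafHom (O := X.sheaf) F]
    [ModSite.HasSheafHom (O := X.sheaf) F'] [HasInjectiveResolutions (ModSite.Mod X.sheaf)] (G : X.Modules) (i : ℕ) :
    Nonempty ((ModSite.extSh (O := X.sheaf) F i).obj G ≅ (ModSite.extSh (O := X.sheaf) F' i).obj G) := by
  haveI : HasInjectiveResolutions X.Modules := ‹HasInjectiveResolutions (ModSite.Mod X.sheaf)›
  let S : X.Modules ⥤ X.Modules := ModSite.sheafHom (O := X.sheaf) F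
  let S' : X.Modules ⥤ X.Modules := ModSite.sheafHom (O := X.sheaf) F'
  haveI : S.Additive := ModSite.sheafHom_additive X.sheaf F
  haveI : S'.Additive := ModSite.sheafHom_additive X.sheaf F'
  let e : S ≅ S' := ((ModSite.sheafHomAdj (O := X.sheaf) F).ofNatIsoLeft
    ((ModSite.tensorBi X.sheaf).flip.mapIso a)).rightAdjointUniq (ModSite.sheafHomAdj (O := X.sheaf) F')
  exact ⟨(SiteBase.rightDerivedCongr e i).app G⟩

/-- Ext sheaves restrict along open immersions. -/
theorem nonempty_restrict_extSh {V : Scheme.{u}} (j : V ⟶ X) [IsOpenImmersion j] (F G : X.Modules) (i : ℕ)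
    [ModSite.HasSheafHom (O := X.sheaf) F] [HasInjectiveResolutions (ModSite.Mod X.sheaf)]
    [ModSite.HasSheafHom (O := V.sheaf) (F.restrict j)]
    [HasInjectiveResolutions (ModSite.Mod V.sheaf)] :
    Nonempty ((Scheme.Modules.restrictFunctor j).obj ((ModSite.extSh (O := X.sheaf) F i).obj G) ≅
      (ModSite.extSh (O := V.sheaf) (F.restrict j) i).obj (G.restrict j)) := by
  haveI : HasInjectiveResolutions X.Modules := ‹HasInjectiveResolutions (ModSite.Mod X.sheaf)›
  haveI : HasInjectiveResolutions V.Modules := ‹HasInjectiveResolutions (ModSite.Mod V.sheaf)›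
  haveI : EnoughInjectives X.Modules :=
    SpObjSS.enoughInjectives_of_hasInjectiveResolutions (C := ModSite.Mod X.sheaf)
  haveI : EnoughInjectives V.Modules :=
    SpObjSS.enoughInjectives_of_hasInjectiveResolutions (C := ModSite.Mod V.sheaf)
  let R := Scheme.Modules.restrictFunctor j
  haveI : R.IsLeftAdjoint := ⟨_, ⟨Scheme.Modules.restrictAdjunction j⟩⟩
  haveI : R.IsRightAdjoint := KFlatLib.isRightAdjoint_restrictFunctor j
  haveI : R.Additive := Functor.additive_of_preserves_binary_products _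
  haveI : PreservesFiniteLimits R := by
    have : PreservesLimitsOfSize.{0, 0} R := (KFlatLib.lshAdj j).rightAdjoint_preservesLimits
    exact ⟨fun _ => inferInstance⟩
  haveI : PreservesFiniteColimits R := by
    have : PreservesColimitsOfSize.{0, 0} R := (Scheme.Modules.restrictAdjunction j).leftAdjoint_preservesColimits
    exact ⟨fun _ => inferInstance⟩
  haveI : R.PreservesInjectiveObjects :=
    ⟨fun {Q} hQ => (KFlatLib.lshAdj j).map_injective Q hQ⟩
  let SX : X.Modules ⥤ X.Modules := ModSite.sheafHom (O := X.sheaf) F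
  let SV : V.Modules ⥤ V.Modules := ModSite.sheafHom (O := V.sheaf) (F.restrict j)
  haveI : SX.Additive := ModSite.sheafHom_additive X.sheaf F
  haveI : SV.Additive := ModSite.sheafHom_additive V.sheaf (F.restrict j)
  let TX : X.Modules ⥤ X.Modules := (ModSite.tensorBi X.sheaf).flip.obj F
  let TV : V.Modules ⥤ V.Modules := (ModSite.tensorBi V.sheaf).flip.obj (F.restrict j)
  let aX : TX ⊣ SX := ModSite.sheafHomAdj (O := X.sheaf) F
  let aV : TV ⊣ SV := ModSite.sheafHomAdj (O := V.sheaf) (F.restrict j)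
  let p : TV ⋙ KFlatLib.lsh j ≅ KFlatLib.lsh j ⋙ TX :=
    Functor.isoWhiskerRight (KFlatLib.projIso j) ((CategoryTheory.evaluation _ _).obj F)
  let e : SX ⋙ R ≅ R ⋙ SV :=
    (((KFlatLib.lshAdj j).comp aX).ofNatIsoLeft p.symm).rightAdjointUniq (aV.comp (KFlatLib.lshAdj j))
  exact ⟨((SiteBase.rightDerivedCompIso SX R i).symm ≪≫ SiteBase.rightDerivedCongr e i ≪≫
    SiteBase.rightDerivedPrecompIso R SV i).app G⟩

theorem hasInjRes (Y : Scheme.{u}) : HasInjectiveResolutions (ModSite.Mod Y.sheaf) := inferInstance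

set_option maxHeartbeats 1000000 in
/-- The Ext sheaf on an affine open. -/
theorem nonempty_extSh_chart [IsLocallyNoetherian X] {F G : X.Modules} (hF : Coh.IsCoh F) (hG : Coh.IsQCoh G)
    [ModSite.HasSheafHom (O := X.sheaf) F] [HasInjectiveResolutions (ModSite.Mod X.sheaf)]
    {U : X.Opens} (hU : IsAffineOpen U) (i : ℕ) :
    Nonempty ((Scheme.Modules.restrictFunctor hU.fromSpec).obj ((ModSite.extSh (O := X.sheaf) F i).obj G) ≅
      tilde (ModuleCat.of Γ(X, U) (Abelian.Ext (moduleSpecΓFunctor.obj (F.restrict hU.fromSpec))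
        (moduleSpecΓFunctor.obj (G.restrict hU.fromSpec)) i))) := by
  haveI := hasInjRes (Spec Γ(X, U))
  haveI : ∀ M : (Spec Γ(X, U)).Modules, ModSite.HasSheafHom (O := (Spec Γ(X, U)).sheaf) M :=
    fun M => ModTensor.hasSheafHom (O := (Spec Γ(X, U)).sheaf) M
  haveI : IsNoetherianRing Γ(X, U) := IsLocallyNoetherian.component_noetherian ⟨U, hU⟩
  haveI := QCoh.finitePresentation_of_isFP (KZ.LFRes.isFP_of_isCoh hF) hU
  haveI := (isQuasicoherent_iff_isIso_fromTildeΓ (F.restrict hU.fromSpec)).1 (QCoh.isQCoh_restrict hU.fromSpec hF.1)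
  haveI := (isQuasicoherent_iff_isIso_fromTildeΓ (G.restrict hU.fromSpec)).1 (QCoh.isQCoh_restrict hU.fromSpec hG)
  let eF : F.restrict hU.fromSpec ≅ tilde (moduleSpecΓFunctor.obj (F.restrict hU.fromSpec)) :=
    (asIso (F.restrict hU.fromSpec).fromTildeΓ).symm
  let eG : G.restrict hU.fromSpec ≅ tilde (moduleSpecΓFunctor.obj (G.restrict hU.fromSpec)) :=
    (asIso (G.restrict hU.fromSpec).fromTildeΓ).symm
  obtain ⟨a⟩ := nonempty_restrict_extSh hU.fromSpec F G i
  obtain ⟨b⟩ := nonempty_extSh_congr eF (G.restrict hU.fromSpec) i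
  obtain ⟨c⟩ := nonempty_extSh_tilde (M := moduleSpecΓFunctor.obj (F.restrict hU.fromSpec))
    (moduleSpecΓFunctor.obj (G.restrict hU.fromSpec))
    (Module.FinitePresentation.of_equiv (QCoh.chartEquiv hU F)) i
  let T : (Spec Γ(X, U)).Modules ⥤ (Spec Γ(X, U)).Modules := ModSite.extSh (O := (Spec Γ(X, U)).sheaf)
    (tilde (moduleSpecΓFunctor.obj (F.restrict hU.fromSpec))) i
  exact ⟨Iso.trans a (Iso.trans b (Iso.trans (T.mapIso eG) c))⟩

set_option maxHeartbeats 1000000 in
/-- Sections of the Ext sheaf over an affine open. -/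
theorem nonempty_extSh_sections [IsLocallyNoetherian X] {F G : X.Modules} (hF : Coh.IsCoh F) (hG : Coh.IsQCoh G)
    [ModSite.HasSheafHom (O := X.sheaf) F] [HasInjectiveResolutions (ModSite.Mod X.sheaf)]
    {U : X.Opens} (hU : IsAffineOpen U) (i : ℕ) :
    Nonempty (Γ((ModSite.extSh (O := X.sheaf) F i).obj G, U) ≃ₗ[Γ(X, U)]
      Abelian.Ext (ModuleCat.of Γ(X, U) Γ(F, U)) (ModuleCat.of Γ(X, U) Γ(G, U)) i) := by
  obtain ⟨e⟩ := nonempty_extSh_chart hF hG hU i
  obtain ⟨c⟩ := nonempty_ext_congr (QCoh.chartEquiv hU F).toModuleIso (QCoh.chartEquiv hU G).toModuleIso.symm i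
  exact ⟨(QCoh.chartEquiv hU _).trans ((moduleSpecΓFunctor.mapIso e ≪≫
    (tilde.isoTop _).symm ≪≫ c).toLinearEquiv)⟩

set_option maxHeartbeats 1000000 in
theorem isQCoh_extSh [IsLocallyNoetherian X] {F G : X.Modules} (hF : Coh.IsCoh F) (hG : Coh.IsQCoh G)
    [ModSite.HasSheafHom (O := X.sheaf) F] [HasInjectiveResolutions (ModSite.Mod X.sheaf)] (i : ℕ) :
    Coh.IsQCoh ((ModSite.extSh (O := X.sheaf) F i).obj G) :=
  QCoh.isQCoh_of_isOpenCover (fun U : X.affineOpens => U.1)
    (top_unique fun x _ => by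
      obtain ⟨_, ⟨U, hU, rfl⟩, hxU, -⟩ := X.isBasis_affineOpens.exists_subset_of_mem_open (Set.mem_univ x) isOpen_univ
      exact Opens.mem_iSup.2 ⟨⟨U, hU⟩, hxU⟩)
    fun U => by
      obtain ⟨e⟩ := nonempty_extSh_chart hF hG U.2 i
      exact KFlatLib.isQCoh_of_iso
        ((Scheme.Modules.restrictFunctor U.2.isoSpec.hom).mapIso e.symm ≪≫ QCoh.chartRestrictIso U.2 _)
        (QCoh.isQCoh_restrict _ (inferInstance : Coh.IsQCoh (tilde _)))

theorem isCoh_extSh [IsLocallyNoetherian X] {F G : X.Modules} (hF : Coh.IsCoh F) (hG : Coh.IsCoh G)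
    [ModSite.HasSheafHom (O := X.sheaf) F] [HasInjectiveResolutions (ModSite.Mod X.sheaf)] (i : ℕ) :
    Coh.IsCoh ((ModSite.extSh (O := X.sheaf) F i).obj G) := by
  refine QCoh.isCoh_iff.2 ⟨isQCoh_extSh hF hG.1 i, fun U => ?_⟩
  haveI : IsNoetherianRing Γ(X, U.1) := IsLocallyNoetherian.component_noetherian U
  haveI : Module.Finite Γ(X, U.1) Γ(F, U.1) := (QCoh.isCoh_iff.1 hF).2 U
  haveI : Module.Finite Γ(X, U.1) Γ(G, U.1) := (QCoh.isCoh_iff.1 hG).2 U
  obtain ⟨e⟩ := nonempty_extSh_sections hF hG.1 U.2 i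
  haveI := finite_ext (ModuleCat.of Γ(X, U.1) Γ(G, U.1)) i (ModuleCat.of Γ(X, U.1) Γ(F, U.1))
  exact Module.Finite.equiv e.symm

end Groth.Agent.ExtShX
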