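import Groth.Agent.ExtShX.FundSpread
import Groth.Agent.ExtShX.Affine
import Groth.Agent.S0019
import Groth.Agent.HilbFib.Pn
import Groth.Agent.GrpdLib.AffLocQuot
import Groth.Agent.CanonTriv.TopPow
import Groth.Agent.ChangeRings.Basic
import Groth.Agent.Lib.CurveDeg
import Mathlib

/-!
# The fundamental local isomorphism
-/

set_option autoImplicit false
set_option linter.style.haveILetI false
set_option linter.unusedSectionVars false
set_option backward.isDefEq.respectTransparency false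
set_option backward.isDefEq.respectTransparency.types false
set_option maxHeartbeats 1000000

universe u

open CategoryTheory CategoryTheory.Limits AlgebraicGeometry TopologicalSpace Opposite
open Groth.Agent.WiebeLib
open RefHull (stalkMapₗ stalkMapₗ_germ evalStalk evalStalk_germ homSh StalkHom)

noncomputable section

namespace Groth.Agent.ExtShX.Fund

variable {P X : Scheme.{u}} (ι : X ⟶ P) [IsClosedImmersion ι] {r : ℕ} {F : P.Modules}
  (I : InjectiveResolution F) [ModSite.HasSheafHom (O := P.sheaf) (OX ι)]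

instance additive_SH_OX : (ModSite.sheafHom (O := P.sheaf) (OX ι) : P.Modules ⥤ P.Modules).Additive :=
  ModSite.sheafHom_additive P.sheaf _

/-- `Hom(ι_* O_X, I•)`. -/
abbrev Kc : CochainComplex P.Modules ℕ :=
  ((ModSite.sheafHom (O := P.sheaf) (OX ι) : P.Modules ⥤ P.Modules).mapHomologicalComplex _).obj I.cocomplex

/-- The cochain underlying a germ of a cocycle. -/
def ζ (i : ℕ) (x : P) : ((Kc ι I).cycles i).presheaf.stalk x →ₗ[P.presheaf.stalk x] (I.cocomplex.X i).presheaf.stalk x :=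
  (ev₁ ι (I.cocomplex.X i) x).comp (stalkMapₗ ((Kc ι I).iCycles i) x)

theorem ζ_apply (i : ℕ) (x : P) (z : ((Kc ι I).cycles i).presheaf.stalk x) :
    ζ ι I i x z = ev₁ ι (I.cocomplex.X i) x (stalkMapₗ ((Kc ι I).iCycles i) x z) := rfl

theorem ζ_J (i : ℕ) (x : P) (z : ((Kc ι I).cycles i).presheaf.stalk x) {c : P.presheaf.stalk x} (hc : c ∈ Jst ι x) :
    c • ζ ι I i x z = 0 := by
  rw [ζ_apply]
  exact Jst_smul_ev₁ ι (I.cocomplex.X i) x hc _

theorem ζ_d (i : ℕ) (x : P) (z : ((Kc ι I).cycles i).presheaf.stalk x) : di I x i (ζ ι I i x z) = 0 := by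
  rw [ζ_apply, di, ← ev₁_natural]
  exact (congrArg _ (stalk_comp_zero ((Kc ι I).iCycles i) ((Kc ι I).d i (i + 1)) ((Kc ι I).iCycles_d i (i + 1)) x z)).trans (map_zero _)

theorem ζ_injective (hFP : CohB1.IsFP (OX ι)) (i : ℕ) (x : P) : Function.Injective (ζ ι I i x) :=
  (ev₁_injective ι hFP (I.cocomplex.X i) x).comp (stalk_injective_of_mono _ x)

theorem exists_ζ (hFP : CohB1.IsFP (OX ι)) (i : ℕ) (x : P) (s : (I.cocomplex.X i).presheaf.stalk x)
    (hs : ∀ c ∈ Jst ι x, c • s = 0) (hds : di I x i s = 0) : ∃ z, ζ ι I i x z = s := by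
  obtain ⟨θ, hθ⟩ := exists_ev₁ ι hFP (I.cocomplex.X i) x s hs
  have hθd : stalkMapₗ ((Kc ι I).d i (i + 1)) x θ = 0 := ev₁_injective ι hFP (I.cocomplex.X (i + 1)) x (by
    rw [map_zero]
    refine (ev₁_natural ι (I.cocomplex.d i (i + 1)) x θ).trans ?_
    rw [hθ]
    exact hds)
  obtain ⟨z, hz⟩ := stalk_exact_elem (ShortComplex.exact_of_f_is_kernel
    (ShortComplex.mk ((Kc ι I).iCycles i) ((Kc ι I).d i (i + 1)) ((Kc ι I).iCycles_d i (i + 1)))
    ((Kc ι I).cyclesIsKernel i (i + 1) (by simp))) x θ hθd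
  exact ⟨z, by rw [ζ_apply]; exact (congrArg _ hz).trans hθ⟩

/-- The section underlying a section of cocycles. -/
def ζSec (i : ℕ) (U : P.Opens) (z : Γ((Kc ι I).cycles i, U)) : Γ(I.cocomplex.X i, U) :=
  ev₁Sec ι (I.cocomplex.X i) U (((Kc ι I).iCycles i).app U z)

theorem germ_ζSec (i : ℕ) (U : P.Opens) (z : Γ((Kc ι I).cycles i, U)) (x : P) (hx : x ∈ U) :
    (I.cocomplex.X i).presheaf.germ U x hx (ζSec ι I i U z) =
      ζ ι I i x (((Kc ι I).cycles i).presheaf.germ U x hx z) := by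
  rw [ζ_apply, stalkMapₗ_germ]
  exact germ_ev₁Sec ι _ U _ x hx

/-- A value of the zigzag in a chart. -/
def CVal (c : Chart ι r) (x : P) (hx : x ∈ c.U) (s : (I.cocomplex.X r).presheaf.stalk x) (m : F.presheaf.stalk x) :
    Prop :=
  ZigZag.Val (fun i => P.presheaf.germ c.U x hx (c.f i)) (di I x) (stalkMapₗ (εh I) x) s m

theorem f_mem_Jst (c : Chart ι r) (x : P) (hx : x ∈ c.U) (i : Fin r) :
    P.presheaf.germ c.U x hx (c.f i) ∈ Jst ι x := by
  rw [c.span x hx]; exact Ideal.subset_span ⟨i, rfl⟩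

theorem exists_cval (c : Chart ι r) (x : P) (hx : x ∈ c.U) (z : ((Kc ι I).cycles r).presheaf.stalk x) :
    ∃ m, CVal ι I c x hx (ζ ι I r x z) m :=
  ZigZag.exists_val (exists_εh I x) (exists_di I x) (fun i => ζ_J ι I r x z (f_mem_Jst ι c x hx i)) (ζ_d ι I r x z)

theorem η_cval_eq (c : Chart ι r) (x : P) (hx : x ∈ c.U) {s : (I.cocomplex.X r).presheaf.stalk x}
    {m m' : F.presheaf.stalk x} (h : CVal ι I c x hx s m) (h' : CVal ι I c x hx s m') :
    stalkMapₗ (η ι F) x m = stalkMapₗ (η ι F) x m' := by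
  rw [← sub_eq_zero, ← map_sub, η_stalk_eq_zero_iff, c.span x hx]
  exact ZigZag.val_sub_mem (εh_injective I x) (exists_εh I x) (exists_di I x) h h'

/-- A value at a point extends to values at all nearby points. -/
theorem exists_cval_section (c : Chart ι r) (W₀ : P.Opens) (hW₀ : W₀ ≤ c.U) (x : P) (hx : x ∈ W₀)
    (s₀ : Γ(I.cocomplex.X r, W₀)) {m : F.presheaf.stalk x}
    (hm : CVal ι I c x (hW₀ hx) ((I.cocomplex.X r).presheaf.germ W₀ x hx s₀) m) :
    ∃ (W : P.Opens) (hle : W ≤ W₀) (_ : x ∈ W) (w : Γ(F, W)), ∀ (y : P) (hy : y ∈ W),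
      CVal ι I c y (hW₀ (hle hy)) ((I.cocomplex.X r).presheaf.germ W₀ y (hle hy) s₀) (F.presheaf.germ W y hy w) := by
  obtain ⟨W, hW, -⟩ := hm
  let f₀ : Fin r → Γ(P, W₀) := fun t => AModX.resR hW₀ (c.f t)
  have hf₀ : (fun i => P.presheaf.germ W₀ x hx (f₀ i)) = fun i => P.presheaf.germ c.U x (hW₀ hx) (c.f i) :=
    funext fun t => RefX.germ_resR hW₀ hx (c.f t)
  obtain ⟨W₁, h₁, hx₁, Ws, hlift, -⟩ := spread I x r 0 (zero_add r) W₀ hx f₀ (fun _ => s₀) W (by
    rw [hf₀]; exact hW)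
  refine ⟨W₁, h₁, hx₁, Ws r (ZigZag.top r), fun y hy => ?_⟩
  have h1 := ZigZag.val_map (σ := (P.presheaf.germ W₁ y hy).hom)
    (fun j => germₛ (I.cocomplex.X j) W₁ y hy) (germₛ F W₁ y hy)
    (fun j v => (stalkMapₗ_germ (I.cocomplex.d j (j + 1)) y hy v).symm)
    (fun v => (stalkMapₗ_germ (εh I) y hy v).symm)
    (show ZigZag.Val (fun i => AModX.resR h₁ (f₀ i)) _ _ (AModX.res (I.cocomplex.X r) h₁ s₀) (Ws r (ZigZag.top r))
      from ⟨Ws, hlift, rfl⟩)
  have hf : (fun t => (P.presheaf.germ W₁ y hy).hom (AModX.resR h₁ (f₀ t))) =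
      fun t => P.presheaf.germ c.U y (hW₀ (h₁ hy)) (c.f t) := funext fun t =>
    (RefX.germ_resR h₁ hy (f₀ t)).trans (RefX.germ_resR hW₀ (h₁ hy) (c.f t))
  have hs : germₛ (I.cocomplex.X r) W₁ y hy (AModX.res (I.cocomplex.X r) h₁ s₀) =
      (I.cocomplex.X r).presheaf.germ W₀ y (h₁ hy) s₀ := RefX.germ_res _ h₁ hy s₀
  rw [hf, hs] at h1
  exact h1

section main

variable (hι : RegImm.IsRegularImmersionOfCodim RegImm.Kind.regular r ι) {L : X.Modules}
  (ω : ∀ c : Chart ι r, Γ((Scheme.Modules.pushforward ι).obj L, c.U))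
  (hω : ∀ (c : Chart ι r) (x : P) (hx : x ∈ c.U),
    (Function.Surjective fun b : P.presheaf.stalk x =>
      b • ((Scheme.Modules.pushforward ι).obj L).presheaf.germ c.U x hx (ω c)) ∧
    ∀ b : P.presheaf.stalk x, b • ((Scheme.Modules.pushforward ι).obj L).presheaf.germ c.U x hx (ω c) = 0 ↔
      b ∈ Jst ι x)
  (hωC : ∀ (c c' : Chart ι r) (x : P) (hx : x ∈ c.U) (hx' : x ∈ c'.U) (C : Matrix (Fin r) (Fin r) (P.presheaf.stalk x)),
    (∀ i, P.presheaf.germ c'.U x hx' (c'.f i) = ∑ j, C i j * P.presheaf.germ c.U x hx (c.f j)) →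
    ((Scheme.Modules.pushforward ι).obj L).presheaf.germ c'.U x hx' (ω c') =
      C.det • ((Scheme.Modules.pushforward ι).obj L).presheaf.germ c.U x hx (ω c))

/-- `ι_* L`. -/
abbrev PL : P.Modules := (Scheme.Modules.pushforward ι).obj L

/-- A map of stalks compatible with all zigzags of a cocycle. -/
def Good (x : P) (z : ((Kc ι I).cycles r).presheaf.stalk x) (h : StalkHom (PL ι (L := L)) (Qm ι F) x) : Prop :=
  ∀ (c : Chart ι r) (hx : x ∈ c.U) (m : F.presheaf.stalk x), CVal ι I c x hx (ζ ι I r x z) m →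
    h ((PL ι (L := L)).presheaf.germ c.U x hx (ω c)) = stalkMapₗ (η ι F) x m

include hι hω in
theorem good_unique (x : P) {z : ((Kc ι I).cycles r).presheaf.stalk x}
    {h h' : StalkHom (PL ι (L := L)) (Qm ι F) x} (hh : Good ι I ω x z h) (hh' : Good ι I ω x z h') : h = h' := by
  refine LinearMap.ext fun v => ?_
  by_cases hx : x ∈ Set.range ι
  · obtain ⟨a, rfl⟩ := hx
    obtain ⟨c, hc⟩ := exists_chart ι hι a
    obtain ⟨m, hm⟩ := exists_cval ι I c _ hc z
    obtain ⟨b, rfl⟩ := (hω c _ hc).1 v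
    show h (b • _) = h' (b • _)
    rw [map_smul, map_smul, hh c hc m hm, hh' c hc m hm]
  · haveI := H23.ClosedPushLen.subsingleton_stalk (f := ι) L hx
    rw [Subsingleton.elim v 0, map_zero, map_zero]

include hι hω hωC in
theorem exists_good (x : P) (z : ((Kc ι I).cycles r).presheaf.stalk x) :
    ∃ h, Good ι I ω x z h := by
  by_cases hx : x ∈ Set.range ι
  · obtain ⟨a, rfl⟩ := hx
    obtain ⟨c, hc⟩ := exists_chart ι hι a
    obtain ⟨m, hm⟩ := exists_cval ι I c _ hc z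
    let π := LinearMap.toSpanSingleton (P.presheaf.stalk (ι a)) ((PL ι (L := L)).presheaf.stalk (ι a))
      ((PL ι (L := L)).presheaf.germ c.U (ι a) hc (ω c))
    have hker : LinearMap.ker π ≤
        LinearMap.ker (LinearMap.toSpanSingleton (P.presheaf.stalk (ι a)) ((Qm ι F).presheaf.stalk (ι a))
          (stalkMapₗ (η ι F) (ι a) m)) := fun b hb => by
      show b • stalkMapₗ (η ι F) (ι a) m = 0
      rw [← map_smul, η_stalk_eq_zero_iff]
      exact Submodule.smul_mem_smul (((hω c _ hc).2 b).1 hb) trivial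
    let h : StalkHom (PL ι (L := L)) (Qm ι F) (ι a) :=
      ((LinearMap.ker π).liftQ _ hker) ∘ₗ (π.quotKerEquivOfSurjective (hω c _ hc).1).symm.toLinearMap
    have hh : h ((PL ι (L := L)).presheaf.germ c.U (ι a) hc (ω c)) = stalkMapₗ (η ι F) (ι a) m := by
      have h1 : (π.quotKerEquivOfSurjective (hω c _ hc).1).symm ((PL ι (L := L)).presheaf.germ c.U (ι a) hc (ω c)) =
          Submodule.Quotient.mk 1 := by
        rw [LinearEquiv.symm_apply_eq]
        exact (one_smul (P.presheaf.stalk (ι a)) _).symm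
      exact (congrArg ((LinearMap.ker π).liftQ _ hker) h1).trans (one_smul (P.presheaf.stalk (ι a)) _)
    refine ⟨h, fun c' hc' m' hm' => ?_⟩
    choose C hC using fun i => (Submodule.mem_span_range_iff_exists_fun (P.presheaf.stalk (ι a))).1
      ((c.span _ hc).le (f_mem_Jst ι c' _ hc' i))
    have hC' : ∀ i, P.presheaf.germ c'.U (ι a) hc' (c'.f i) =
        ∑ j, Matrix.of C i j * P.presheaf.germ c.U (ι a) hc (c.f j) := fun i => (hC i).symm
    rw [hωC c c' _ hc hc' (Matrix.of C) hC', map_smul, hh, ← map_smul]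
    exact η_cval_eq ι I c' _ hc' (ZigZag.val_change (Matrix.of C) hC' hm) hm'
  · haveI := H23.ClosedPushLen.subsingleton_stalk (f := ι) ((Scheme.Modules.pullback ι).obj F) hx
    exact ⟨0, fun c hc m _ => Subsingleton.elim _ _⟩

/-- The stalk maps. -/
def Θ (x : P) : ((Kc ι I).cycles r).presheaf.stalk x →ₗ[P.presheaf.stalk x] StalkHom (PL ι (L := L)) (Qm ι F) x where
  toFun z := (exists_good ι I hι ω hω hωC x z).choose
  map_add' z z' := good_unique ι I hι ω hω x (exists_good ι I hι ω hω hωC x (z + z')).choose_spec fun c hc m hm => by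
    obtain ⟨m₁, h₁⟩ := exists_cval ι I c x hc z
    obtain ⟨m₂, h₂⟩ := exists_cval ι I c x hc z'
    rw [LinearMap.add_apply, (exists_good ι I hι ω hω hωC x z).choose_spec c hc m₁ h₁,
      (exists_good ι I hι ω hω hωC x z').choose_spec c hc m₂ h₂, ← map_add]
    refine η_cval_eq ι I c x hc ?_ hm
    rw [map_add]
    exact ZigZag.val_add h₁ h₂
  map_smul' b z := good_unique ι I hι ω hω x (exists_good ι I hι ω hω hωC x (b • z)).choose_spec fun c hc m hm => by
    obtain ⟨m₁, h₁⟩ := exists_cval ι I c x hc z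
    rw [RingHom.id_apply, LinearMap.smul_apply, (exists_good ι I hι ω hω hωC x z).choose_spec c hc m₁ h₁, ← map_smul]
    refine η_cval_eq ι I c x hc ?_ hm
    rw [map_smul]
    exact ZigZag.val_smul b h₁

theorem Θ_spec (x : P) (z : ((Kc ι I).cycles r).presheaf.stalk x) : Good ι I ω x z (Θ ι I hι ω hω hωC x z) :=
  (exists_good ι I hι ω hω hωC x z).choose_spec

theorem isLocSect_Θ (U : P.Opens) (z : Γ((Kc ι I).cycles r, U)) :
    RefHull.IsLocSect (PL ι (L := L)) (Qm ι F)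
      fun x : U => Θ ι I hι ω hω hωC x.1 (((Kc ι I).cycles r).presheaf.germ U x.1 x.2 z) := by
  rintro V i μ ⟨x, hxV⟩
  by_cases hr : x ∈ Set.range ι
  · obtain ⟨a, rfl⟩ := hr
    obtain ⟨c, hc⟩ := exists_chart ι hι a
    let W₀ : P.Opens := V ⊓ c.U
    have hx₀ : ι a ∈ W₀ := ⟨hxV, hc⟩
    obtain ⟨m, hm⟩ := exists_cval ι I c _ hc (((Kc ι I).cycles r).presheaf.germ U (ι a) (i.le hxV) z)
    let s₀ : Γ(I.cocomplex.X r, W₀) :=
      AModX.res (I.cocomplex.X r) ((inf_le_left : W₀ ≤ V).trans i.le) (ζSec ι I r U z)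
    have hs₀ : ∀ (y : P) (hy : y ∈ W₀), (I.cocomplex.X r).presheaf.germ W₀ y hy s₀ =
        ζ ι I r y (((Kc ι I).cycles r).presheaf.germ U y (i.le hy.1) z) := fun y hy =>
      (RefX.germ_res (I.cocomplex.X r) ((inf_le_left : W₀ ≤ V).trans i.le) hy _).trans
        (germ_ζSec ι I r U z y (i.le hy.1))
    obtain ⟨W₁, h₁, hx₁, w, hw⟩ := exists_cval_section ι I c W₀ inf_le_right (ι a) hx₀ s₀
      (m := m) (by rw [hs₀]; exact hm)
    obtain ⟨b, hb⟩ := (hω c _ hc).1 ((PL ι (L := L)).presheaf.germ V (ι a) hxV μ)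
    obtain ⟨B, hB, bs, rfl⟩ := P.presheaf.exists_germ_eq (x := ι a) b
    let W₂ : P.Opens := W₁ ⊓ B
    have hx₂ : ι a ∈ W₂ := ⟨hx₁, hB⟩
    have l₁ : W₂ ≤ V := (inf_le_left.trans h₁).trans inf_le_left
    have l₂ : W₂ ≤ c.U := (inf_le_left.trans h₁).trans inf_le_right
    have l₃ : W₂ ≤ B := inf_le_right
    obtain ⟨W₃, l, hx₃, heq⟩ := exists_res_eq (J := Unit) hx₂ (fun _ => AModX.res (PL ι (L := L)) l₁ μ)
      (fun _ => AModX.resR l₃ bs • AModX.res (PL ι (L := L)) l₂ (ω c)) (fun _ => by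
        rw [QCoh.germ_smul', RefX.germ_res, RefX.germ_res, RefX.germ_resR]
        exact hb.symm)
    refine ⟨W₃, hx₃, homOfLE (l.trans l₁),
      AModX.resR (l.trans l₃) bs •
        AModX.res (Qm ι F) (l.trans inf_le_left) ((η ι F).app W₁ w), fun y => ?_⟩
    obtain ⟨y, hy⟩ := y
    have hy₁ : y ∈ W₁ := (l.trans inf_le_left) hy
    have hyc : y ∈ c.U := l₂ (l hy)
    have hval : CVal ι I c y hyc (ζ ι I r y (((Kc ι I).cycles r).presheaf.germ U y (i.le (l₁ (l hy))) z))
        (F.presheaf.germ W₁ y hy₁ w) := by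
      have h := hw y hy₁
      rw [hs₀] at h
      exact h
    have h2 := congrArg ((PL ι (L := L)).presheaf.germ W₃ y hy) (heq ())
    rw [RefX.germ_res, RefX.germ_res, RefX.germ_res, QCoh.germ_smul', RefX.germ_resR, RefX.germ_res] at h2
    show Θ ι I hι ω hω hωC y _ ((PL ι (L := L)).presheaf.germ V y _ μ) = _
    rw [h2, map_smul, Θ_spec ι I hι ω hω hωC y _ c hyc _ hval, QCoh.germ_smul', RefX.germ_resR, RefX.germ_res,
      stalkMapₗ_germ]
  · let W : P.Opens := V ⊓ ⟨(Set.range ι)ᶜ, ι.isClosedEmbedding.isClosed_range.isOpen_compl⟩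
    refine ⟨W, ⟨hxV, hr⟩, homOfLE inf_le_left, 0, fun y => ?_⟩
    haveI := H23.ClosedPushLen.subsingleton_stalk (f := ι) ((Scheme.Modules.pullback ι).obj F) (y := y.1) y.2.2
    exact Subsingleton.elim _ _

/-- The comparison on sections of cocycles. -/
def ΨFun (U : P.Opens) : Γ((Kc ι I).cycles r, U) →+ Γ(homSh (PL ι (L := L)) (Qm ι F), U) where
  toFun z := ⟨fun x => Θ ι I hι ω hω hωC x.1 (((Kc ι I).cycles r).presheaf.germ U x.1 x.2 z),
    isLocSect_Θ ι I hι ω hω hωC U z⟩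
  map_zero' := RefX.sect_ext fun x => by
    show Θ ι I hι ω hω hωC x.1 _ = 0
    rw [map_zero, map_zero]
  map_add' a b := RefX.sect_ext fun x => by
    show Θ ι I hι ω hω hωC x.1 _ = Θ ι I hι ω hω hωC x.1 _ + Θ ι I hι ω hω hωC x.1 _
    rw [map_add, map_add]

/-- The comparison map from cocycles. -/
def Ψ : (Kc ι I).cycles r ⟶ homSh (PL ι (L := L)) (Qm ι F) :=
  ⟨PresheafOfModules.homMk
    { app := fun U => AddCommGrpCat.ofHom (ΨFun ι I hι ω hω hωC U.unop)
      naturality := fun {U V} i => by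
        ext s
        refine RefX.sect_ext fun x => ?_
        change Θ ι I hι ω hω hωC x.1 _ = Θ ι I hι ω hω hωC x.1 _
        exact congrArg _ (TopCat.Presheaf.germ_res_apply' ((Kc ι I).cycles r).presheaf i x.1 x.2 s) }
    (fun U a s => RefX.sect_ext fun x =>
      (congrArg (Θ ι I hι ω hω hωC x.1) (Mero.germ_smul ((Kc ι I).cycles r) U.unop x.1 x.2 a s)).trans
        (map_smul (Θ ι I hι ω hω hωC x.1) _ _))⟩

theorem evalStalk_Ψ (x : P) (z : ((Kc ι I).cycles r).presheaf.stalk x) :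
    evalStalk (PL ι (L := L)) (Qm ι F) x (stalkMapₗ (Ψ ι I hι ω hω hωC) x z) = Θ ι I hι ω hω hωC x z := by
  obtain ⟨U, hx, z, rfl⟩ := TopCat.Presheaf.exists_germ_eq ((Kc ι I).cycles r).presheaf z
  rw [stalkMapₗ_germ, evalStalk_germ]
  rfl

variable (hFP : CohB1.IsFP (OX ι)) (hLP : CohB1.IsFP (PL ι (L := L)))

include hFP in
theorem Θ_surjective (x : P) : Function.Surjective (Θ ι I hι ω hω hωC x) := by
  intro h
  by_cases hx : x ∈ Set.range ι
  · obtain ⟨a, rfl⟩ := hx
    obtain ⟨c, hc⟩ := exists_chart ι hι a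
    obtain ⟨m, hm⟩ := η_stalk_surjective ι F (ι a) (h ((PL ι (L := L)).presheaf.germ c.U (ι a) hc (ω c)))
    obtain ⟨s, hs, hds, hval⟩ := ZigZag.val_surjective (f := fun i => P.presheaf.germ c.U (ι a) hc (c.f i))
      (di_εh I (ι a)) (di_di I (ι a)) (fun j k y hy => column I c.hU hc c.exact₀ j k y hy) m
    obtain ⟨z, hz⟩ := exists_ζ ι I hFP r (ι a) s (fun b hb => by
      rw [c.span _ hc] at hb
      refine Submodule.span_induction (p := fun b _ => b • s = 0) ?_ ?_ ?_ ?_ hb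
      · rintro _ ⟨t, rfl⟩; exact hs t
      · simp
      · exact fun p q _ _ hp hq => by rw [add_smul, hp, hq, add_zero]
      · exact fun p q _ hq => by rw [smul_eq_mul, mul_smul, hq, smul_zero]) hds
    refine ⟨z, LinearMap.ext fun v => ?_⟩
    obtain ⟨b, rfl⟩ := (hω c _ hc).1 v
    show Θ ι I hι ω hω hωC (ι a) z (b • _) = h (b • _)
    rw [map_smul, map_smul, Θ_spec ι I hι ω hω hωC _ z c hc m (by rw [hz]; exact hval), hm]
  · refine ⟨0, LinearMap.ext fun v => ?_⟩
    haveI := H23.ClosedPushLen.subsingleton_stalk (f := ι) L hx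
    rw [Subsingleton.elim v 0, map_zero, map_zero]

theorem ζ_toCycles (i j : ℕ) (x : P) (θ : ((Kc ι I).X i).presheaf.stalk x) :
    ζ ι I j x (stalkMapₗ ((Kc ι I).toCycles i j) x θ) =
      stalkMapₗ (I.cocomplex.d i j) x (ev₁ ι (I.cocomplex.X i) x θ) := by
  rw [ζ_apply, ← LinearMap.comp_apply, ← HomShX.stalkMapₗ_comp, HomologicalComplex.toCycles_i, ← ev₁_natural]
  rfl

include hFP in
theorem π_eq_zero_of_Θ (x : P) (z : ((Kc ι I).cycles r).presheaf.stalk x) (hz : Θ ι I hι ω hω hωC x z = 0) :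
    stalkMapₗ ((Kc ι I).homologyπ r) x z = 0 := by
  suffices h : z = 0 ∨ ∃ i θ, stalkMapₗ ((Kc ι I).toCycles i r) x θ = z by
    rcases h with rfl | ⟨i, θ, rfl⟩
    · exact map_zero _
    · exact stalk_comp_zero _ _ (HomologicalComplex.toCycles_comp_homologyπ _ i r) x θ
  by_cases hx : x ∈ Set.range ι
  · obtain ⟨a, rfl⟩ := hx
    obtain ⟨c, hc⟩ := exists_chart ι hι a
    obtain ⟨m, hm⟩ := exists_cval ι I c _ hc z
    have hη : stalkMapₗ (η ι F) (ι a) m = 0 := by
      rw [← Θ_spec ι I hι ω hω hωC _ z c hc m hm, hz, LinearMap.zero_apply]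
    rw [η_stalk_eq_zero_iff, c.span _ hc] at hη
    rcases r with _ | p
    · refine Or.inl (ζ_injective ι I hFP 0 (ι a) ?_)
      rw [map_zero]
      have hm0 : m = 0 := by
        rw [Set.range_eq_empty, Ideal.span_empty, Submodule.bot_smul, Submodule.mem_bot] at hη
        exact hη
      obtain ⟨W, hW, htop⟩ := hm
      obtain ⟨i₀⟩ := ZigZag.idx_zero_nonempty 0
      refine (hW i₀).trans ?_
      rw [ZigZag.eq_top i₀, htop, hm0, map_zero]
    · obtain ⟨v, hv, hdv⟩ := ZigZag.eq_coboundary_of_mem (g := fun i => P.presheaf.germ c.U (ι a) hc (c.f i))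
        (εh_injective I (ι a)) (di_εh I (ι a)) (di_di I (ι a))
        (fun j k y hy => column I c.hU hc c.exact₀ j k y hy)
        (fun i => ζ_J ι I _ (ι a) z (f_mem_Jst ι c _ hc i)) (ζ_d ι I _ (ι a) z) hm hη
      obtain ⟨θ, hθ⟩ := exists_ev₁ ι hFP (I.cocomplex.X p) (ι a) v (fun b hb => by
        rw [c.span _ hc] at hb
        refine Submodule.span_induction (p := fun b _ => b • v = 0) ?_ ?_ ?_ ?_ hb
        · rintro _ ⟨t, rfl⟩; exact hv t
        · simp
        · exact fun b q _ _ hp hq => by rw [add_smul, hp, hq, add_zero]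
        · exact fun b q _ hq => by rw [smul_eq_mul, mul_smul, hq, smul_zero])
      refine Or.inr ⟨p, θ, ζ_injective ι I hFP _ (ι a) ?_⟩
      rw [ζ_toCycles, hθ]
      exact hdv
  · refine Or.inl (ζ_injective ι I hFP r x ?_)
    rw [map_zero, ← one_smul (P.presheaf.stalk x) (ζ ι I r x z)]
    exact ζ_J ι I r x z (by rw [Jst_eq_top ι hx]; trivial)

include hLP in
theorem toCycles_Ψ (i : ℕ) : (Kc ι I).toCycles i r ≫ Ψ ι I hι ω hω hωC = 0 := by
  refine HomShX.ext_stalk fun x => LinearMap.ext fun θ => (RefX.evalStalk_bijective hLP x).1 ?_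
  rw [HomShX.stalkMapₗ_comp, LinearMap.comp_apply, evalStalk_Ψ, HomShX.stalkMapₗ_zero, LinearMap.zero_apply, map_zero]
  by_cases hir : i + 1 = r
  · subst hir
    refine good_unique ι I hι ω hω x (Θ_spec ι I hι ω hω hωC x _) fun c hc m hm => ?_
    rw [LinearMap.zero_apply]
    have hv : ZigZag.Val (fun t => P.presheaf.germ c.U x hc (c.f t)) (di I x) (stalkMapₗ (εh I) x)
        (di I x i (ev₁ ι (I.cocomplex.X i) x θ)) 0 :=
      ZigZag.val_coboundary fun t => Jst_smul_ev₁ ι _ x (f_mem_Jst ι c x hc t) θ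
    rw [← map_zero (stalkMapₗ (η ι F) x)]
    refine η_cval_eq ι I c x hc ?_ hm
    rw [ζ_toCycles]
    exact hv
  · have h0 : (Kc ι I).toCycles i r = 0 := by
      rw [← cancel_mono ((Kc ι I).iCycles r), HomologicalComplex.toCycles_i, zero_comp]
      exact (Kc ι I).shape _ _ hir
    rw [h0, HomShX.stalkMapₗ_zero, LinearMap.zero_apply, map_zero]

include hι hω hωC hFP hLP in
theorem nonempty_homology_iso : Nonempty ((Kc ι I).homology r ≅ homSh (PL ι (L := L)) (Qm ι F)) := by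
  let φ : (Kc ι I).homology r ⟶ homSh (PL ι (L := L)) (Qm ι F) :=
    ((Kc ι I).homologyIsCokernel ((ComplexShape.up ℕ).prev r) r rfl).desc
      (CokernelCofork.ofπ (Ψ ι I hι ω hω hωC) (toCycles_Ψ ι I hι ω hω hωC hLP _))
  have hφ : (Kc ι I).homologyπ r ≫ φ = Ψ ι I hι ω hω hωC :=
    ((Kc ι I).homologyIsCokernel ((ComplexShape.up ℕ).prev r) r rfl).fac
      (CokernelCofork.ofπ (Ψ ι I hι ω hω hωC) (toCycles_Ψ ι I hι ω hω hωC hLP _)) WalkingParallelPair.one
  haveI : IsIso φ := by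
    refine KFlatLib.isIso_of_stalk φ fun x => ?_
    refine (ConcreteCategory.isIso_iff_bijective _).2 ?_
    show Function.Bijective (stalkMapₗ φ x)
    have hc : ∀ w, stalkMapₗ φ x (stalkMapₗ ((Kc ι I).homologyπ r) x w) = stalkMapₗ (Ψ ι I hι ω hω hωC) x w :=
      fun w => by rw [← LinearMap.comp_apply, ← HomShX.stalkMapₗ_comp, hφ]
    have hπ : Function.Surjective (stalkMapₗ ((Kc ι I).homologyπ r) x) := by
      haveI : PreservesFiniteColimits (DerSch.stalkFunctor P x) := inferInstance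
      exact (ModuleCat.epi_iff_surjective _).1
        (inferInstance : Epi ((DerSch.stalkFunctor P x).map ((Kc ι I).homologyπ r)))
    refine ⟨(injective_iff_map_eq_zero _).2 fun v hv => ?_, fun t => ?_⟩
    · obtain ⟨w, rfl⟩ := hπ v
      rw [hc] at hv
      refine π_eq_zero_of_Θ ι I hι ω hω hωC hFP x w ?_
      rw [← evalStalk_Ψ, hv, map_zero]
    · obtain ⟨w, hw⟩ := Θ_surjective ι I hι ω hω hωC hFP x (evalStalk _ _ x t)
      refine ⟨stalkMapₗ ((Kc ι I).homologyπ r) x w, (RefX.evalStalk_bijective hLP x).1 ?_⟩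
      rw [hc, evalStalk_Ψ, hw]
  exact ⟨asIso φ⟩

end main

/-- A regular immersion is locally of finite presentation. -/
theorem locallyOfFinitePresentation_of_isRegularImmersion
    (hι : RegImm.IsRegularImmersionOfCodim RegImm.Kind.regular r ι) : LocallyOfFinitePresentation ι := by
  have hcov : ∀ x : P, ∃ U : P.Opens, x ∈ U ∧ LocallyOfFinitePresentation (ι ∣_ U) := fun x => by
    by_cases hx : x ∈ Set.range ι
    · obtain ⟨a, rfl⟩ := hx
      obtain ⟨-, h⟩ := hι
      obtain ⟨U, hxU, -, rs, -, -, hker⟩ := h a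
      refine ⟨U.1, hxU, ?_⟩
      haveI : IsAffine (U.1 : Scheme.{u}) := U.2
      haveI : IsAffine ((ι ⁻¹ᵁ U.1 : X.Opens) : Scheme.{u}) := U.2.preimage ι
      rw [HasRingHomProperty.iff_of_isAffine (P := @LocallyOfFinitePresentation)]
      have h0 : RingHom.FinitePresentation (ι.app U.1).hom :=
        RingHom.FinitePresentation.of_surjective _ (ι.app_surjective U.1 U.2)
          (by rw [hker]; exact Submodule.fg_span (List.finite_toSet rs))
      rw [GrpdLib.morphismRestrict_appTop', CommRingCat.hom_comp, CommRingCat.hom_comp]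
      exact RingHom.finitePresentation_respectsIso.1 _ (ι ⁻¹ᵁ U.1).topIso.symm.commRingCatIsoToRingEquiv
        (RingHom.finitePresentation_respectsIso.2 _ (U.1).topIso.commRingCatIsoToRingEquiv h0)
    · refine ⟨⟨(Set.range ι)ᶜ, ι.isClosedEmbedding.isClosed_range.isOpen_compl⟩, hx, ?_⟩
      haveI : IsEmpty ↥((ι ⁻¹ᵁ ⟨(Set.range ι)ᶜ, ι.isClosedEmbedding.isClosed_range.isOpen_compl⟩ : X.Opens) : Scheme.{u}) :=
        ⟨fun z => z.2 ⟨z.1, rfl⟩⟩
      infer_instance
  choose U hxU hU using hcov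
  exact IsZariskiLocalAtTarget.of_iSup_eq_top (P := @LocallyOfFinitePresentation) U
    (top_le_iff.1 fun x _ => TopologicalSpace.Opens.mem_iSup.2 ⟨x, hxU x⟩) hU

/-- The fundamental local isomorphism. -/
theorem nonempty_extSh_iso (hι : RegImm.IsRegularImmersionOfCodim RegImm.Kind.regular r ι)
    (F : P.Modules) (L : X.Modules) (hL : ExtPow.IsExtPow r (Omega.conormal ι) L) (hLc : CohB1.IsFP L)
    [ModSite.HasSheafHom (O := X.sheaf) L] [HasInjectiveResolutions (ModSite.Mod P.sheaf)] :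
    Nonempty ((ModSite.extSh (O := P.sheaf) (OX ι) r).obj F ≅
      (Scheme.Modules.pushforward ι).obj ((ModSite.sheafHom (O := X.sheaf) L).obj
        ((Scheme.Modules.pullback ι).obj F))) := by
  haveI : HasInjectiveResolutions P.Modules := ‹HasInjectiveResolutions (ModSite.Mod P.sheaf)›
  haveI : ∀ M : P.Modules, ModSite.HasSheafHom (O := P.sheaf) M := fun M => ModTensor.hasSheafHom (O := P.sheaf) M
  let I := injectiveResolution F
  obtain ⟨ω, hω, hωC⟩ := exists_omega ι hL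
  haveI := locallyOfFinitePresentation_of_isRegularImmersion ι hι
  have hFP : CohB1.IsFP (OX ι) := HilbFib.isFP_push ι (QCoh.isFP_of_isFinLocFree (H23.PullPush.isFinLocFree_of_isInvertible InvX.isInvertible_structureModule))
  have hLP : CohB1.IsFP (PL ι (L := L)) := HilbFib.isFP_push ι hLc
  obtain ⟨e⟩ := nonempty_homology_iso ι I hι ω hω hωC hFP hLP
  haveI := ChangeRings.preservesFiniteColimits_push ι
  haveI := ClosedPush.full_push ι
  haveI := AmpleVan.faithful_push ι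
  let G : X.Modules := (Scheme.Modules.pullback ι).obj F
  haveI : IsIso ((ChangeRings.rAdj ι).unit.app G) := inferInstance
  let S : P.Modules ⥤ P.Modules := ModSite.sheafHom (O := P.sheaf) (OX ι)
  haveI : S.Additive := ModSite.sheafHom_additive P.sheaf (OX ι)
  exact ⟨I.isoRightDerivedObj S r ≪≫ e ≪≫
    (iso (PL ι (L := L)) (Qm ι F)).symm ≪≫
    (ChangeRings.siteHomIso (Z := P) (PL ι (L := L))).app (Qm ι F) ≪≫
    ((ChangeRings.rightIso ι L).app (Qm ι F)).symm ≪≫
    (Scheme.Modules.pushforward ι).mapIso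
      ((SheafHomX.hom L).mapIso (asIso ((ChangeRings.rAdj ι).unit.app G)).symm ≪≫
        ((ChangeRings.siteHomIso (Z := X) L).app G).symm)⟩

/-- The conormal sheaf of a regular immersion of codimension `r` is free of rank `r` near every point. -/
theorem isFinLocFreeOfRank_conormal (hι : RegImm.IsRegularImmersionOfCodim RegImm.Kind.regular r ι)
    (a : X) : ∃ (U : X.Opens) (_ : a ∈ U) (s : Fin r → Γ(Omega.conormal ι, U)), H23.Frame.IsFrame (Omega.conormal ι) s := by
  obtain ⟨c, hc⟩ := exists_chart ι hι a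
  exact ⟨ι ⁻¹ᵁ c.U, hc, coSec ι c, coSec_isFrame ι c⟩

/-- The top exterior power of the conormal sheaf of a regular immersion is invertible. -/
theorem isInvertible_extPow_conormal (hι : RegImm.IsRegularImmersionOfCodim RegImm.Kind.regular r ι)
    {L : X.Modules} (hL : ExtPow.IsExtPow r (Omega.conormal ι) L) : PicF.IsInvertible L := by
  obtain ⟨φ, hφ⟩ := hL
  refine InvX.isInvertible_of_frames fun a => ?_
  obtain ⟨c, hc⟩ := exists_chart ι hι a
  obtain ⟨ω, hω, -⟩ := exists_omega ι (L := L) ⟨φ, hφ⟩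
  let g : Γ(L, ι ⁻¹ᵁ c.U) := ω c
  refine ⟨ι ⁻¹ᵁ c.U, hc, g, InvX.isFrame_of_germ fun b hb => ⟨fun p q hpq => ?_, fun v => ?_⟩⟩
  · obtain ⟨p', rfl⟩ := ι.stalkMap_surjective b p
    obtain ⟨q', rfl⟩ := ι.stalkMap_surjective b q
    rw [← sub_eq_zero, ← map_sub, ← RingHom.mem_ker, ← Jst_eq_ker, ← (hω c (ι b) hb).2,
      ← (stalkPushEquiv ι L b).map_eq_zero_iff, stalkPushEquiv_smul, stalkPushEquiv_germ, map_sub, sub_smul,
      sub_eq_zero]
    exact hpq
  · obtain ⟨p, hp⟩ := (hω c (ι b) hb).1 ((stalkPushEquiv ι L b).symm v)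
    refine ⟨ι.stalkMap b p, ?_⟩
    have h := congrArg (stalkPushEquiv ι L b) hp
    rw [stalkPushEquiv_smul, stalkPushEquiv_germ, AddEquiv.apply_symm_apply] at h
    exact h

end Groth.Agent.ExtShX.Fund
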