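import Groth.Agent.ExtShX.SmFrame
import Groth.Agent.InvX.GenLocusPull
import Groth.Agent.AmpleY.FrameTensor
import Groth.Agent.RegNear.Basic
import Mathlib

/-!
# The adjunction formula for a closed immersion with adapted charts
-/

set_option autoImplicit false
set_option maxHeartbeats 1600000
set_option linter.style.haveILetI false
set_option linter.unusedSectionVars false
set_option backward.isDefEq.respectTransparency false
set_option backward.isDefEq.respectTransparency.types false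

universe u

open CategoryTheory CategoryTheory.Limits AlgebraicGeometry TopologicalSpace Opposite

noncomputable section

namespace Groth.Agent.ExtShX.SmFrame

variable {S X Y : Scheme.{u}} (f : X ⟶ S) (g : Y ⟶ S) [QuasiSeparated f] [QuasiSeparated g] (i : Y ⟶ X)
  [IsClosedImmersion i] (hi : i ≫ f = g)

include hi in
theorem app_app_eq (V : S.Opens) (c : Γ(S, V)) :
    (OmegaSh.dOmega g).app (i ⁻¹ᵁ f ⁻¹ᵁ V) (i.app (f ⁻¹ᵁ V) (f.app V c)) = 0 := by
  subst hi
  exact (OmegaSh.dOmega (i ≫ f)).d_app c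

section Push
include hi

/-- The derivation `a ↦ d(a|Y)`. -/
def pushDer : OmegaSh.Der f ((Scheme.Modules.pushforward i).obj (Omega.sheaf g)) where
  d {U} :=
    { toFun := fun s => (OmegaSh.dOmega g).app (i ⁻¹ᵁ U.unop) (i.app U.unop s)
      map_zero' := by rw [map_zero, map_zero]
      map_add' := fun s t => by rw [map_add, map_add] <;> rfl }
  d_mul {U} a b := by
    show (OmegaSh.dOmega g).app (i ⁻¹ᵁ U.unop) (i.app U.unop (a * b)) = _
    rw [map_mul]
    exact (OmegaSh.dOmega g).d_mul _ _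
  d_map {U V} j s := by
    show (OmegaSh.dOmega g).app (i ⁻¹ᵁ V.unop) (i.app V.unop (X.presheaf.map j s)) = _
    rw [← ConcreteCategory.comp_apply (X.presheaf.map j), Scheme.Hom.naturality, ConcreteCategory.comp_apply]
    exact (OmegaSh.dOmega g).d_map _ _
  d_app {V} c := app_app_eq f g i hi V.unop c

/-- The restriction of differentials to `Y`. -/
theorem exists_alpha : ∃ α : Omega.sheaf f ⟶ (Scheme.Modules.pushforward i).obj (Omega.sheaf g),
    ∀ (U : X.Opens) (s : Γ(X, U)),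
      α.app U ((OmegaSh.dOmega f).app U s) =
        (show Γ((Scheme.Modules.pushforward i).obj (Omega.sheaf g), U) from
          (OmegaSh.dOmega g).app (i ⁻¹ᵁ U) (i.app U s)) := by
  obtain ⟨α, hα, -⟩ := OmegaUniv.isUniversal_dOmega f _ (pushDer f g i hi)
  exact ⟨α, fun U s => PresheafOfModules.Derivation.congr_d hα s⟩

end Push

variable (c m : ℕ)

/-- An adapted chart. -/
structure AdChart where
  U : X.affineOpens
  t : Fin c → Γ(X, U.1)
  s : Fin m → Γ(X, U.1)
  reg : RingTheory.Sequence.IsRegular Γ(X, U.1) (List.ofFn t)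
  hker : RingHom.ker (i.app U.1).hom = Ideal.span (Set.range t)
  hFX : H23.Frame.IsFrame (Omega.sheaf f) (fun j : Fin (c + m) => (OmegaSh.dOmega f).app U.1 (Fin.append t s j))
  hFY : H23.Frame.IsFrame (Omega.sheaf g) (fun k => (OmegaSh.dOmega g).app (i ⁻¹ᵁ U.1) (i.app U.1 (s k)))

variable {f g i c m}

theorem AdChart.app_t (a : AdChart f g i c m) (j : Fin c) : i.app a.U.1 (a.t j) = 0 :=
  RingHom.mem_ker.1 (a.hker.ge (Ideal.subset_span ⟨j, rfl⟩))

/-- The underlying chart of a regular immersion. -/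
def AdChart.toFund (a : AdChart f g i c m) : Fund.Chart i c where
  U := a.U.1
  hU := a.U.2
  f := a.t
  exact₀ := KRegLib.isExact_of_isWeaklyRegular a.t a.reg.toIsWeaklyRegular
  exact' := fun x hx => by
    letI : Algebra Γ(X, a.U.1) (X.presheaf.stalk x) := X.presheaf.algebra_section_stalk ⟨x, hx⟩
    haveI := a.U.2.isLocalization_stalk ⟨x, hx⟩
    haveI : Module.Flat Γ(X, a.U.1) (X.presheaf.stalk x) :=
      IsLocalization.flat _ (a.U.2.primeIdealOf ⟨x, hx⟩).asIdeal.primeCompl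
    exact WiebeLib.isExact_map (KRegLib.isExact_of_isWeaklyRegular a.t a.reg.toIsWeaklyRegular)
  span := fun x hx => by
    rw [show (Set.range fun j => X.presheaf.germ a.U.1 x hx (a.t j)) =
      (X.presheaf.germ a.U.1 x hx).hom '' Set.range a.t from Set.range_comp _ a.t, ← Ideal.map_span, ← a.hker]
    by_cases hr : x ∈ Set.range i
    · obtain ⟨b, rfl⟩ := hr
      rw [Fund.Jst_eq_ker, RegNear.ker_stalkMap i b a.U.2 hx]
    · rw [Fund.Jst_eq_top i hr, eq_comm, Ideal.eq_top_iff_one]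
      let V : X.Opens := a.U.1 ⊓ ⟨(Set.range i)ᶜ, i.isClosedEmbedding.isClosed_range.isOpen_compl⟩
      obtain ⟨r, hrV, hxr⟩ := a.U.2.exists_basicOpen_le (V := V) ⟨x, hx, hr⟩ hx
      have h0 : Y.basicOpen (i.app a.U.1 r) = ⊥ := by
        rw [← Scheme.preimage_basicOpen]
        exact eq_bot_iff.2 fun b hb => (hrV hb).2 ⟨b, rfl⟩
      obtain ⟨k, hk⟩ := (Scheme.isNilpotent_iff_basicOpen_eq_bot_of_isCompact (a.U.2.preimage i).isCompact _).2 h0
      have hu : IsUnit (X.presheaf.germ a.U.1 x hx r) := (X.mem_basicOpen r x hx).1 hxr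
      have hmem : X.presheaf.germ a.U.1 x hx (r ^ k) ∈
          (RingHom.ker (i.app a.U.1).hom).map (X.presheaf.germ a.U.1 x hx).hom :=
        Ideal.mem_map_of_mem _ (RingHom.mem_ker.2 (by rw [map_pow]; exact hk))
      rw [map_pow] at hmem
      exact (Ideal.eq_top_iff_one _).1 (Ideal.eq_top_of_isUnit_mem _ hmem (hu.pow k))
  app_eq := a.app_t

/-- The preimage of the domain of a chart. -/
abbrev AdChart.V (a : AdChart f g i c m) : Y.affineOpens := ⟨i ⁻¹ᵁ a.U.1, a.U.2.preimage i⟩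

/-- The transition functions of the top forms between two charts. -/
theorem exists_transition (hi : i ≫ f = g) {ωX : X.Modules}
    (φX : ∀ U : X.affineOpens, (ωX.val.obj (op U.1)) ≃ₗ[Γ(X, U.1)]
      ↥(⋀[Γ(X, U.1)]^(c + m) ((Omega.sheaf f).val.obj (op U.1))))
    (hφX : ∀ (U V : X.affineOpens) (h : V.1 ≤ U.1) (e : Fin (c + m) → (Omega.sheaf f).val.obj (op U.1)),
      ωX.val.map (homOfLE h).op ((φX U).symm (exteriorPower.ιMulti _ (c + m) e)) =
        (φX V).symm (exteriorPower.ιMulti _ (c + m) (fun j => (Omega.sheaf f).val.map (homOfLE h).op (e j))))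
    {ωY : Y.Modules}
    (φY : ∀ U : Y.affineOpens, (ωY.val.obj (op U.1)) ≃ₗ[Γ(Y, U.1)]
      ↥(⋀[Γ(Y, U.1)]^m ((Omega.sheaf g).val.obj (op U.1))))
    (hφY : ∀ (U V : Y.affineOpens) (h : V.1 ≤ U.1) (e : Fin m → (Omega.sheaf g).val.obj (op U.1)),
      ωY.val.map (homOfLE h).op ((φY U).symm (exteriorPower.ιMulti _ m e)) =
        (φY V).symm (exteriorPower.ιMulti _ m (fun j => (Omega.sheaf g).val.map (homOfLE h).op (e j))))
    {L : Y.Modules}
    (φL : ∀ U : Y.affineOpens, (L.val.obj (op U.1)) ≃ₗ[Γ(Y, U.1)]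
      ↥(⋀[Γ(Y, U.1)]^c ((Omega.conormal i).val.obj (op U.1))))
    (hφL : ∀ (U V : Y.affineOpens) (h : V.1 ≤ U.1) (e : Fin c → (Omega.conormal i).val.obj (op U.1)),
      L.val.map (homOfLE h).op ((φL U).symm (exteriorPower.ιMulti _ c e)) =
        (φL V).symm (exteriorPower.ιMulti _ c (fun j => (Omega.conormal i).val.map (homOfLE h).op (e j))))
    (a b : AdChart f g i c m) (Q : X.affineOpens) (ha : Q.1 ≤ a.U.1) (hb : Q.1 ≤ b.U.1) :
    ∃ dT dS : Γ(Y, i ⁻¹ᵁ Q.1),
      AModX.res ωY (i.preimage_mono hb)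
          (wedge φY b.V fun k => (OmegaSh.dOmega g).app (i ⁻¹ᵁ b.U.1) (i.app b.U.1 (b.s k))) =
        dS • AModX.res ωY (i.preimage_mono ha)
          (wedge φY a.V fun k => (OmegaSh.dOmega g).app (i ⁻¹ᵁ a.U.1) (i.app a.U.1 (a.s k))) ∧
      AModX.res L (i.preimage_mono hb) (wedge φL b.V (Fund.coSec i b.toFund)) =
        dT • AModX.res L (i.preimage_mono ha) (wedge φL a.V (Fund.coSec i a.toFund)) ∧
      AModX.res _ (i.preimage_mono hb)
          (InvX.pullElt i (wedge φX b.U fun j => (OmegaSh.dOmega f).app b.U.1 (Fin.append b.t b.s j))) =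
        (dT * dS) • AModX.res _ (i.preimage_mono ha)
          (InvX.pullElt i (wedge φX a.U fun j => (OmegaSh.dOmega f).app a.U.1 (Fin.append a.t a.s j))) := by
  classical
  let ta : Fin c → Γ(X, Q.1) := fun j => AModX.resR ha (a.t j)
  let tb : Fin c → Γ(X, Q.1) := fun j => AModX.resR hb (b.t j)
  let ua : Fin (c + m) → Γ(X, Q.1) := fun l => AModX.resR ha (Fin.append a.t a.s l)
  let ub : Fin (c + m) → Γ(X, Q.1) := fun l => AModX.resR hb (Fin.append b.t b.s l)
  let eX : Fin (c + m) → Γ(Omega.sheaf f, Q.1) := fun l => (OmegaSh.dOmega f).app Q.1 (ua l)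
  have heX : ∀ l, AModX.res (Omega.sheaf f) ha ((OmegaSh.dOmega f).app a.U.1 (Fin.append a.t a.s l)) = eX l :=
    fun l => (Synt29.OmegaStalk.app_res _ _ (homOfLE ha) _).symm
  have hbas : Function.Bijective fun x : Fin (c + m) → Γ(X, Q.1) => ∑ l, x l • eX l := by
    refine (congrArg Function.Bijective (funext fun x => ?_)).mp (a.hFX Q.1 ha)
    exact Finset.sum_congr rfl fun l _ => congrArg (x l • ·) (heX l)
  have happ : ∀ (x : AdChart f g i c m) (hx : Q.1 ≤ x.U.1) (j : Fin c),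
      i.app Q.1 (AModX.resR hx (x.t j)) = 0 := fun x hx j => by
    show i.app Q.1 (X.presheaf.map (homOfLE hx).op (x.t j)) = 0
    rw [← ConcreteCategory.comp_apply (X.presheaf.map _), Scheme.Hom.naturality, ConcreteCategory.comp_apply,
      x.app_t, map_zero]
  have hspan : RingHom.ker (i.app Q.1).hom = Ideal.span (Set.range ta) := by
    have h1 := i.ker.map_ideal (U := Q) (V := a.U) ha
    rw [Scheme.Hom.ker_apply, Scheme.Hom.ker_apply, a.hker, Ideal.map_span, ← Set.range_comp] at h1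
    exact h1.symm
  have hC' : ∀ k, ∃ x : Fin c → Γ(X, Q.1), ∑ j, x j * ta j = tb k := fun k =>
    Ideal.mem_span_range_iff_exists_fun.1 (hspan.le (RingHom.mem_ker.2 (happ b hb k)))
  choose C hC using hC'
  choose M hM using fun k => hbas.2 ((OmegaSh.dOmega f).app Q.1 (ub k))
  choose A hA using fun (k j : Fin c) => hbas.2 ((OmegaSh.dOmega f).app Q.1 (C k j))
  have hua : ∀ j, ua (Fin.castAdd m j) = ta j := fun j => by simp [ua, ta]
  have hub : ∀ j, ub (Fin.castAdd m j) = tb j := fun j => by simp [ub, tb]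
  -- the rows of the transition matrix belonging to the equations
  have hrow : ∀ k, M (Fin.castAdd m k) =
      fun l => Fin.append (C k) (0 : Fin m → Γ(X, Q.1)) l + ∑ j, ta j * A k j l := by
    intro k
    refine hbas.1 ?_
    show ∑ l, M (Fin.castAdd m k) l • eX l = ∑ l, (Fin.append (C k) 0 l + ∑ j, ta j * A k j l) • eX l
    refine (hM _).trans ?_
    rw [hub, ← hC k, map_sum]
    simp only [add_smul, Finset.sum_add_distrib, Finset.sum_smul, mul_smul]
    rw [Fin.sum_univ_add, Finset.sum_comm]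
    simp only [Fin.append_left, Fin.append_right, Pi.zero_apply, zero_smul, Finset.sum_const_zero, add_zero,
      ← Finset.sum_add_distrib, ← Finset.smul_sum]
    refine Finset.sum_congr rfl fun j _ => ?_
    rw [Synt29.OmegaStalk.app_mul, ← hA, ← hua]
  -- the matrices on `Y`
  let Cb : Matrix (Fin c) (Fin c) Γ(Y, i ⁻¹ᵁ Q.1) := Matrix.of fun k j => i.app Q.1 (C k j)
  let Db : Matrix (Fin m) (Fin m) Γ(Y, i ⁻¹ᵁ Q.1) :=
    Matrix.of fun k l => i.app Q.1 (M (Fin.natAdd c k) (Fin.natAdd c l))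
  let eY : Fin m → Γ(Omega.sheaf g, i ⁻¹ᵁ Q.1) := fun l =>
    (OmegaSh.dOmega g).app (i ⁻¹ᵁ Q.1) (i.app Q.1 (ua (Fin.natAdd c l)))
  have hres : ∀ (x : AdChart f g i c m) (hx : Q.1 ≤ x.U.1) (k : Fin m),
      AModX.res (Omega.sheaf g) (i.preimage_mono hx) ((OmegaSh.dOmega g).app (i ⁻¹ᵁ x.U.1) (i.app x.U.1 (x.s k))) =
        (OmegaSh.dOmega g).app (i ⁻¹ᵁ Q.1) (i.app Q.1 (AModX.resR hx (x.s k))) := fun x hx k => by
    show (Omega.sheaf g).presheaf.map _ _ = _
    rw [← Synt29.OmegaStalk.app_res]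
    congr 1
    show _ = i.app Q.1 (X.presheaf.map (homOfLE hx).op (x.s k))
    rw [← ConcreteCategory.comp_apply (X.presheaf.map _), Scheme.Hom.naturality, ConcreteCategory.comp_apply]
    rfl
  obtain ⟨α, hα⟩ := exists_alpha f g i hi
  have hD : ∀ k, (OmegaSh.dOmega g).app (i ⁻¹ᵁ Q.1) (i.app Q.1 (ub (Fin.natAdd c k))) = ∑ l, Db k l • eY l := by
    intro k
    refine ((hα Q.1 (ub (Fin.natAdd c k))).symm.trans ?_)
    rw [← hM, map_sum]
    refine Eq.trans (Finset.sum_congr rfl fun l _ =>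
      (Scheme.Modules.Hom.app_smul α _ _).trans (congrArg _ (hα Q.1 (ua l)))) ?_
    show ∑ l, i.app Q.1 (M (Fin.natAdd c k) l) • (OmegaSh.dOmega g).app (i ⁻¹ᵁ Q.1) (i.app Q.1 (ua l)) = _
    rw [Fin.sum_univ_add, Finset.sum_eq_zero fun j _ => by rw [hua, happ a ha, map_zero, smul_zero], zero_add]
    rfl
  refine ⟨Cb.det, Db.det, ?_, ?_, ?_⟩
  · let Qy : Y.affineOpens := ⟨i ⁻¹ᵁ Q.1, Q.2.preimage i⟩
    rw [res_wedge φY hφY b.V Qy, res_wedge φY hφY a.V Qy]
    refine wedge_matrix φY Qy _ _ Db fun k => ?_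
    rw [hres b hb k]
    refine Eq.trans ?_ ((hD k).trans (Finset.sum_congr rfl fun l _ => congrArg (Db k l • ·) ?_))
    · simp [ub]
    · rw [hres a ha l]
      simp [eY, ua]
  · let Qy : Y.affineOpens := ⟨i ⁻¹ᵁ Q.1, Q.2.preimage i⟩
    rw [res_wedge φL hφL b.V Qy, res_wedge φL hφL a.V Qy]
    refine wedge_matrix φL Qy _ _ Cb fun k => ?_
    let kk : ∀ (x : AdChart f g i c m), Fin c → Γ(ClSub.idealMod i.ker, x.U.1) := fun x j =>
      (OmegaUniv.exists_idealSect_of_app_eq_zero i x.U.1 (x.t j) (x.app_t j)).choose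
    have hkk : ∀ (x : AdChart f g i c m) (hx : Q.1 ≤ x.U.1) (j : Fin c),
        OmegaSh.idealSect i.ker Q.1 (AModX.res _ hx (kk x j)) = AModX.resR hx (x.t j) := fun x hx j => by
      refine (OmegaLib.idealSect_map i.ker hx _).trans (congrArg (AModX.resR hx) ?_)
      exact (OmegaUniv.exists_idealSect_of_app_eq_zero i x.U.1 (x.t j) (x.app_t j)).choose_spec
    have hsum : AModX.res _ hb (kk b k) = ∑ j, C k j • AModX.res _ ha (kk a j) := by
      refine OmegaLib.idealSect_injective i.ker Q.1 ?_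
      rw [hkk b hb, map_sum]
      refine (hC k).symm.trans (Finset.sum_congr rfl fun j _ => ?_)
      rw [OmegaLib.idealSect_smul, hkk a ha]
    show AModX.res _ (i.preimage_mono hb) (InvX.pullElt i (kk b k)) = _
    rw [InvX.res_pullElt i hb, hsum]
    refine (map_sum (((Scheme.Modules.pullbackPushforwardAdjunction i).unit.app
      (ClSub.idealMod i.ker)).app Q.1).hom _ _).trans (Finset.sum_congr rfl fun j _ => ?_)
    refine (InvX.pullElt_smul i (C k j) _).trans (congrArg (Cb k j • ·) ?_)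
    exact (InvX.res_pullElt i ha (kk a j)).symm
  · rw [InvX.res_pullElt i hb, InvX.res_pullElt i ha, res_wedge φX hφX b.U Q, res_wedge φX hφX a.U Q,
      wedge_matrix φX Q (fun l => eX l) _ (Matrix.of M) fun l => by
        refine (Synt29.OmegaStalk.app_res _ _ (homOfLE hb) _).symm.trans ?_
        exact (hM l).symm,
      InvX.pullElt_smul, show (fun l => AModX.res (Omega.sheaf f) ha
        ((OmegaSh.dOmega f).app a.U.1 (Fin.append a.t a.s l))) = fun l => eX l from funext heX]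
    refine congrArg (· • _) ?_
    rw [RingHom.map_det, ← Matrix.det_submatrix_equiv_self (finSumFinEquiv : Fin c ⊕ Fin m ≃ Fin (c + m))]
    let Mb := ((i.app Q.1).hom.mapMatrix (Matrix.of M)).submatrix
      (finSumFinEquiv : Fin c ⊕ Fin m ≃ Fin (c + m)) finSumFinEquiv
    show Mb.det = _
    have h11 : Mb.toBlocks₁₁ = Cb := by
      ext k j
      show i.app Q.1 (M (Fin.castAdd m k) (Fin.castAdd m j)) = _
      rw [hrow k, map_add, map_sum, Fin.append_left,
        Finset.sum_eq_zero fun j' _ => by rw [map_mul, happ a ha, zero_mul], add_zero]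
      rfl
    have h12 : Mb.toBlocks₁₂ = 0 := by
      ext k l
      show i.app Q.1 (M (Fin.castAdd m k) (Fin.natAdd c l)) = _
      rw [hrow k, map_add, map_sum, Fin.append_right, Pi.zero_apply, map_zero, zero_add,
        Finset.sum_eq_zero fun j' _ => by rw [map_mul, happ a ha, zero_mul]]
      rfl
    rw [← Matrix.fromBlocks_toBlocks Mb, h12, Matrix.det_fromBlocks_zero₁₂, h11]
    rfl

include hi in
/-- The adjunction formula. -/
theorem nonempty_adjunction_iso (hch : ∀ y : Y, ∃ a : AdChart f g i c m, i y ∈ a.U.1)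
    {ωX : X.Modules} (hωX : ExtPow.IsExtPow (c + m) (Omega.sheaf f) ωX)
    {ωY : Y.Modules} (hωY : ExtPow.IsExtPow m (Omega.sheaf g) ωY)
    {L : Y.Modules} (hL : ExtPow.IsExtPow c (Omega.conormal i) L) :
    Nonempty (CohB1.tensorMod ωY L ≅ (Scheme.Modules.pullback i).obj ωX) := by
  obtain ⟨φX, hφX⟩ := hωX
  obtain ⟨φY, hφY⟩ := hωY
  obtain ⟨φL, hφL⟩ := hL
  refine AmpleY.nonempty_tensorMod_iso_of_frames (fun a : AdChart f g i c m => i ⁻¹ᵁ a.U.1) hch
    (fun a => wedge φY a.V fun k => (OmegaSh.dOmega g).app (i ⁻¹ᵁ a.U.1) (i.app a.U.1 (a.s k)))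
    (fun a => wedge φL a.V (Fund.coSec i a.toFund))
    (fun a => InvX.pullElt i (wedge φX a.U fun j => (OmegaSh.dOmega f).app a.U.1 (Fin.append a.t a.s j)))
    (fun a => isFrame_wedge φY hφY a.V _ a.hFY)
    (fun a => isFrame_wedge φL hφL a.V _ (Fund.coSec_isFrame i a.toFund))
    (fun a => InvX.isFrame_pullElt i (isFrame_wedge φX hφX a.U _ a.hFX))
    fun a b W ha hb k k' h1 h2 => AModX.eq_of_locally _ _ fun p hp => ?_
  obtain ⟨_, ⟨Q, hQ, rfl⟩, hpQ, hQle⟩ :=
    X.isBasis_affineOpens.exists_subset_of_mem_open (show i p ∈ a.U.1 ⊓ b.U.1 from ⟨ha hp, hb hp⟩) (a.U.1 ⊓ b.U.1).2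
  have ha' : Q ≤ a.U.1 := (hQle : Q ≤ a.U.1 ⊓ b.U.1).trans inf_le_left
  have hb' : Q ≤ b.U.1 := (hQle : Q ≤ a.U.1 ⊓ b.U.1).trans inf_le_right
  obtain ⟨dT, dS, hY, hLL, hN⟩ := exists_transition hi φX hφX φY hφY φL hφL a b ⟨Q, hQ⟩ ha' hb'
  let W' := W ⊓ i ⁻¹ᵁ Q
  have e1 : W' ≤ W := inf_le_left
  have e2 : W' ≤ i ⁻¹ᵁ Q := inf_le_right
  refine ⟨W', e1, ⟨hp, hpQ⟩, ?_⟩
  have hk : AModX.resR e1 k = AModX.resR e2 dS := by
    refine (isFrame_wedge φY hφY a.V _ a.hFY).coord_unique (e1.trans ha) ?_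
    have h1' := congrArg (AModX.res ωY e1) h1
    have hY' := congrArg (AModX.res ωY e2) hY
    simp only [AModX.res_smul, AModX.res_res] at h1' hY'
    exact h1'.symm.trans hY'
  have hk' : AModX.resR e1 k' = AModX.resR e2 dT := by
    refine (isFrame_wedge φL hφL a.V _ (Fund.coSec_isFrame i a.toFund)).coord_unique (e1.trans ha) ?_
    have h2' := congrArg (AModX.res L e1) h2
    have hL' := congrArg (AModX.res L e2) hLL
    simp only [AModX.res_smul, AModX.res_res] at h2' hL'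
    exact h2'.symm.trans hL'
  have hN' := congrArg (AModX.res _ e2) hN
  simp only [AModX.res_smul, AModX.res_res] at hN' ⊢
  rw [map_mul] at hN' ⊢
  rw [hk, hk', mul_comm]
  exact hN'

end Groth.Agent.ExtShX.SmFrame
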