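import Groth.Agent.ExtShX.SmChart
import Groth.Agent.ExtShX.SmAdj
import Groth.Agent.ExtShX.ExtPowTop
import Groth.Agent.ExtShX.FundIso
import Groth.Agent.QCoh.LocFree
import Groth.Agent.AmpleVan.Tw
import Mathlib

/-!
# Top forms of a smooth subscheme as an Ext sheaf
-/

set_option autoImplicit false
set_option linter.style.haveILetI false
set_option backward.isDefEq.respectTransparency false
set_option backward.isDefEq.respectTransparency.types false

universe u

open CategoryTheory CategoryTheory.Limits AlgebraicGeometry TopologicalSpace Opposite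

noncomputable section

namespace Groth.Agent.ExtShX.SmExt

/-- `Hom(L, M ⊗ L) = M` for an invertible `L`. -/
theorem nonempty_sheafHom_tensor_iso {X : Scheme.{u}} {L : X.Modules} (hL : PicF.IsInvertible L) (M : X.Modules)
    [ModSite.HasSheafHom (O := X.sheaf) L] :
    Nonempty ((ModSite.sheafHom (O := X.sheaf) L).obj (CohB1.tensorMod M L) ≅ M) := by
  haveI : (SheafHomX.ten L).IsEquivalence := AmpleVan.isEquivalence_tw hL
  exact ⟨(ChangeRings.siteHomIso (Z := X) L).app _ ≪≫ (asIso ((SheafHomX.adj L).unit.app M)).symm⟩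

/-- The modules over an empty scheme vanish. -/
theorem isZero_of_isEmpty {X : Scheme.{u}} [IsEmpty X] (M : X.Modules) : IsZero M := by
  refine (IsZero.iff_id_eq_zero M).2 (Scheme.Modules.hom_ext _ _ fun V => ?_)
  ext s
  refine AModX.eq_of_locally _ _ fun p _ => (IsEmpty.false p).elim

/-- The conormal sheaf of a regular closed immersion is quasi-coherent. -/
theorem isQCoh_conormal {P X : Scheme.{u}} (ι : X ⟶ P) [IsClosedImmersion ι] {r : ℕ}
    (hι : RegImm.IsRegularImmersionOfCodim RegImm.Kind.regular r ι) : Coh.IsQCoh (Omega.conormal ι) := by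
  haveI : ∀ M : P.Modules, ModSite.HasSheafHom (O := P.sheaf) M := fun M => ModTensor.hasSheafHom (O := P.sheaf) M
  refine QCoh.isQCoh_of_isFinLocFree fun x => ?_
  obtain ⟨U, hx, s, hs⟩ := Fund.isFinLocFreeOfRank_conormal ι hι x
  exact ⟨U, r, hx, H23.Frame.exists_iso_of_frame s hs⟩

end Groth.Agent.ExtShX.SmExt
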