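import Groth.Agent.KFlatLib.Scheme.ProjModule
import Groth.Agent.KFlatLib.Scheme.PushLocal
import Groth.Agent.KFlatLib.Scheme.LocalDevissage
import Groth.Agent.QCoh.LocFree
import Mathlib

/-!
# The projection map with a finite locally free module, naturally
-/

set_option autoImplicit false
set_option linter.style.haveILetI false
set_option backward.isDefEq.respectTransparency false
set_option backward.isDefEq.respectTransparency.types false
set_option maxHeartbeats 1000000

universe u

open CategoryTheory CategoryTheory.Limits AlgebraicGeometry TopologicalSpace Opposite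

namespace Groth.Agent.ExtShX

/-- A natural map of additive functors that is invertible at an object is so at its finite powers. -/
theorem isIso_app_sigma_const {C D : Type*} [Category C] [Category D] [Preadditive C] [Preadditive D]
    {F G : C ⥤ D} [F.Additive] [G.Additive] (τ : F ⟶ G) {ι : Type*} [Fintype ι] [DecidableEq ι]
    (K : C) [HasCoproduct (fun _ : ι => K)] [IsIso (τ.app K)] :
    IsIso (τ.app (∐ fun _ : ι => K)) := by
  let j : ι → (K ⟶ ∐ fun _ : ι => K) := fun i => Sigma.ι (fun _ : ι => K) i
  let p : ι → ((∐ fun _ : ι => K) ⟶ K) := fun i => Sigma.desc fun k => if k = i then 𝟙 K else 0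
  have hs : ∑ i, p i ≫ j i = 𝟙 (∐ fun _ : ι => K) := Sigma.hom_ext _ _ fun k => by
    rw [Preadditive.comp_sum, Finset.sum_eq_single k]
    · rw [← Category.assoc, Sigma.ι_desc, if_pos rfl, Category.id_comp, Category.comp_id]
    · intro b _ hb
      rw [← Category.assoc, Sigma.ι_desc, if_neg (Ne.symm hb), zero_comp]
    · exact fun h => absurd (Finset.mem_univ k) h
  refine ⟨∑ i, G.map (p i) ≫ inv (τ.app K) ≫ F.map (j i), ?_, ?_⟩
  · rw [Preadditive.comp_sum]
    simp only [← NatTrans.naturality_assoc, IsIso.hom_inv_id_assoc, ← Functor.map_comp]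
    rw [← Functor.map_sum, hs, F.map_id]
  · rw [Preadditive.sum_comp]
    simp only [Category.assoc, NatTrans.naturality, IsIso.inv_hom_id_assoc, ← Functor.map_comp]
    rw [← Functor.map_sum, hs, G.map_id]

variable {X Y : Scheme.{u}} (f : X ⟶ Y)

theorem isIso_restrict_push (W : Y.Opens) {A B : X.Modules} (g : A ⟶ B)
    [IsIso ((Scheme.Modules.restrictFunctor (KFlatLib.kIm f W)).map g)] :
    IsIso ((Scheme.Modules.restrictFunctor W.ι).map ((Scheme.Modules.pushforward f).map g)) :=
  (NatIso.isIso_map_iff (KFlatLib.pushResIso f W) g).2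
    (Functor.map_isIso (Scheme.Modules.pushforward (KFlatLib.kIm f W) ⋙ KFlatLib.pushRes f W) _)

theorem isIso_restrict_pull (W : Y.Opens) {A B : Y.Modules} (g : A ⟶ B)
    [IsIso ((Scheme.Modules.restrictFunctor W.ι).map g)] :
    IsIso ((Scheme.Modules.restrictFunctor (KFlatLib.kIm f W)).map ((Scheme.Modules.pullback f).map g)) :=
  (NatIso.isIso_map_iff (H23.PullPush.pullRestrictIso f W) g).1
    (Functor.map_isIso (Scheme.Modules.pullback (f ∣_ W)) _)

theorem isIso_restrict_tensor {U Z : Scheme.{u}} (j : U ⟶ Z) [IsOpenImmersion j]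
    (M : Z.Modules) {A B : Z.Modules} (g : A ⟶ B)
    [IsIso ((Scheme.Modules.restrictFunctor j).map g)] :
    IsIso ((Scheme.Modules.restrictFunctor j).map ((DCoh.tensorBi.obj M).map g)) :=
  (NatIso.isIso_map_iff ((KFlatLib.restrictTensorBiIso j).app M) g).2
    (Functor.map_isIso ((DCoh.tensorBi.obj ((Scheme.Modules.restrictFunctor j).obj M))) _)

theorem isIso_restrict_projMod_iff (W : Y.Opens) (M : X.Modules) {N N' : Y.Modules} (g : N ⟶ N')
    [IsIso ((Scheme.Modules.restrictFunctor W.ι).map g)] :
    IsIso ((Scheme.Modules.restrictFunctor W.ι).map (KFlatLib.projMod f M N)) ↔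
      IsIso ((Scheme.Modules.restrictFunctor W.ι).map (KFlatLib.projMod f M N')) := by
  haveI := isIso_restrict_tensor W.ι ((Scheme.Modules.pushforward f).obj M) g
  haveI := isIso_restrict_pull f W g
  haveI := isIso_restrict_tensor (KFlatLib.kIm f W) M ((Scheme.Modules.pullback f).map g)
  haveI := isIso_restrict_push f W ((DCoh.tensorBi.obj M).map ((Scheme.Modules.pullback f).map g))
  have w := congrArg (Scheme.Modules.restrictFunctor W.ι).map (KFlatLib.projMod_naturality_right f M g)
  rw [Functor.map_comp, Functor.map_comp] at w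
  rw [← isIso_comp_left_iff ((Scheme.Modules.restrictFunctor W.ι).map
    ((DCoh.tensorBi.obj ((Scheme.Modules.pushforward f).obj M)).map g)) _, w, isIso_comp_right_iff]

theorem isIso_projMod_freeMod (M : X.Modules) (n : ℕ) :
    IsIso (KFlatLib.projMod f M (FlatMod.freeMod Y n)) := by
  let τ : DCoh.tensorBi.obj ((Scheme.Modules.pushforward f).obj M) ⟶
      Scheme.Modules.pullback f ⋙ DCoh.tensorBi.obj M ⋙ Scheme.Modules.pushforward f :=
    { app := fun N => KFlatLib.projMod f M N
      naturality := fun _ _ g => KFlatLib.projMod_naturality_right f M g }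
  haveI : IsIso (τ.app (Coh.structureModule Y)) := KFlatLib.isIso_projMod_structure f M
  classical
  exact isIso_app_sigma_const τ (Coh.structureModule Y)

theorem isIso_projMod (M : X.Modules) {N : Y.Modules} (hN : FlatMod.IsFinLocFree N) :
    IsIso (KFlatLib.projMod f M N) := by
  choose W n hyW e using fun y => hN y
  suffices h : ∀ y, IsIso ((Scheme.Modules.restrictFunctor (W y).ι).map (KFlatLib.projMod f M N)) by
    refine KFlatLib.isIso_of_stalk _ fun y => (ConcreteCategory.isIso_iff_bijective _).2 ?_
    haveI := h y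
    have hb := ConcreteCategory.bijective_of_isIso
      ((DerSch.stalkFunctor (↑(W y) : Scheme.{u}) ⟨y, hyW y⟩).map ((Scheme.Modules.restrictFunctor (W y).ι).map (KFlatLib.projMod f M N)))
    exact ⟨KFlatLib.injective_stalk_of_restrict (W y).ι _ ⟨y, hyW y⟩ hb.1,
      KFlatLib.surjective_stalk_of_restrict (W y).ι _ ⟨y, hyW y⟩ hb.2⟩
  intro y
  let j := (W y).ι
  let R := Scheme.Modules.restrictFunctor j
  let adj := KFlatLib.lshAdj j
  haveI : Limits.PreservesColimitsOfSize.{0, 0} R := (Scheme.Modules.restrictAdjunction j).leftAdjoint_preservesColimits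
  obtain ⟨i⟩ := e y
  let φ : R.obj (FlatMod.freeMod Y (n y)) ≅ R.obj N :=
    PreservesCoproduct.iso R _ ≪≫ Sigma.mapIso (fun _ => KFlatLib.restrictStructureIso j) ≪≫ i.symm
  have hc : ∀ A : Y.Modules, IsIso (R.map (adj.counit.app A)) := fun A => by
    haveI : IsIso (adj.unit.app (R.obj A) ≫ R.map (adj.counit.app A)) := by
      rw [adj.right_triangle_components]; infer_instance
    exact IsIso.of_isIso_comp_left (adj.unit.app (R.obj A)) _
  haveI := hc (FlatMod.freeMod Y (n y))
  have h1 : IsIso (R.map (KFlatLib.projMod f M ((KFlatLib.lsh j).obj (R.obj (FlatMod.freeMod Y (n y)))))) :=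
    (isIso_restrict_projMod_iff f (W y) M (adj.counit.app (FlatMod.freeMod Y (n y)))).2
      (haveI : IsIso (KFlatLib.projMod f M ((𝟭 Y.Modules).obj (FlatMod.freeMod Y (n y)))) := isIso_projMod_freeMod f M (n y); inferInstance)
  let c : (KFlatLib.lsh j).obj (R.obj (FlatMod.freeMod Y (n y))) ⟶ N :=
    (KFlatLib.lsh j).map φ.hom ≫ adj.counit.app N
  haveI : IsIso (R.map c) := by
    haveI := hc N
    rw [R.map_comp]; infer_instance
  exact (isIso_restrict_projMod_iff f (W y) M c).1 h1

end Groth.Agent.ExtShX
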