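import Groth.Agent.KFlatLib.Scheme.ExtZero
import Groth.Agent.QCoh.FT
import Groth.Agent.QCoh.Tilde
import Groth.Agent.QCoh.Stalk
import Groth.Agent.QCoh.Localize
import Groth.Prelude.Def_DerSch
import Mathlib

/-!
# Stalks of injective sheaves of modules on a locally Noetherian scheme are injective
-/

set_option autoImplicit false
set_option linter.style.haveILetI false
set_option backward.isDefEq.respectTransparency false
set_option backward.isDefEq.respectTransparency.types false

universe u

open CategoryTheory AlgebraicGeometry TopologicalSpace Opposite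

namespace Groth.Agent.ExtShX

variable {X : Scheme.{u}} {G : X.Modules}

/-- Sections of an injective sheaf of modules on an affine open form an injective module. -/
theorem injective_sections [Injective G] {U : X.Opens} (hU : IsAffineOpen U) :
    Module.Injective Γ(X, U) Γ(G, U) := by
  haveI : (tilde.functor Γ(X, U)).PreservesMonomorphisms := ⟨fun f _ => QCoh.tildeMap_mono f⟩
  haveI h1 : Injective ((Scheme.Modules.restrictFunctor hU.fromSpec).obj G) :=
    (KFlatLib.lshAdj hU.fromSpec).map_injective G ‹Injective G›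
  haveI h2 : Injective (moduleSpecΓFunctor.obj ((Scheme.Modules.restrictFunctor hU.fromSpec).obj G)) :=
    tilde.adjunction.map_injective _ h1
  haveI h3 : Injective (ModuleCat.of Γ(X, U) Γ(G, U)) :=
    Injective.of_iso (QCoh.chartEquiv hU G).symm.toModuleIso h2
  exact Module.injective_module_of_injective_object Γ(X, U) Γ(G, U)

theorem res_res' (M : X.Modules) {U V W : X.Opens} (h : U ≤ V) (h' : V ≤ W) (s : Γ(M, W)) :
    M.presheaf.map (homOfLE h).op (M.presheaf.map (homOfLE h').op s) = M.presheaf.map (homOfLE (h.trans h')).op s :=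
  QCoh.map_map _ _ s

variable [IsLocallyNoetherian X]

/-- A linear form on an ideal of a stalk extends near the point. -/
theorem baer_stalk [Injective G] (x : X) : Module.Baer (X.presheaf.stalk x) (G.presheaf.stalk x) := by
  intro J φ
  obtain ⟨_, ⟨U, hU, rfl⟩, hxU, -⟩ :=
    X.isBasis_affineOpens.exists_subset_of_mem_open (Set.mem_univ x) isOpen_univ
  have hU' : IsAffineOpen U := hU
  haveI : IsNoetherianRing Γ(X, U) := IsLocallyNoetherian.component_noetherian ⟨U, hU'⟩
  letI := QCoh.stalkAlg (X := X) hxU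
  haveI := QCoh.isLocalization_stalk' hU' hxU
  let P := (hU'.primeIdealOf ⟨x, hxU⟩).asIdeal
  let J₀ : Ideal Γ(X, U) := J.comap (algebraMap Γ(X, U) (X.presheaf.stalk x))
  obtain ⟨r, a, ha⟩ := Submodule.fg_iff_exists_fin_generating_family.1 (IsNoetherian.noetherian J₀)
  have haJ : ∀ i, algebraMap Γ(X, U) (X.presheaf.stalk x) (a i) ∈ J := fun i => by
    have : a i ∈ J₀ := ha ▸ Submodule.subset_span ⟨i, rfl⟩
    exact this
  -- common neighbourhood of the values
  choose W hxW b hb using fun i => TopCat.Presheaf.exists_germ_eq G.presheaf (φ ⟨_, haJ i⟩)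
  obtain ⟨g₀, hg₀, hxg₀⟩ := hU'.exists_basicOpen_le (V := U ⊓ Finset.univ.inf W)
    ⟨x, hxU, by
      have hmem : ∀ s : Finset (Fin r), x ∈ s.inf W := fun s => by
        induction s using Finset.cons_induction with
        | empty => exact trivial
        | cons i s hi ih => rw [Finset.inf_cons]; exact ⟨hxW i, ih⟩
      exact hmem Finset.univ⟩ hxU
  -- relations
  let K : Submodule Γ(X, U) (Fin r → Γ(X, U)) := LinearMap.ker (Fintype.linearCombination Γ(X, U) a)
  obtain ⟨m, c, hc⟩ := Submodule.fg_iff_exists_fin_generating_family.1 (IsNoetherian.noetherian K)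
  have hle : ∀ i, X.basicOpen g₀ ≤ W i := fun i => hg₀.trans (inf_le_right.trans (Finset.inf_le (Finset.mem_univ i)))
  let b₀ : Fin r → Γ(G, X.basicOpen g₀) := fun i => G.presheaf.map (homOfLE (hle i)).op (b i)
  have hb₀ : ∀ i, G.presheaf.germ (X.basicOpen g₀) x hxg₀ (b₀ i) = φ ⟨_, haJ i⟩ := fun i => by
    rw [TopCat.Presheaf.germ_res_apply]
    exact hb i
  let ρ : Γ(X, U) →+* Γ(X, X.basicOpen g₀) := (X.presheaf.map (homOfLE (X.basicOpen_le g₀)).op).hom
  have hρ : ∀ t, X.presheaf.germ (X.basicOpen g₀) x hxg₀ (ρ t) = algebraMap Γ(X, U) (X.presheaf.stalk x) t :=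
    fun t => X.presheaf.germ_res_apply _ x hxg₀ t
  have hrel : ∀ k, G.presheaf.germ (X.basicOpen g₀) x hxg₀ (∑ i, ρ (c k i) • b₀ i) = 0 := fun k => by
    rw [map_sum]
    simp only [QCoh.germ_smul', hρ, hb₀, ← map_smul]
    rw [← map_sum]
    have h0 : (∑ i, algebraMap Γ(X, U) (X.presheaf.stalk x) (c k i) • (⟨_, haJ i⟩ : J)) = 0 := by
      apply Subtype.ext
      simp only [AddSubmonoidClass.coe_finset_sum, SetLike.val_smul, smul_eq_mul, ZeroMemClass.coe_zero, ← map_mul]
      rw [← map_sum]
      have hk : c k ∈ K := hc ▸ Submodule.subset_span ⟨k, rfl⟩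
      have hk' : ∑ i, c k i * a i = 0 := by
        simpa [K, Fintype.linearCombination_apply, smul_eq_mul] using hk
      rw [hk', map_zero]
    rw [h0, map_zero]
  choose V hxV iV jV hV using fun k => G.presheaf.germ_eq x hxg₀ hxg₀ _ 0 ((hrel k).trans (map_zero _).symm)
  obtain ⟨g, hg, hxg⟩ := hU'.exists_basicOpen_le (V := X.basicOpen g₀ ⊓ Finset.univ.inf V)
    ⟨x, hxg₀, by
      have hmem : ∀ s : Finset (Fin m), x ∈ s.inf V := fun s => by
        induction s using Finset.cons_induction with
        | empty => exact trivial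
        | cons i s hi ih => rw [Finset.inf_cons]; exact ⟨hxV i, ih⟩
      exact hmem Finset.univ⟩ hxU
  have hgV : IsAffineOpen (X.basicOpen g) := hU'.basicOpen g
  let σ : Γ(X, U) →+* Γ(X, X.basicOpen g) := (X.presheaf.map (homOfLE (X.basicOpen_le g)).op).hom
  have hle₁ : X.basicOpen g ≤ X.basicOpen g₀ := hg.trans inf_le_left
  let b₁ : Fin r → Γ(G, X.basicOpen g) := fun i => G.presheaf.map (homOfLE hle₁).op (b₀ i)
  have hb₁ : ∀ i, G.presheaf.germ (X.basicOpen g) x hxg (b₁ i) = φ ⟨_, haJ i⟩ := fun i => by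
    rw [TopCat.Presheaf.germ_res_apply]
    exact hb₀ i
  have hrel₁ : ∀ k, ∑ i, σ (c k i) • b₁ i = 0 := fun k => by
    have h := congrArg (G.presheaf.map (homOfLE (show X.basicOpen g ≤ V k from
      hg.trans (inf_le_right.trans (Finset.inf_le (Finset.mem_univ k))))).op) (hV k)
    rw [QCoh.map_map, map_zero, map_zero, map_sum] at h
    refine Eq.trans (Finset.sum_congr rfl fun i _ => ?_) h
    rw [QCoh.map_smul']
    refine congrArg₂ (· • ·) ?_ rfl
    exact (QCoh.ringMap_map _ _ _).symm
  letI : Algebra Γ(X, U) Γ(X, X.basicOpen g) := σ.toAlgebra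
  haveI : IsLocalization.Away g Γ(X, X.basicOpen g) := hU'.isLocalization_basicOpen g
  let a₁ : Fin r → Γ(X, X.basicOpen g) := fun i => σ (a i)
  let π₁ := Fintype.linearCombination Γ(X, X.basicOpen g) a₁
  have hker : LinearMap.ker π₁ ≤ LinearMap.ker (Fintype.linearCombination Γ(X, X.basicOpen g) b₁) := by
    intro v hv
    obtain ⟨⟨s, hs⟩, hsv⟩ := IsLocalization.exist_integer_multiples_of_finite (Submonoid.powers g) v
    choose w hw using hsv
    have hs0 : σ (∑ i, w i * a i) = 0 := by
      rw [map_sum]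
      have hv' : ∑ i, v i * a₁ i = 0 := by
        simpa [π₁, Fintype.linearCombination_apply, smul_eq_mul] using hv
      refine Eq.trans (Finset.sum_congr rfl fun i _ => ?_) ((congrArg (σ s * ·) hv').trans (mul_zero _) |>.symm.trans
        (Finset.mul_sum _ _ _)).symm
      rw [map_mul, ← mul_assoc]
      refine congrArg (· * a₁ i) ?_
      exact (hw i).trans (Algebra.smul_def _ _)
    obtain ⟨⟨t, ht⟩, htw⟩ := (IsLocalization.map_eq_zero_iff (Submonoid.powers g) Γ(X, X.basicOpen g) _).1 hs0
    have hKw : t • w ∈ K := by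
      rw [LinearMap.mem_ker, map_smul, Fintype.linearCombination_apply]
      simpa [smul_eq_mul] using htw
    have hall : ∀ u ∈ K, ∑ i, σ (u i) • b₁ i = 0 := fun u hu => by
      rw [← hc] at hu
      induction hu using Submodule.span_induction with
      | mem u hu => obtain ⟨k, rfl⟩ := hu; exact hrel₁ k
      | zero => simp
      | add u u' _ _ hu hu' => simp only [Pi.add_apply, map_add, add_smul, Finset.sum_add_distrib, hu, hu', add_zero]
      | smul e u _ hu => simp only [Pi.smul_apply, smul_eq_mul, map_mul, mul_smul, ← Finset.smul_sum, hu, smul_zero]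
    have h3 := hall _ hKw
    have hut : IsUnit (σ t * σ s) :=
      (IsLocalization.map_units Γ(X, X.basicOpen g) (⟨t, ht⟩ : Submonoid.powers g)).mul
        (IsLocalization.map_units Γ(X, X.basicOpen g) (⟨s, hs⟩ : Submonoid.powers g))
    rw [LinearMap.mem_ker, Fintype.linearCombination_apply]
    refine hut.smul_eq_zero.1 (Eq.trans ?_ h3)
    rw [Finset.smul_sum]
    refine Finset.sum_congr rfl fun i _ => ?_
    rw [smul_smul]
    refine congrArg (· • b₁ i) ?_
    rw [Pi.smul_apply, smul_eq_mul, map_mul, mul_assoc]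
    exact congrArg (σ t * ·) ((hw i).trans (Algebra.smul_def _ _)).symm
  let ψ : LinearMap.range π₁ →ₗ[Γ(X, X.basicOpen g)] Γ(G, X.basicOpen g) :=
    (Submodule.liftQ _ (Fintype.linearCombination Γ(X, X.basicOpen g) b₁) hker).comp
      π₁.quotKerEquivRange.symm.toLinearMap
  haveI := injective_sections (G := G) hgV
  obtain ⟨Ψ, hΨ⟩ := Module.Injective.out (LinearMap.range π₁).subtype Subtype.val_injective ψ
  let e := G.presheaf.germ (X.basicOpen g) x hxg (Ψ 1)
  have hΨa : ∀ i, a₁ i • Ψ 1 = b₁ i := fun i => by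
    rw [← map_smul, smul_eq_mul, mul_one]
    have hmem : π₁ (Pi.single i 1) = a₁ i := by simp [π₁]
    have h := hΨ ⟨π₁ (Pi.single i 1), LinearMap.mem_range_self _ _⟩
    simp only [Submodule.subtype_apply] at h
    refine ((congrArg Ψ hmem.symm).trans h).trans ?_
    show Submodule.liftQ _ _ hker (π₁.quotKerEquivRange.symm ⟨π₁ (Pi.single i 1), _⟩) = _
    rw [LinearMap.quotKerEquivRange_symm_apply_image, Submodule.mkQ_apply, Submodule.liftQ_apply]
    simp
  refine ⟨LinearMap.toSpanSingleton _ _ e, fun z hz => ?_⟩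
  have hJ : J = Submodule.span (X.presheaf.stalk x) (Set.range fun i => algebraMap Γ(X, U) (X.presheaf.stalk x) (a i)) := by
    refine le_antisymm ?_ (Submodule.span_le.2 (Set.range_subset_iff.2 haJ))
    rw [← IsLocalization.map_comap P.primeCompl (X.presheaf.stalk x) J,
      show Ideal.under Γ(X, U) J = Ideal.span (Set.range a) from ha.symm,
      Ideal.map_span, ← Set.range_comp]
    exact le_rfl
  have key : ∀ z (hz : z ∈ J), z • e = φ ⟨z, hz⟩ := by
    intro z hz
    have hz' := hz
    rw [hJ] at hz'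
    induction hz' using Submodule.span_induction with
    | mem z hz' =>
      obtain ⟨i, rfl⟩ := hz'
      rw [← hb₁ i, ← hΨa i, QCoh.germ_smul']
      refine congrArg (· • e) ?_
      exact (X.presheaf.germ_res_apply _ x hxg (a i)).symm
    | zero => rw [zero_smul]; exact (map_zero φ).symm
    | add p q hp hq ihp ihq =>
      rw [← hJ] at hp hq
      rw [add_smul, ihp hp, ihq hq, ← map_add]; rfl
    | smul t p hp ihp =>
      rw [← hJ] at hp
      refine (mul_smul t p e).trans ?_
      rw [ihp hp, ← map_smul]; rfl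
  exact key z hz

theorem injective_stalk [Injective G] (x : X) : Injective ((DerSch.stalkFunctor X x).obj G) :=
  Module.injective_object_of_injective_module (X.presheaf.stalk x) (G.presheaf.stalk x) (inj := (baer_stalk x).injective)

end Groth.Agent.ExtShX
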