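import Groth.Agent.ExtShX.FundCon
import Groth.Agent.ExtShX.Injective
import Groth.Agent.H23.SpClosed
import Groth.Agent.KZ.LFRes
import Mathlib

/-!
# Cochains of `Hom(ι_* O_X, I•)` on stalks
-/

set_option autoImplicit false
set_option linter.style.haveILetI false
set_option linter.unusedSectionVars false
set_option backward.isDefEq.respectTransparency false
set_option backward.isDefEq.respectTransparency.types false

universe u

open CategoryTheory CategoryTheory.Limits AlgebraicGeometry TopologicalSpace Opposite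
open Groth.Agent.WiebeLib
open RefHull (stalkMapₗ stalkMapₗ_germ)
open scoped TensorProduct

noncomputable section

namespace Groth.Agent.ExtShX.Fund

/-- `m ↦ 1 ⊗ m` along a surjection. -/
theorem one_tmul_eq_zero_iff {A B : Type u} [CommRing A] [CommRing B] [Algebra A B]
    (hs : Function.Surjective (algebraMap A B)) {M : Type u} [AddCommGroup M] [Module A M] (m : M) :
    (1 : B) ⊗ₜ[A] m = 0 ↔ m ∈ RingHom.ker (algebraMap A B) • (⊤ : Submodule A M) := by
  let K : Ideal A := RingHom.ker (algebraMap A B)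
  let e : (A ⧸ K) ≃ₗ[A] B :=
    (Submodule.quotEquivOfEq K (LinearMap.ker (Algebra.linearMap A B)) (by rfl)).trans
      ((Algebra.linearMap A B).quotKerEquivOfSurjective hs)
  have he : e (Ideal.Quotient.mk K 1) = 1 := map_one (algebraMap A B)
  let g := (TensorProduct.congr e.symm (LinearEquiv.refl A M)).trans (TensorProduct.quotTensorEquivQuotSMul M K)
  have hg : g ((1 : B) ⊗ₜ[A] m) = Submodule.Quotient.mk m := by
    show TensorProduct.quotTensorEquivQuotSMul M K (TensorProduct.congr e.symm (LinearEquiv.refl A M) (1 ⊗ₜ m)) = _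
    rw [TensorProduct.congr_tmul, ← he, e.symm_apply_apply, LinearEquiv.refl_apply,
      TensorProduct.quotTensorEquivQuotSMul_mk_tmul, one_smul]
  rw [← g.map_eq_zero_iff, hg, Submodule.Quotient.mk_eq_zero]

variable {P X : Scheme.{u}} (ι : X ⟶ P) [IsClosedImmersion ι]

section unit

variable (F : P.Modules)

/-- `ι_* ι^* F`. -/
abbrev Qm : P.Modules := (Scheme.Modules.pushforward ι).obj ((Scheme.Modules.pullback ι).obj F)

/-- The unit. -/
def η : F ⟶ Qm ι F := (Scheme.Modules.pullbackPushforwardAdjunction ι).unit.app F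

theorem stalkη (a : X) (m : F.presheaf.stalk (ι a)) :
    ((KFlatLib.stalkPullbackIso ι a).app F).hom (stalkPushEquiv ι _ a (stalkMapₗ (η ι F) (ι a) m)) =
      ((ModuleCat.extendRestrictScalarsAdj (ι.stalkMap a).hom).unit.app (Synt29.OmegaStalk.St F (ι a))).hom m := by
  obtain ⟨U, hU, s, rfl⟩ := TopCat.Presheaf.exists_germ_eq F.presheaf m
  rw [stalkMapₗ_germ, stalkPushEquiv_germ]
  exact Synt29.OmegaStalk.stalkPullbackIso_gm ι F a hU s

theorem η_stalk_surjective (x : P) : Function.Surjective (stalkMapₗ (η ι F) x) := by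
  intro z
  by_cases hx : x ∈ Set.range ι
  · obtain ⟨a, rfl⟩ := hx
    let _ := (ι.stalkMap a).hom.toAlgebra
    have hu : ∀ y : (X.presheaf.stalk a) ⊗[P.presheaf.stalk (ι a)] (Synt29.OmegaStalk.St F (ι a)),
        ∃ m : F.presheaf.stalk (ι a), (1 : X.presheaf.stalk a) ⊗ₜ[P.presheaf.stalk (ι a)] m = y := fun y => by
      induction y using TensorProduct.induction_on with
      | zero => exact ⟨0, TensorProduct.tmul_zero _ _⟩
      | tmul b m =>
        obtain ⟨c, hc⟩ := ι.stalkMap_surjective a b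
        refine ⟨c • m, ?_⟩
        rw [← TensorProduct.smul_tmul, Algebra.smul_def, mul_one]
        exact congrArg (· ⊗ₜ[P.presheaf.stalk (ι a)] m) hc
      | add y y' hy hy' =>
        obtain ⟨m, rfl⟩ := hy
        obtain ⟨m', rfl⟩ := hy'
        exact ⟨m + m', TensorProduct.tmul_add _ _ _⟩
    obtain ⟨m, hm⟩ := hu (((KFlatLib.stalkPullbackIso ι a).app F).hom (stalkPushEquiv ι _ a z))
    refine ⟨m, (stalkPushEquiv ι _ a).injective
      ((ConcreteCategory.bijective_of_isIso ((KFlatLib.stalkPullbackIso ι a).app F).hom).1 ?_)⟩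
    rw [stalkη]
    exact hm
  · haveI := H23.ClosedPushLen.subsingleton_stalk (f := ι) ((Scheme.Modules.pullback ι).obj F) hx
    exact ⟨0, Subsingleton.elim _ _⟩

theorem η_stalk_eq_zero_iff (x : P) (m : F.presheaf.stalk x) :
    stalkMapₗ (η ι F) x m = 0 ↔ m ∈ Jst ι x • (⊤ : Submodule (P.presheaf.stalk x) (F.presheaf.stalk x)) := by
  by_cases hx : x ∈ Set.range ι
  · obtain ⟨a, rfl⟩ := hx
    let _ := (ι.stalkMap a).hom.toAlgebra
    rw [← (stalkPushEquiv ι _ a).map_eq_zero_iff,
      ← map_eq_zero_iff _ (ConcreteCategory.bijective_of_isIso ((KFlatLib.stalkPullbackIso ι a).app F).hom).1,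
      stalkη, Jst_eq_ker]
    exact one_tmul_eq_zero_iff (B := X.presheaf.stalk a) (ι.stalkMap_surjective a) m
  · haveI := H23.ClosedPushLen.subsingleton_stalk (f := ι) ((Scheme.Modules.pullback ι).obj F) hx
    rw [Jst_eq_top ι hx, Submodule.top_smul]
    exact iff_of_true (Subsingleton.elim _ _) trivial

end unit

section ev

variable [ModSite.HasSheafHom (O := P.sheaf) (OX ι)]

/-- A germ of `Hom(ι_* O_X, M)` evaluated at `1`. -/
def ev₁ (M : P.Modules) (x : P) : (shHom (OX ι) M).presheaf.stalk x →ₗ[P.presheaf.stalk x] M.presheaf.stalk x :=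
  (LinearMap.applyₗ (R := P.presheaf.stalk x) (one ι x)).comp (evL (OX ι) M x)

theorem ev₁_apply (M : P.Modules) (x : P) (θ : (shHom (OX ι) M).presheaf.stalk x) :
    ev₁ ι M x θ = evL (OX ι) M x θ (one ι x) := rfl

theorem ev₁_natural {M M' : P.Modules} (p : M ⟶ M') (x : P) (θ : (shHom (OX ι) M).presheaf.stalk x) :
    ev₁ ι M' x (stalkMapₗ ((ModSite.sheafHom (O := P.sheaf) (OX ι)).map p) x θ) = stalkMapₗ p x (ev₁ ι M x θ) := by
  rw [ev₁_apply, evL_natural]
  rfl

theorem Jst_smul_ev₁ (M : P.Modules) (x : P) {c : P.presheaf.stalk x} (hc : c ∈ Jst ι x)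
    (θ : (shHom (OX ι) M).presheaf.stalk x) : c • ev₁ ι M x θ = 0 := by
  rw [ev₁_apply, ← map_smul, (mem_Jst ι).1 hc, map_zero]

theorem ev₁_injective (hFP : CohB1.IsFP (OX ι)) (M : P.Modules) (x : P) : Function.Injective (ev₁ ι M x) :=
  fun θ θ' h => (evL_bijective (OX ι) hFP M x).1 (LinearMap.ext fun v => by
    obtain ⟨c, rfl⟩ := span_one ι x v
    show evL (OX ι) M x θ (c • one ι x) = evL (OX ι) M x θ' (c • one ι x)
    rw [map_smul, map_smul]
    exact congrArg (c • ·) h)

theorem exists_ev₁ (hFP : CohB1.IsFP (OX ι)) (M : P.Modules) (x : P) (m : M.presheaf.stalk x)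
    (hm : ∀ c ∈ Jst ι x, c • m = 0) : ∃ θ, ev₁ ι M x θ = m := by
  let π := LinearMap.toSpanSingleton (P.presheaf.stalk x) ((OX ι).presheaf.stalk x) (one ι x)
  let g : ((OX ι).presheaf.stalk x) →ₗ[P.presheaf.stalk x] M.presheaf.stalk x :=
    ((Jst ι x).liftQ (LinearMap.toSpanSingleton _ _ m) (fun c hc => hm c hc)) ∘ₗ
      (π.quotKerEquivOfSurjective (span_one ι x)).symm.toLinearMap
  obtain ⟨θ, hθ⟩ := (evL_bijective (OX ι) hFP M x).2 g
  refine ⟨θ, ?_⟩
  rw [ev₁_apply, hθ]
  have h1 : (π.quotKerEquivOfSurjective (span_one ι x)).symm (one ι x) = Submodule.Quotient.mk 1 := by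
    rw [LinearEquiv.symm_apply_eq]
    exact (one_smul (P.presheaf.stalk x) (one ι x)).symm
  refine Eq.trans (congrArg ((Jst ι x).liftQ (LinearMap.toSpanSingleton (P.presheaf.stalk x) (M.presheaf.stalk x) m)
    fun c hc => hm c hc) h1) ?_
  exact one_smul (P.presheaf.stalk x) m

/-- A section of `Hom(ι_* O_X, M)` evaluated at `1`. -/
def ev₁Sec (M : P.Modules) (U : P.Opens) (s : Γ(shHom (OX ι) M, U)) : Γ(M, U) :=
  (evT (OX ι) M).app U (InvX.tmul s (AModX.res (OX ι) (le_top : U ≤ ⊤)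
    (H23.UnitSec.oneG (ι ⁻¹ᵁ ⊤) : Γ(Coh.structureModule X, ι ⁻¹ᵁ ⊤))))

theorem germ_ev₁Sec (M : P.Modules) (U : P.Opens) (s : Γ(shHom (OX ι) M, U)) (x : P) (hx : x ∈ U) :
    M.presheaf.germ U x hx (ev₁Sec ι M U s) = ev₁ ι M x ((shHom (OX ι) M).presheaf.germ U x hx s) := by
  rw [ev₁_apply, evL_apply, one, ← RefX.germ_res (OX ι) (le_top : U ≤ ⊤) hx
    (H23.UnitSec.oneG (ι ⁻¹ᵁ ⊤) : Γ(Coh.structureModule X, ι ⁻¹ᵁ ⊤))]
  erw [RefX2.stalkTmul_germ]
  exact (stalkMapₗ_germ (evT (OX ι) M) x hx _).symm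

end ev

section exact

variable {P : Scheme.{u}} {S : ShortComplex P.Modules}

theorem stalk_exact_elem (hS : S.Exact) (x : P) (v : S.X₂.presheaf.stalk x) (hv : stalkMapₗ S.g x v = 0) :
    ∃ w, stalkMapₗ S.f x w = v := by
  haveI : PreservesFiniteLimits (DerSch.stalkFunctor P x) := inferInstance
  haveI : PreservesFiniteColimits (DerSch.stalkFunctor P x) := inferInstance
  haveI : (DerSch.stalkFunctor P x).Additive := Functor.additive_of_preserves_binary_products _
  have h := hS.map (DerSch.stalkFunctor P x)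
  rw [ShortComplex.moduleCat_exact_iff] at h
  exact h v hv

theorem stalk_injective_of_mono {M N : P.Modules} (p : M ⟶ N) [Mono p] (x : P) :
    Function.Injective (stalkMapₗ p x) := by
  haveI : PreservesFiniteLimits (DerSch.stalkFunctor P x) := inferInstance
  exact (ModuleCat.mono_iff_injective _).1 (inferInstance : Mono ((DerSch.stalkFunctor P x).map p))

theorem stalk_comp_zero {M N Q : P.Modules} (p : M ⟶ N) (q : N ⟶ Q) (h : p ≫ q = 0) (x : P)
    (v : M.presheaf.stalk x) : stalkMapₗ q x (stalkMapₗ p x v) = 0 := by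
  rw [← LinearMap.comp_apply, ← HomShX.stalkMapₗ_comp, h, HomShX.stalkMapₗ_zero, LinearMap.zero_apply]

end exact

end Groth.Agent.ExtShX.Fund
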