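import Groth.Agent.ExtShX.Flasque
import Groth.Agent.ExtShX.ProjNat
import Groth.Agent.KFlatLib.Scheme.TensorAssoc
import Groth.Agent.KFlatLib.Mate
import Mathlib

/-!
# `Hom(F, M) ⊗ E = Hom(F, M ⊗ E)` for finite locally free `E`, naturally
-/

set_option autoImplicit false
set_option linter.style.haveILetI false
set_option backward.isDefEq.respectTransparency false
set_option backward.isDefEq.respectTransparency.types false
set_option maxHeartbeats 1000000

universe u

open CategoryTheory CategoryTheory.Limits AlgebraicGeometry TopologicalSpace Opposite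

namespace Groth.Agent.ExtShX

theorem paste3 {C : Type*} [Category C] {a₁ a₂ a₃ a₄ b₁ b₂ b₃ b₄ : C} {f₁ : a₁ ⟶ a₂} {f₂ : a₂ ⟶ a₃}
    {f₃ : a₃ ⟶ a₄} {g₁ : b₁ ⟶ b₂} {g₂ : b₂ ⟶ b₃} {g₃ : b₃ ⟶ b₄} {v₁ : a₁ ⟶ b₁} {v₂ : a₂ ⟶ b₂}
    {v₃ : a₃ ⟶ b₃} {v₄ : a₄ ⟶ b₄} (h₁ : v₁ ≫ g₁ = f₁ ≫ v₂) (h₂ : v₂ ≫ g₂ = f₂ ≫ v₃)
    (h₃ : v₃ ≫ g₃ = f₃ ≫ v₄) : v₁ ≫ (g₁ ≫ g₂ ≫ g₃) = (f₁ ≫ f₂ ≫ f₃) ≫ v₄ := by
  rw [reassoc_of% h₁, reassoc_of% h₂, h₃, Category.assoc, Category.assoc]

variable {X : Scheme.{u}} (F : X.Modules)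

local notation "⊗ₘ" => DCoh.tensorBi (X := X)

/-- `(M ⊗ E) ⊗ F = (M ⊗ F) ⊗ E`. -/
noncomputable def swapIso (M E : X.Modules) :
    ((⊗ₘ).obj (((⊗ₘ).obj M).obj E)).obj F ≅ ((⊗ₘ).obj (((⊗ₘ).obj M).obj F)).obj E :=
  (((KFlatLib.tensorAssocSch X).app M).app E).app F ≪≫
    ((⊗ₘ).obj M).mapIso (((KFlatLib.tensorBiFlipIso X).app F).app E) ≪≫
    ((((KFlatLib.tensorAssocSch X).app M).app F).app E).symm

theorem swapIso_natural_left {M M' : X.Modules} (g : M ⟶ M') (E : X.Modules) :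
    ((⊗ₘ).map (((⊗ₘ).map g).app E)).app F ≫ (swapIso F M' E).hom =
      (swapIso F M E).hom ≫ ((⊗ₘ).map (((⊗ₘ).map g).app F)).app E := by
  exact paste3 (NatTrans.congr_app (NatTrans.congr_app ((KFlatLib.tensorAssocSch X).hom.naturality g) E) F)
    (((⊗ₘ).map g).naturality ((((KFlatLib.tensorBiFlipIso X).app F).app E).hom)).symm
    (NatTrans.congr_app (NatTrans.congr_app ((KFlatLib.tensorAssocSch X).inv.naturality g) F) E)

theorem swapIso_natural_right (M : X.Modules) {E E' : X.Modules} (g : E ⟶ E') :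
    ((⊗ₘ).map (((⊗ₘ).obj M).map g)).app F ≫ (swapIso F M E').hom =
      (swapIso F M E).hom ≫ ((⊗ₘ).obj (((⊗ₘ).obj M).obj F)).map g := by
  exact paste3 (NatTrans.congr_app (((KFlatLib.tensorAssocSch X).hom.app M).naturality g) F)
    ((((⊗ₘ).obj M).map_comp _ _).symm.trans ((congrArg ((⊗ₘ).obj M).map
      (((KFlatLib.tensorBiFlipIso X).hom.app F).naturality g)).trans (((⊗ₘ).obj M).map_comp _ _)))
    ((((KFlatLib.tensorAssocSch X).inv.app M).app F).naturality g)

variable [ModSite.HasSheafHom (O := X.sheaf) F]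

/-- `- ⊗ F ⊣ Hom(F, -)`, as endofunctors of the modules of a scheme. -/
noncomputable abbrev shAdj : (⊗ₘ).flip.obj F ⊣ SH F := ModSite.sheafHomAdj (O := X.sheaf) F

/-- `(Hom(F, M) ⊗ E) ⊗ F ⟶ M ⊗ E`. -/
noncomputable def shTensorPre (M E : X.Modules) :
    ((⊗ₘ).obj (((⊗ₘ).obj ((SH F).obj M)).obj E)).obj F ⟶ ((⊗ₘ).obj M).obj E :=
  (swapIso F ((SH F).obj M) E).hom ≫ ((⊗ₘ).map ((shAdj F).counit.app M)).app E

/-- The canonical map `Hom(F, M) ⊗ E ⟶ Hom(F, M ⊗ E)`. -/
noncomputable def shTensorHom (M E : X.Modules) :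
    ((⊗ₘ).obj ((SH F).obj M)).obj E ⟶ (SH F).obj (((⊗ₘ).obj M).obj E) :=
  (shAdj F).homEquiv _ _ (shTensorPre F M E)

theorem shTensorHom_natural_left {M M' : X.Modules} (g : M ⟶ M') (E : X.Modules) :
    ((⊗ₘ).map ((SH F).map g)).app E ≫ shTensorHom F M' E =
      shTensorHom F M E ≫ (SH F).map (((⊗ₘ).map g).app E) := by
  refine ((shAdj F).homEquiv_naturality_left _ _).symm.trans ?_
  refine Eq.trans (congrArg _ ?_) ((shAdj F).homEquiv_naturality_right _ _)
  show ((⊗ₘ).map (((⊗ₘ).map ((SH F).map g)).app E)).app F ≫ shTensorPre F M' E = _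
  rw [shTensorPre, shTensorPre, reassoc_of% (swapIso_natural_left F ((SH F).map g) E), Category.assoc]
  refine congrArg (_ ≫ ·) ?_
  rw [← NatTrans.comp_app, ← NatTrans.comp_app, ← Functor.map_comp, ← Functor.map_comp]
  exact congrArg (fun t => ((⊗ₘ).map t).app E) ((shAdj F).counit.naturality g)

theorem shTensorHom_natural_right (M : X.Modules) {E E' : X.Modules} (g : E ⟶ E') :
    ((⊗ₘ).obj ((SH F).obj M)).map g ≫ shTensorHom F M E' =
      shTensorHom F M E ≫ (SH F).map (((⊗ₘ).obj M).map g) := by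
  refine ((shAdj F).homEquiv_naturality_left _ _).symm.trans ?_
  refine Eq.trans (congrArg _ ?_) ((shAdj F).homEquiv_naturality_right _ _)
  show ((⊗ₘ).map (((⊗ₘ).obj ((SH F).obj M)).map g)).app F ≫ shTensorPre F M E' = _
  rw [shTensorPre, shTensorPre, reassoc_of% (swapIso_natural_right F ((SH F).obj M) g), Category.assoc]
  exact congrArg (_ ≫ ·) (((⊗ₘ).map ((shAdj F).counit.app M)).naturality g)

theorem isIso_shTensorHom_structure (M : X.Modules) : IsIso (shTensorHom F M (Coh.structureModule X)) := by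
  let T := (⊗ₘ).flip.obj (Coh.structureModule X)
  haveI : T.IsEquivalence := Functor.isEquivalence_of_iso (KFlatLib.tensorStructureIso X).symm
  let α : T ⋙ (⊗ₘ).flip.obj F ≅ (⊗ₘ).flip.obj F ⋙ T :=
    NatIso.ofComponents (fun L => swapIso F L (Coh.structureModule X))
      (fun φ => swapIso_natural_left F φ _)
  exact KFlatLib.isIso_mate (shAdj F) α M

theorem isIso_restrict_sheafHom (U : X.Opens) {A B : X.Modules} (g : A ⟶ B)
    [IsIso ((Scheme.Modules.restrictFunctor U.ι).map g)] :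
    IsIso ((Scheme.Modules.restrictFunctor U.ι).map ((SH F).map g)) := by
  let G := F.restrict U.ι
  let aU : (DCoh.tensorBi (X := (↑U : Scheme.{u}))).flip.obj G ⊣ SheafHomX.hom G :=
    (SheafHomX.adj G).ofNatIsoLeft (eqToIso rfl)
  let q : (DCoh.tensorBi (X := (↑U : Scheme.{u}))).flip.obj G ⋙ KFlatLib.lsh U.ι ≅
      KFlatLib.lsh U.ι ⋙ (⊗ₘ).flip.obj F :=
    Functor.isoWhiskerRight (KFlatLib.projIso U.ι) ((CategoryTheory.evaluation _ _).obj F)
  let e : SH F ⋙ Scheme.Modules.restrictFunctor U.ι ≅ Scheme.Modules.restrictFunctor U.ι ⋙ SheafHomX.hom G :=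
    (((KFlatLib.lshAdj U.ι).comp (shAdj F)).ofNatIsoLeft q.symm).rightAdjointUniq (aU.comp (KFlatLib.lshAdj U.ι))
  exact (NatIso.isIso_map_iff e g).2 (Functor.map_isIso (SheafHomX.hom G) _)

theorem isIso_restrict_shTensorHom_iff (W : X.Opens) (M : X.Modules) {E E' : X.Modules} (g : E ⟶ E')
    [IsIso ((Scheme.Modules.restrictFunctor W.ι).map g)] :
    IsIso ((Scheme.Modules.restrictFunctor W.ι).map (shTensorHom F M E)) ↔
      IsIso ((Scheme.Modules.restrictFunctor W.ι).map (shTensorHom F M E')) := by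
  haveI := isIso_restrict_tensor W.ι ((SH F).obj M) g
  haveI := isIso_restrict_tensor W.ι M g
  haveI := isIso_restrict_sheafHom F W (((⊗ₘ).obj M).map g)
  have w := congrArg (Scheme.Modules.restrictFunctor W.ι).map (shTensorHom_natural_right F M g)
  rw [Functor.map_comp, Functor.map_comp] at w
  rw [← isIso_comp_left_iff ((Scheme.Modules.restrictFunctor W.ι).map
    (((⊗ₘ).obj ((SH F).obj M)).map g)) _, w, isIso_comp_right_iff]

theorem isIso_shTensorHom_freeMod (M : X.Modules) (n : ℕ) :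
    IsIso (shTensorHom F M (FlatMod.freeMod X n)) := by
  haveI : (SH F).Additive := (shAdj F).right_adjoint_additive
  let τ : (⊗ₘ).obj ((SH F).obj M) ⟶ (⊗ₘ).obj M ⋙ SH F :=
    { app := fun E => shTensorHom F M E
      naturality := fun _ _ g => shTensorHom_natural_right F M g }
  haveI : IsIso (τ.app (Coh.structureModule X)) := isIso_shTensorHom_structure F M
  classical
  exact isIso_app_sigma_const τ (Coh.structureModule X)

theorem isIso_shTensorHom (M : X.Modules) {E : X.Modules} (hE : FlatMod.IsFinLocFree E) :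
    IsIso (shTensorHom F M E) := by
  choose W n hyW e using fun y => hE y
  suffices h : ∀ y, IsIso ((Scheme.Modules.restrictFunctor (W y).ι).map (shTensorHom F M E)) by
    refine KFlatLib.isIso_of_stalk _ fun y => (ConcreteCategory.isIso_iff_bijective _).2 ?_
    haveI := h y
    have hb := ConcreteCategory.bijective_of_isIso
      ((DerSch.stalkFunctor (↑(W y) : Scheme.{u}) ⟨y, hyW y⟩).map
        ((Scheme.Modules.restrictFunctor (W y).ι).map (shTensorHom F M E)))
    exact ⟨KFlatLib.injective_stalk_of_restrict (W y).ι _ ⟨y, hyW y⟩ hb.1,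
      KFlatLib.surjective_stalk_of_restrict (W y).ι _ ⟨y, hyW y⟩ hb.2⟩
  intro y
  let j := (W y).ι
  let R := Scheme.Modules.restrictFunctor j
  let adj := KFlatLib.lshAdj j
  haveI : Limits.PreservesColimitsOfSize.{0, 0} R := (Scheme.Modules.restrictAdjunction j).leftAdjoint_preservesColimits
  obtain ⟨i⟩ := e y
  let φ : R.obj (FlatMod.freeMod X (n y)) ≅ R.obj E :=
    PreservesCoproduct.iso R _ ≪≫ Sigma.mapIso (fun _ => KFlatLib.restrictStructureIso j) ≪≫ i.symm
  have hc : ∀ A : X.Modules, IsIso (R.map (adj.counit.app A)) := fun A => by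
    haveI : IsIso (adj.unit.app (R.obj A) ≫ R.map (adj.counit.app A)) := by
      rw [adj.right_triangle_components]; infer_instance
    exact IsIso.of_isIso_comp_left (adj.unit.app (R.obj A)) _
  haveI := hc (FlatMod.freeMod X (n y))
  have h1 : IsIso (R.map (shTensorHom F M ((KFlatLib.lsh j).obj (R.obj (FlatMod.freeMod X (n y)))))) :=
    (isIso_restrict_shTensorHom_iff F (W y) M (adj.counit.app (FlatMod.freeMod X (n y)))).2
      (haveI : IsIso (shTensorHom F M ((𝟭 X.Modules).obj (FlatMod.freeMod X (n y)))) :=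
        isIso_shTensorHom_freeMod F M (n y)
       inferInstance)
  let c : (KFlatLib.lsh j).obj (R.obj (FlatMod.freeMod X (n y))) ⟶ E :=
    (KFlatLib.lsh j).map φ.hom ≫ adj.counit.app E
  haveI : IsIso (R.map c) := by
    haveI := hc E
    rw [R.map_comp]; infer_instance
  exact (isIso_restrict_shTensorHom_iff F (W y) M c).1 h1

end Groth.Agent.ExtShX
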