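import Groth.Agent.ExtShX.Resolution
import Groth.Agent.ExtShX.SHTensor
import Groth.Agent.ChangeRings.Basic
import Groth.Agent.IntSym.Cartier
import Groth.Agent.ParaFX.Closed
import Groth.Agent.KZ.QuasiProj
import Groth.Agent.S2122
import Mathlib

/-!
# The first Ext sheaf of an invertible ideal
-/

set_option autoImplicit false
set_option linter.style.haveILetI false
set_option backward.isDefEq.respectTransparency false
set_option backward.isDefEq.respectTransparency.types false
set_option maxHeartbeats 1000000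

universe u

open CategoryTheory CategoryTheory.Limits AlgebraicGeometry TopologicalSpace Opposite
open scoped ZeroObject

namespace Groth.Agent.ExtShX

variable {X : Scheme.{u}}

/-- `M ⊗ O = M`. -/
noncomputable def tensorOneIso (M : X.Modules) : CohB1.tensorMod M (Coh.structureModule X) ≅ M :=
  (KFlatLib.tensorStructureIso X).app M

/-- `M ⊗ N = N ⊗ M`. -/
noncomputable def tensorSwap (M N : X.Modules) : CohB1.tensorMod M N ≅ CohB1.tensorMod N M :=
  (((KFlatLib.tensorBiFlipIso X).app N).app M)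

/-- `(A ⊗ B) ⊗ C = A ⊗ (B ⊗ C)`. -/
noncomputable def tensorAssoc (A B C : X.Modules) :
    CohB1.tensorMod (CohB1.tensorMod A B) C ≅ CohB1.tensorMod A (CohB1.tensorMod B C) :=
  (((KFlatLib.tensorAssocSch X).app A).app B).app C

theorem isEquivalence_tensor {I L : X.Modules} (e : CohB1.tensorMod L I ≅ Coh.structureModule X) :
    (DCoh.tensorBi.flip.obj I : X.Modules ⥤ X.Modules).IsEquivalence := by
  let u : DCoh.tensorBi.flip.obj (Coh.structureModule X) ≅ 𝟭 X.Modules := KFlatLib.tensorStructureIso X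
  let η : DCoh.tensorBi.flip.obj I ⋙ DCoh.tensorBi.flip.obj L ≅ 𝟭 X.Modules :=
    ChangeRings.tenTenIso L I ≪≫ DCoh.tensorBi.flip.mapIso e ≪≫ u
  let ε : DCoh.tensorBi.flip.obj L ⋙ DCoh.tensorBi.flip.obj I ≅ 𝟭 X.Modules :=
    ChangeRings.tenTenIso I L ≪≫ DCoh.tensorBi.flip.mapIso (tensorSwap I L ≪≫ e) ≪≫ u
  exact (CategoryTheory.Equivalence.mk (DCoh.tensorBi.flip.obj I) (DCoh.tensorBi.flip.obj L) η.symm ε).isEquivalence_functor

/-- The two-term complex of a map. -/
noncomputable def twoX (I : X.Modules) : ℕ → X.Modules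
  | 0 => Coh.structureModule X
  | 1 => I
  | _ + 2 => 0

/-- Its differentials. -/
noncomputable def twoD {I : X.Modules} (ι : I ⟶ Coh.structureModule X) :
    ∀ n : ℕ, twoX I (n + 1) ⟶ twoX I n
  | 0 => ι
  | _ + 1 => 0

/-- The complex `I ⟶ O`. -/
noncomputable def twoCx {I : X.Modules} (ι : I ⟶ Coh.structureModule X) : ChainComplex X.Modules ℕ :=
  ChainComplex.of (twoX I) (twoD ι) fun _ => zero_comp

theorem twoCx_d {I : X.Modules} (ι : I ⟶ Coh.structureModule X) : (twoCx ι).d 1 0 = ι := by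
  exact ChainComplex.of_d (twoX I) (twoD ι) _

theorem mate_eq_counit {A : X.Modules} [ModSite.HasSheafHom (O := X.sheaf) A] {Z G : X.Modules}
    (g : Z ⟶ (SH A).obj G) :
    mate g = (DCoh.tensorBi.flip.obj A).map g ≫ (shAdj A).counit.app G :=
  Adjunction.homEquiv_counit _ _ _ _

theorem mate_id_eq_counit {A : X.Modules} [ModSite.HasSheafHom (O := X.sheaf) A] (G : X.Modules) :
    mate (𝟙 ((SH A).obj G)) = (shAdj A).counit.app G := by
  rw [mate_eq_counit, CategoryTheory.Functor.map_id]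
  exact Category.id_comp _

theorem shMap_counit {A A' : X.Modules} [ModSite.HasSheafHom (O := X.sheaf) A]
    [ModSite.HasSheafHom (O := X.sheaf) A'] (g : A' ⟶ A) (G : X.Modules) :
    (DCoh.tensorBi.flip.obj A').map ((shMap g).app G) ≫ (shAdj A').counit.app G =
      (DCoh.tensorBi.obj ((SH A).obj G)).map g ≫ (shAdj A).counit.app G := by
  have h := mate_shMap g (𝟙 ((SH A).obj G))
  rw [Category.id_comp, mate_eq_counit, mate_id_eq_counit] at h
  exact h

theorem nonempty_cokernel_shMap_iso {Q I L : X.Modules} (d : I ⟶ Coh.structureModule X)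
    [ModSite.HasSheafHom (O := X.sheaf) I] [ModSite.HasSheafHom (O := X.sheaf) (Coh.structureModule X)]
    (e : CohB1.tensorMod L I ≅ Coh.structureModule X) (q : cokernel d ≅ Q) (ω : X.Modules) :
    Nonempty (cokernel ((shMap d).app ω) ≅ CohB1.tensorMod Q (CohB1.tensorMod L ω)) := by
  let TI : X.Modules ⥤ X.Modules := DCoh.tensorBi.flip.obj I
  let a : TI ⊣ SH I := ModSite.sheafHomAdj (O := X.sheaf) I
  let TO : X.Modules ⥤ X.Modules := DCoh.tensorBi.flip.obj (Coh.structureModule X)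
  let b : TO ⊣ SH (Coh.structureModule X) := ModSite.sheafHomAdj (O := X.sheaf) (Coh.structureModule X)
  haveI hTI : TI.IsEquivalence := isEquivalence_tensor e
  haveI : (SH I).IsEquivalence := a.isEquivalence_right_of_isEquivalence_left
  haveI hTO : TO.IsEquivalence := Functor.isEquivalence_of_iso (KFlatLib.tensorStructureIso X).symm
  haveI : (SH (Coh.structureModule X)).IsEquivalence := b.isEquivalence_right_of_isEquivalence_left
  haveI : (SH I).Additive := ModSite.sheafHom_additive X.sheaf I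
  haveI : TI.Additive := a.left_adjoint_additive
  let f : (SH (Coh.structureModule X)).obj ω ⟶ (SH I).obj ω := (shMap d).app ω
  let Z := (SH (Coh.structureModule X)).obj ω
  let TZ : X.Modules ⥤ X.Modules := DCoh.tensorBi.obj Z
  haveI : PreservesColimitsOfSize.{0, 0} TZ :=
    ⟨fun {J} _ => preservesColimitsOfShape_of_natIso ((KFlatLib.tensorBiFlipIso X).app Z)⟩
  have key : TI.map f ≫ a.counit.app ω = TZ.map d ≫ b.counit.app ω := shMap_counit d ω
  let z : Z ≅ ω := (tensorOneIso Z).symm ≪≫ asIso (b.counit.app ω)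
  let h₃ : TI.obj (cokernel f) ≅ CohB1.tensorMod ω Q :=
    PreservesCokernel.iso TI f ≪≫ (cokernelCompIsIso (TI.map f) (a.counit.app ω)).symm ≪≫
      cokernelIsoOfEq key ≪≫ cokernelCompIsIso (TZ.map d) (b.counit.app ω) ≪≫
      (PreservesCokernel.iso TZ d).symm ≪≫ TZ.mapIso q ≪≫
      (DCoh.tensorBi.mapIso z).app Q
  let C := cokernel f
  let h₄ : C ≅ CohB1.tensorMod (CohB1.tensorMod C I) L :=
    (tensorOneIso C).symm ≪≫ (DCoh.tensorBi.obj C).mapIso (tensorSwap I L ≪≫ e).symm ≪≫ (tensorAssoc C I L).symm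
  exact ⟨h₄ ≪≫ (DCoh.tensorBi.mapIso h₃).app L ≪≫ tensorAssoc ω Q L ≪≫
    tensorSwap ω _ ≪≫ tensorAssoc Q L ω⟩

theorem nonempty_extSh_one_iso {Q I L : X.Modules} (ι : I ⟶ Coh.structureModule X)
    (π : Coh.structureModule X ⟶ Q) (w : ι ≫ π = 0) (hS : (ShortComplex.mk ι π w).ShortExact)
    (e : CohB1.tensorMod L I ≅ Coh.structureModule X) (ω : X.Modules)
    [ModSite.HasSheafHom (O := X.sheaf) Q] [HasInjectiveResolutions (ModSite.Mod X.sheaf)] :
    Nonempty ((ModSite.extSh (O := X.sheaf) Q 1).obj ω ≅ CohB1.tensorMod Q (CohB1.tensorMod L ω)) := by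
  let E := twoCx ι
  haveI hsh : ∀ j, ModSite.HasSheafHom (O := X.sheaf) (E.X j) := fun j => ⟨_, ⟨SheafHomX.adj (E.X j)⟩⟩
  have hI : PicF.IsInvertible I := S2122.result I L (tensorSwap I L ≪≫ e)
  have hz : ∀ j, IsZero (E.X (j + 2)) := fun j => isZero_zero _
  have hE : ∀ j, FlatMod.IsFinLocFree (E.X j) := fun j => match j with
    | 0 => KZ.QuasiProj.flf_of_invertible (S2122.result _ _ (tensorOneIso (Coh.structureModule X)))
    | 1 => KZ.QuasiProj.flf_of_invertible hI
    | n + 2 => KFlatLib.isFinLocFree_of_isZero (hz n)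
  have hex : ∀ j : ℕ, E.ExactAt (j + 1) := by
    intro j
    rw [HomologicalComplex.exactAt_iff' _ (j + 2) (j + 1) j (by simp) (by simp)]
    cases j with
    | succ n => exact ShortComplex.exact_of_isZero_X₂ _ (hz n)
    | zero =>
      refine (ShortComplex.exact_iff_mono _ ((hz 0).eq_of_src _ _)).2 ?_
      show Mono ((twoCx ι).d 1 0)
      rw [twoCx_d]; exact hS.mono_f
  have hd : E.d 1 0 = ι := twoCx_d ι
  have hπ : E.d 1 0 ≫ π = 0 := by rw [hd]; exact w
  haveI : Epi π := hS.epi_g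
  have hex0 : (ShortComplex.mk (E.d 1 0) π hπ).Exact :=
    (ShortComplex.exact_iff_of_iso (ShortComplex.isoMk (S₁ := ShortComplex.mk (E.d 1 0) π hπ)
      (S₂ := ShortComplex.mk ι π w) (Iso.refl _) (Iso.refl _) (Iso.refl _)
      (by simp only [Iso.refl_hom]; exact (Category.id_comp _).trans ((hd.symm).trans (Category.comp_id _).symm))
      (by simp only [Iso.refl_hom]; exact (Category.id_comp _).trans (Category.comp_id _).symm))).2 hS.exact
  obtain ⟨h₁⟩ := nonempty_homology_homCx E π hπ hex0 hex hE 1 ω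
  let K := homCx E ω
  let T := K.sc' 0 1 2
  haveI : ModSite.HasSheafHom (O := X.sheaf) I := ⟨_, ⟨SheafHomX.adj I⟩⟩
  haveI : ModSite.HasSheafHom (O := X.sheaf) (Coh.structureModule X) := ⟨_, ⟨SheafHomX.adj _⟩⟩
  have hg : T.g = 0 := by
    refine IsZero.eq_of_tgt ((IsZero.iff_id_eq_zero _).2 ?_) _ _
    apply mate.injective
    haveI : (DCoh.tensorBi.obj ((SH (E.X 2)).obj ω) : X.Modules ⥤ X.Modules).Additive := inferInstance
    exact ((DCoh.tensorBi.obj ((SH (E.X 2)).obj ω)).map_isZero (hz 0)).eq_of_src _ _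
  let f : (SH (E.X 0)).obj ω ⟶ (SH (E.X 1)).obj ω := (shMap (E.d 1 0)).app ω
  have hf : T.f = f := homCx_d E ω 0
  let h₂ : K.homology 1 ≅ cokernel f :=
    K.homologyIsoSc' 0 1 2 (by simp) (by simp) ≪≫
      (ShortComplex.HomologyData.ofIsColimitCokernelCofork T hg _ (cokernelIsCokernel T.f)).left.homologyIso ≪≫
      cokernelIsoOfEq hf
  obtain ⟨h₅⟩ := nonempty_cokernel_shMap_iso (E.d 1 0) e (cokernelIsoOfEq hd ≪≫
    (cokernelIsCokernel ι).coconePointUniqueUpToIso hS.gIsCokernel) ω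
  exact ⟨h₁.symm ≪≫ h₂ ≪≫ h₅⟩

/-- The structure sheaf of a closed subscheme, as a quotient. -/
theorem nonempty_push_iso_quotMod {D : Scheme.{u}} (i : D ⟶ X) [IsClosedImmersion i] :
    Nonempty (ClSub.quotMod i.ker ≅ (Scheme.Modules.pushforward i).obj (Coh.structureModule D)) := by
  let g : D ⟶ i.ker.subscheme := i.toImage
  haveI : IsIso g := inferInstanceAs (IsIso i.toImage)
  have hs : ParaFX.SectBij g (Coh.structureModule i.ker.subscheme) := fun O O' h hO' =>
    ParaFX.isIso_map_of_eq _ h (by rw [hO', Scheme.Hom.opensRange_of_isIso, inf_top_eq])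
  exact ⟨(Scheme.Modules.pushforward i.ker.subschemeι).mapIso (ParaFX.isoPushforward g hs ≪≫
      (Scheme.Modules.pushforward g).mapIso (Scheme.Modules.restrictUnitIso g)) ≪≫
    (Scheme.Modules.pushforwardComp g i.ker.subschemeι).app _ ≪≫
    (Scheme.Modules.pushforwardCongr i.toImage_imageι).app _⟩

end Groth.Agent.ExtShX
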