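import Groth.Agent.SiteBase.ClosedEmb
import Groth.Agent.PnCoh.PushNat
import Mathlib

/-!
# The comparison of cohomology along a closed embedding, as a natural transformation
-/

set_option autoImplicit false
set_option linter.style.haveILetI false
set_option linter.unusedSectionVars false
set_option backward.isDefEq.respectTransparency false
set_option backward.isDefEq.respectTransparency.types false
set_option maxHeartbeats 1000000

universe u

open CategoryTheory CategoryTheory.Limits TopologicalSpace Opposite Abelian Topology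

noncomputable section

namespace Groth.Agent.ExtShX

variable {Z X : TopCat.{u}} {i : Z ⟶ X} (hi : IsClosedEmbedding i)

/-- The constant sheaf of integers. -/
abbrev cZ (Y : TopCat.{u}) : CohTop.Ab Y :=
  (constantSheaf (Opens.grothendieckTopology Y) AddCommGrpCat.{u}).obj (AddCommGrpCat.of (ULift ℤ))

theorem preservesFiniteLimits_push (i : Z ⟶ X) : PreservesFiniteLimits (CohTop.push i) :=
  haveI : PreservesLimitsOfSize.{0, 0} (CohTop.push i) :=
    (TopCat.Sheaf.pullbackPushforwardAdjunction AddCommGrpCat.{u} i).rightAdjoint_preservesLimits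
  ⟨fun _ => inferInstance⟩

/-- `ℤ_X ⟶ i_* ℤ_Z`. -/
def etaPush (i : Z ⟶ X) : (cZ X) ⟶ (CohTop.push i).obj (cZ Z) :=
  Ext.addEquiv₀ (PnCoh.pushH0 i (cZ Z) (Ext.mk₀ (𝟙 _)))

/-- `Hᵖ(Z, G) → Hᵖ(X, i_* G)`. -/
def pushHMap (G : CohTop.Ab Z) (p : ℕ) : CohTop.H G p →+ CohTop.H ((CohTop.push i).obj G) p :=
  haveI := ClosedEmb.preservesFiniteColimits_push hi
  haveI := preservesFiniteLimits_push i
  AddMonoidHom.mk' (fun x => (Ext.mk₀ (etaPush i)).comp (x.mapExactFunctor (CohTop.push i)) (zero_add p))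
    fun x y => by rw [Ext.mapExactFunctor_add, Ext.comp_add]

theorem pushHMap_natural {G G' : CohTop.Ab Z} (φ : G ⟶ G') (p : ℕ) (x : CohTop.H G p) :
    pushHMap hi G' p (Sheaf.H.map φ p x) =
      Sheaf.H.map ((CohTop.push i).map φ) p (pushHMap hi G p x) := by
  haveI := ClosedEmb.preservesFiniteColimits_push hi
  haveI := preservesFiniteLimits_push i
  show (Ext.mk₀ (etaPush i)).comp ((x.comp (Ext.mk₀ φ) (add_zero p)).mapExactFunctor (CohTop.push i)) (zero_add p) =
    ((Ext.mk₀ (etaPush i)).comp (x.mapExactFunctor (CohTop.push i)) (zero_add p)).comp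
      (Ext.mk₀ ((CohTop.push i).map φ)) (add_zero p)
  rw [Ext.mapExactFunctor_comp, Ext.mapExactFunctor_mk₀, Ext.comp_assoc_of_third_deg_zero]

theorem pushHMap_zero (G : CohTop.Ab Z) (x : CohTop.H G 0) : pushHMap hi G 0 x = PnCoh.pushH0 i G x := by
  obtain ⟨g, rfl⟩ := (Ext.mk₀_bijective _ _).2 x
  have h1 : (Ext.mk₀ g : CohTop.H G 0) = Sheaf.H.map g 0 (Ext.mk₀ (𝟙 _)) := by
    rw [Sheaf.H.map_apply, Ext.mk₀_comp_mk₀, Category.id_comp]
  have h2 : PnCoh.pushH0 i (cZ Z) (Ext.mk₀ (𝟙 _)) = Ext.mk₀ (etaPush i) :=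
    (Ext.mk₀_homEquiv₀_apply _).symm
  conv_rhs => rw [h1]
  rw [PnCoh.pushH0_natural, h2, Sheaf.H.map_apply]
  haveI := ClosedEmb.preservesFiniteColimits_push hi
  haveI := preservesFiniteLimits_push i
  show (Ext.mk₀ (etaPush i)).comp ((Ext.mk₀ g).mapExactFunctor (CohTop.push i)) (zero_add 0) = _
  rw [Ext.mapExactFunctor_mk₀]

theorem pushHMap_connecting {T : ShortComplex (CohTop.Ab Z)} (hT : T.ShortExact)
    (hT' : (T.map (CohTop.push i)).ShortExact) (p : ℕ) (y : CohTop.H T.X₃ p) :
    pushHMap hi T.X₁ (p + 1) (QCoh.Ab.connecting hT p y) =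
      QCoh.Ab.connecting hT' p (pushHMap hi T.X₃ p y) := by
  haveI := ClosedEmb.preservesFiniteColimits_push hi
  haveI := preservesFiniteLimits_push i
  show (Ext.mk₀ (etaPush i)).comp ((y.comp hT.extClass rfl).mapExactFunctor (CohTop.push i)) (zero_add (p + 1)) =
    ((Ext.mk₀ (etaPush i)).comp (y.mapExactFunctor (CohTop.push i)) (zero_add p)).comp hT'.extClass rfl
  rw [Ext.mapExactFunctor_comp, Ext.mapExactFunctor_extClass]
  exact (Ext.comp_assoc _ _ _ (zero_add p) rfl (by omega)).symm

theorem pushHMap_bijective (p : ℕ) (G : CohTop.Ab Z) : Function.Bijective (pushHMap hi G p) := by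
  induction p generalizing G with
  | zero =>
    rw [show ⇑(pushHMap hi G 0) = ⇑(PnCoh.pushH0 i G) from funext (pushHMap_zero hi G)]
    exact (PnCoh.pushH0 i G).bijective
  | succ p ih =>
    let T : ShortComplex (CohTop.Ab Z) :=
      ShortComplex.mk (Injective.ι G) (cokernel.π (Injective.ι G)) (cokernel.condition _)
    have hT : T.ShortExact := { exact := ShortComplex.exact_of_g_is_cokernel _ (cokernelIsCokernel _) }
    have hinj : Injective T.X₂ := Injective.injective_under G
    haveI := ClosedEmb.preservesFiniteColimits_push hi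
    haveI := preservesFiniteLimits_push i
    have hT' : (T.map (CohTop.push i)).ShortExact := hT.map_of_exact (CohTop.push i)
    have hinj' : Injective (T.map (CohTop.push i)).X₂ := SiteBase.injective_push i T.X₂
    have hv : Subsingleton (CohTop.H T.X₂ (p + 1)) := inferInstance
    have hv' : Subsingleton (CohTop.H (T.map (CohTop.push i)).X₂ (p + 1)) := inferInstance
    have hs := QCoh.Ab.connecting_surjective hT p hv
    have hs' := QCoh.Ab.connecting_surjective hT' p hv'
    refine ⟨(injective_iff_map_eq_zero _).2 fun x hx => ?_, fun z => ?_⟩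
    · obtain ⟨y, rfl⟩ := hs x
      obtain ⟨w, hw⟩ := (QCoh.Ab.connecting_eq_zero_iff hT' p _).1
        ((pushHMap_connecting hi hT hT' p y).symm.trans hx)
      obtain ⟨v, rfl⟩ := (ih T.X₂).2 w
      refine (QCoh.Ab.connecting_eq_zero_iff hT p y).2 ⟨v, (ih T.X₃).1 ?_⟩
      exact (pushHMap_natural hi T.g p v).trans hw
    · obtain ⟨w, rfl⟩ := hs' z
      obtain ⟨y, rfl⟩ := (ih T.X₃).2 w
      exact ⟨QCoh.Ab.connecting hT p y, pushHMap_connecting hi hT hT' p y⟩

end Groth.Agent.ExtShX
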