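import Groth.Agent.ExtShX.PnClosed
import Groth.Agent.Lib.PnDualExtPn
import Groth.Agent.QCoh.DevissageSum
import Groth.Agent.QCoh.Support
import Mathlib

/-!
# Duality in all degrees on a closed subscheme of projective space
-/

set_option autoImplicit false
set_option linter.style.haveILetI false
set_option linter.unusedSectionVars false
set_option backward.isDefEq.respectTransparency false
set_option backward.isDefEq.respectTransparency.types false
set_option maxHeartbeats 1000000

universe u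

open CategoryTheory CategoryTheory.Limits AlgebraicGeometry TopologicalSpace Opposite Abelian
open scoped Groth.Agent.H23.PicMul

noncomputable section

namespace Groth.Agent.ExtShX

attribute [local instance] Abelian.hasFiniteBiproducts

variable {k : Type u} [Field k] {r : ℕ} {X : Scheme.{u}} [X.Over (Spec (CommRingCat.of k))]
  (ι : X ⟶ CohB1.ProjSpace r k) [IsClosedImmersion ι]

local notation "𝒪(" d ")" => Twist.twistProjSpace r k d

omit [X.Over (Spec (CommRingCat.of k))] in
theorem biproduct_total' {β : Type u} [Fintype β] (T : β → X.Modules) :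
    ∑ b, biproduct.π T b ≫ biproduct.ι T b = 𝟙 (⨁ T) := by
  classical
  refine biproduct.hom_ext' _ _ fun j => ?_
  rw [Preadditive.comp_sum, Category.comp_id, Finset.sum_eq_single j]
  · simp
  · intro b _ hb
    rw [← Category.assoc, biproduct.ι_π_ne _ (Ne.symm hb), zero_comp]
  · simp

/-- `O(d) ⊗ O(-d) ≅ O` after pulling back. -/
def pullTwistInv (d : ℤ) :
    CohB1.tensorMod ((Scheme.Modules.pullback ι).obj (𝒪(d))) ((Scheme.Modules.pullback ι).obj (𝒪(-d))) ≅
      Coh.structureModule X :=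
  (H23.PicMul.pull ι (𝒪(d)) (𝒪(-d))).some.symm ≪≫
    (Scheme.Modules.pullback ι).mapIso ((PnCoh.Finite.twist_tensor_iso _ PnDual.coordsR_mem PnDual.coordsR_cover
      d (-d)).some ≪≫ eqToIso (by rw [add_neg_cancel]) ≪≫
        (@asIso _ _ _ _ _ (PnCoh.Finite.isIso_oneHom _ PnDual.coordsR_mem PnDual.coordsR_cover)).symm) ≪≫
    CurveBC.unitIso ι

theorem isCoh_pullTwist (d : ℤ) : Coh.IsCoh ((Scheme.Modules.pullback ι).obj (𝒪(d))) :=
  have := QCoh.isFP_of_isFinLocFree (KZ.QuasiProj.flf_of_invertible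
    (PicClLib.isInvertible_pullback ι (isInvertible_twistPn (k := k) (r := r) d)))
  ⟨QCoh.isQCoh_of_isFP this, QCoh.isFT_of_isFP this⟩

/-- A coherent module is a quotient of a sum of very negative twists. -/
theorem exists_epi_negTwist {F : X.Modules} (hF : Coh.IsCoh F) (c : ℤ) :
    ∃ (β : Type u) (_ : Fintype β) (d : β → ℤ) (_ : ∀ b, d b < c)
      (g : (⨁ fun b => (Scheme.Modules.pullback ι).obj (𝒪(d b))) ⟶ F), Epi g := by
  classical
  haveI := isLocallyNoetherian_pn (k := k) (r := r)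
  haveI : IsLocallyNoetherian X := LocallyOfFiniteType.isLocallyNoetherian ι
  obtain ⟨β, _, d, hd, S, p, q, hS, h3, -, hpq⟩ :=
    PnDual.exists_presentation_lt (R := k) (m := r) (PnDual.goodPn_of_isCoh (S0019.result ι F hF)) c
  let g : S.X₂ ⟶ (Scheme.Modules.pushforward ι).obj F := S.g ≫ eqToHom h3
  haveI : Epi S.g := hS.epi_g
  haveI : Epi g := epi_comp _ _
  haveI := KZ.ClosedDev.isIso_counit ι (S0019.result ι F hF).1
  let P := Scheme.Modules.pullback ι
  let ε := (Scheme.Modules.pullbackPushforwardAdjunction ι).counit.app F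
  haveI : P.IsLeftAdjoint := (Scheme.Modules.pullbackPushforwardAdjunction ι).isLeftAdjoint
  haveI : P.Additive := (Scheme.Modules.pullbackPushforwardAdjunction ι).left_adjoint_additive
  let T : β → X.Modules := fun b => P.obj (𝒪(d b))
  let φ : (⨁ T) ⟶ F := biproduct.desc fun b => P.map (q b ≫ g) ≫ ε
  let l : P.obj S.X₂ ⟶ ⨁ T := ∑ b, P.map (p b) ≫ biproduct.ι T b
  have hfac : P.map g ≫ ε = l ≫ φ := by
    refine Eq.trans ?_ (Preadditive.sum_comp _ _ _).symm
    conv_lhs => rw [← Category.id_comp g, ← hpq, Preadditive.sum_comp, P.map_sum, Preadditive.sum_comp]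
    refine Finset.sum_congr rfl fun b _ => ?_
    refine Eq.trans ?_ (Category.assoc _ _ _).symm
    refine Eq.trans ?_ (congrArg (P.map (p b) ≫ ·) (biproduct.ι_desc _ b)).symm
    simp only [Category.assoc, Functor.map_comp]
  haveI : Epi (P.map g) := P.map_epi g
  haveI : Epi (l ≫ φ) := hfac ▸ epi_comp _ _
  exact ⟨β, inferInstance, d, hd, φ, epi_of_epi l φ⟩

/-- Duality in all degrees, from the dualizing property and the vanishing for very negative twists. -/
theorem duality_of_vanishing (hι : ι ≫ CohB1.ProjSpace.toSpec r k = X ↘ Spec (CommRingCat.of k))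
    [HasExt.{u} X.Modules] {ω : X.Modules} (hω : Coh.IsCoh ω) (n : ℕ) (t : Coh.HH X ω n →ₗ[k] k)
    (htop : ∀ F : X.Modules, Coh.IsCoh F → Function.Bijective (Canon.dualityMap k X n ω t F))
    (q₀ : ℕ) (hvan : ∀ q : ℕ, q₀ ≤ q → ∀ j : ℕ, j < n →
      Subsingleton (Coh.HH X ((Scheme.Modules.pullback ι).obj (𝒪(-(q : ℤ)))) j))
    (F : X.Modules) (hF : Coh.IsCoh F) (i : ℕ) :
    (i ≤ n → Nonempty (Abelian.Ext.{u} F ω i ≃ₗ[k] Module.Dual k (Coh.HH X F (n - i)))) ∧
      (n < i → Subsingleton (Abelian.Ext.{u} F ω i)) := by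
  classical
  haveI : IsProper (CohB1.ProjSpace.toSpec r k) := PnCoh.Chow.isProper_toSpec r k
  haveI : IsProper (X ↘ Spec (CommRingCat.of k)) := hι ▸ inferInstance
  haveI : IsLocallyNoetherian X := LocallyOfFiniteType.isLocallyNoetherian (X ↘ Spec (CommRingCat.of k))
  obtain ⟨hL, hP⟩ := ample_twist_pullback r ι
  obtain ⟨d₀, hd₀⟩ := AmpleVan.exists_vanishing (A := k) hL hω
  refine PnDual.duality_induction Coh.IsCoh n t htop (fun G hG => ?_) F hF i
  obtain ⟨β, _, d, hd, g, hg⟩ := exists_epi_negTwist ι hG (-((d₀ : ℤ) + (q₀ : ℤ)))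
  let T : β → X.Modules := fun b => (Scheme.Modules.pullback ι).obj (𝒪(d b))
  have hE : Coh.IsCoh (⨁ T) := QCoh.isCoh_biproduct T fun b => isCoh_pullTwist ι (d b)
  let S : ShortComplex X.Modules := ShortComplex.mk (kernel.ι g) g (kernel.condition g)
  have hS : S.ShortExact :=
    { exact := ShortComplex.exact_of_f_is_kernel _ (kernelIsKernel g) }
  have hq : ∀ b, ∃ q : ℕ, d₀ ≤ q ∧ q₀ ≤ q ∧ d b = -(q : ℤ) := fun b =>
    ⟨(-d b).toNat, by have := hd b; omega, by have := hd b; omega, by have := hd b; omega⟩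
  refine ⟨S, rfl, QCoh.isCoh_kernel hE hG g, hS, fun j hj => ?_, fun j hj => ?_, htop _ hE⟩
  · refine PnDual.subsingleton_ext_of_decomposition T (biproduct.π T) (biproduct.ι T) (biproduct_total' T) j
      fun b => ?_
    obtain ⟨q, hq₁, -, e⟩ := hq b
    obtain ⟨j', rfl⟩ : ∃ j', j = j' + 1 := ⟨j - 1, by omega⟩
    obtain ⟨w⟩ := hP q
    show Subsingleton (Abelian.Ext.{u} ((Scheme.Modules.pullback ι).obj (𝒪(d b))) ω (j' + 1))
    rw [e]
    exact (subsingleton_ext_inv_iff (pullTwistInv ι (q : ℤ)) ω (j' + 1)).2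
      (QCoh.subsingleton_HH_of_iso ((DCoh.tensorBi.obj ω).mapIso w).symm (j' + 1) (hd₀ q hq₁ j'))
  · refine PnCoh.Finite.subsingleton_HH_of_decomposition T (biproduct.π T) (biproduct.ι T)
      (biproduct_total' T) j fun b => ?_
    obtain ⟨q, -, hq₂, e⟩ := hq b
    show Subsingleton (Coh.HH X ((Scheme.Modules.pullback ι).obj (𝒪(d b))) j)
    rw [e]
    exact hvan q hq₂ j hj

end Groth.Agent.ExtShX
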