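import Groth.Agent.ExtShX.PnAsymp
import Groth.Agent.AVDegPoly.Pullback
import Groth.Agent.PnCoh.PushNat
import Groth.Agent.PicClLib.Basic
import Groth.Agent.S0019
import Groth.Agent.QCoh.Support
import Groth.Agent.KZ.ClosedDev
import Groth.Agent.ExtShX.Divisor
import Groth.Agent.SiteBase.ExtCompare
import Mathlib

/-!
# Negative twists on a closed subscheme of projective space
-/

set_option autoImplicit false
set_option linter.style.haveILetI false
set_option linter.unusedSectionVars false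
set_option backward.isDefEq.respectTransparency false
set_option backward.isDefEq.respectTransparency.types false
set_option maxHeartbeats 1000000

universe u

open CategoryTheory CategoryTheory.Limits AlgebraicGeometry TopologicalSpace Opposite Abelian
open scoped Groth.Agent.H23.PicMul

noncomputable section

namespace Groth.Agent.ExtShX

variable {k : Type u} [Field k] {r : ℕ}

local notation "ℙ" => CohB1.ProjSpace r k
local notation "Ω" => Twist.twistProjSpace r k (-((r : ℤ) + 1))
local notation "𝒪(" d ")" => Twist.twistProjSpace r k d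

variable {X : Scheme.{u}} (ι : X ⟶ CohB1.ProjSpace r k) [IsClosedImmersion ι]

/-- The direct image of `O_X` is coherent. -/
theorem isCoh_pushUnit : Coh.IsCoh ((Scheme.Modules.pushforward ι).obj (Coh.structureModule X)) := by
  haveI := isLocallyNoetherian_pn (k := k) (r := r)
  haveI : IsLocallyNoetherian X := LocallyOfFiniteType.isLocallyNoetherian ι
  have := QCoh.isFP_of_isFinLocFree (KZ.QuasiProj.flf_of_invertible
    (InvX.isInvertible_structureModule (X := X)))
  exact S0019.result ι _ ⟨QCoh.isQCoh_of_isFP this, QCoh.isFT_of_isFP this⟩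

/-- `H^p(X, O_X(d))` and `H^p(P, (ι_* O_X)(d))` vanish together. -/
theorem subsingleton_HH_pullTwist_iff (d : ℤ) (p : ℕ) :
    Subsingleton (Coh.HH X ((Scheme.Modules.pullback ι).obj (𝒪(d))) p) ↔
      Subsingleton (Coh.HH ℙ (Twist.twistBy (CohB1.polyGrading r k)
        ((Scheme.Modules.pushforward ι).obj (Coh.structureModule X)) d) p) := by
  letI : X.Over (Spec (CommRingCat.of k)) := ⟨ι ≫ (ℙ ↘ Spec (CommRingCat.of k))⟩
  have hq : Coh.IsQCoh ((Scheme.Modules.pullback ι).obj (𝒪(d))) :=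
    QCoh.isQCoh_of_isFP (QCoh.isFP_of_isFinLocFree (KZ.QuasiProj.flf_of_invertible
      (PicClLib.isInvertible_pullback ι (isInvertible_twistPn d))))
  obtain ⟨e⟩ := PnCoh.exists_linearEquiv_push k ι rfl hq p
  obtain ⟨t⟩ := AVDegPoly.nonempty_push_tensor ι (𝒪(d)) (KZ.QuasiProj.flf_of_invertible (isInvertible_twistPn d))
  let s := (H23.PicMul.comm (𝒪(d)) ((Coh.push ι).obj (Coh.structureModule X))).some
  let u := t ≪≫ s
  exact e.toEquiv.subsingleton_congr.trans
    ⟨fun h => QCoh.subsingleton_HH_of_iso u p h, fun h => QCoh.subsingleton_HH_of_iso u.symm p h⟩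

/-- `H^p(X, O_X(-m)) = 0` for `m ≫ 0` iff `Ext^j(ι_* O_X, ω) = 0`, for `p + j = r`. -/
theorem negTwist_vanishing_iff_isZero (p j : ℕ) (hpj : p + j = r)
    [ModSite.HasSheafHom (O := (ℙ).sheaf) ((Scheme.Modules.pushforward ι).obj (Coh.structureModule X))]
    [HasInjectiveResolutions (ModSite.Mod (ℙ).sheaf)] :
    (∃ m₀ : ℤ, ∀ m : ℤ, m₀ ≤ m →
      Subsingleton (Coh.HH X ((Scheme.Modules.pullback ι).obj (𝒪(-m))) p)) ↔
    IsZero ((ModSite.extSh (O := (ℙ).sheaf) ((Scheme.Modules.pushforward ι).obj (Coh.structureModule X)) j).obj Ω) := by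
  haveI := isLocallyNoetherian_pn (k := k) (r := r)
  have hF := isCoh_pushUnit ι
  simp only [subsingleton_HH_pullTwist_iff ι]
  rw [twist_vanishing_iff hF p j hpj]
  constructor
  · exact fun h => CurveCohLib.isZero_of_subsingleton_stalks (M := ((ModSite.extSh (O := (ℙ).sheaf) _ j).obj Ω : (ℙ).Modules))
      fun x => (subsingleton_stalk_extSh_dual hF j x).2 (h x)
  · intro h x
    refine (subsingleton_stalk_extSh_dual hF j x).1 ?_
    exact ModuleCat.subsingleton_of_isZero ((DerSch.stalkFunctor ℙ x).map_isZero h)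

/-- `Ext^n(I, M)` and `H^n(M ⊗ L)` vanish together when `L` is inverse to `I`. -/
theorem subsingleton_ext_inv_iff {Y : Scheme.{u}} {I L : Y.Modules}
    (e : CohB1.tensorMod L I ≅ Coh.structureModule Y) [HasExt.{u} Y.Modules] (M : Y.Modules) (n : ℕ) :
    Subsingleton (Abelian.Ext.{u} I M n) ↔ Subsingleton (Coh.HH Y (CohB1.tensorMod M L) n) := by
  let F : Y.Modules ⥤ Y.Modules := DCoh.tensorBi.flip.obj I
  haveI : F.IsEquivalence := isEquivalence_tensor e
  let T := F.asEquivalence
  haveI : T.inverse.IsEquivalence := T.isEquivalence_inverse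
  haveI : T.inverse.Additive := Functor.additive_of_preserves_binary_products _
  haveI : T.functor.IsEquivalence := ‹F.IsEquivalence›
  haveI : EnoughInjectives Y.Modules := inferInstanceAs (EnoughInjectives (SheafOfModules _))
  let i : T.functor.obj (Coh.structureModule Y) ≅ I :=
    (H23.PicMul.comm _ _).some ≪≫ (H23.PicMul.unit I).some
  obtain ⟨e₁⟩ := SiteBase.nonempty_ext_addEquiv_of_adjunction T.toAdjunction i n M
  obtain ⟨e₂⟩ := SiteBase.nonempty_ext_unit_addEquiv (R := Y.ringCatSheaf) (T.inverse.obj M) n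
  let w : T.inverse.obj M ≅ CohB1.tensorMod M L :=
    F.preimageIso (T.counitIso.app M ≪≫ (H23.PicMul.unit M).some.symm ≪≫ (DCoh.tensorBi.obj M).mapIso e.symm ≪≫
      (tensorAssoc M L I).symm)
  exact (e₁.trans e₂).toEquiv.subsingleton_congr.trans
    ⟨fun h => QCoh.subsingleton_HH_of_iso w n h, fun h => QCoh.subsingleton_HH_of_iso w.symm n h⟩

/-- If `Ext^i(-, ω)` and `H^p` vanish together on coherent modules, then `H^p(O_X(-m)) = 0` for `m ≫ 0`. -/
theorem negTwist_vanishing_of_dual [X.Over (Spec (CommRingCat.of k))]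
    (hι : ι ≫ CohB1.ProjSpace.toSpec r k = X ↘ Spec (CommRingCat.of k)) [HasExt.{u} X.Modules]
    {ω : X.Modules} (hω : Coh.IsCoh ω) (p i : ℕ)
    (h : ∀ G : X.Modules, Coh.IsCoh G → Subsingleton (Abelian.Ext G ω (i + 1)) → Subsingleton (Coh.HH X G p)) :
    ∃ m₀ : ℤ, ∀ m : ℤ, m₀ ≤ m → Subsingleton (Coh.HH X ((Scheme.Modules.pullback ι).obj (𝒪(-m))) p) := by
  haveI : IsProper (CohB1.ProjSpace.toSpec r k) := PnCoh.Chow.isProper_toSpec r k
  haveI : IsProper (X ↘ Spec (CommRingCat.of k)) := hι ▸ inferInstance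
  obtain ⟨hL, hP⟩ := ample_twist_pullback r ι
  obtain ⟨d₀, hd⟩ := AmpleVan.exists_vanishing (A := k) hL hω
  refine ⟨(d₀ : ℤ), fun m hm => ?_⟩
  lift m to ℕ using (le_trans (Int.natCast_nonneg _) hm) with d
  obtain ⟨t⟩ := hP d
  have hI : PicF.IsInvertible ((Scheme.Modules.pullback ι).obj (𝒪(-(d : ℤ)))) :=
    PicClLib.isInvertible_pullback ι (isInvertible_twistPn _)
  let e := (H23.PicMul.pull ι (𝒪((d : ℤ))) (𝒪(-(d : ℤ)))).some.symm ≪≫
    (Scheme.Modules.pullback ι).mapIso ((PnCoh.Finite.twist_tensor_iso _ PnDual.coordsR_mem PnDual.coordsR_cover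
      (d : ℤ) (-(d : ℤ))).some ≪≫ eqToIso (by rw [add_neg_cancel]) ≪≫
        (@asIso _ _ _ _ _ (PnCoh.Finite.isIso_oneHom _ PnDual.coordsR_mem PnDual.coordsR_cover)).symm) ≪≫
    CurveBC.unitIso ι
  have hfp := QCoh.isFP_of_isFinLocFree (KZ.QuasiProj.flf_of_invertible hI)
  refine h _ ⟨QCoh.isQCoh_of_isFP hfp, QCoh.isFT_of_isFP hfp⟩ ?_
  exact (subsingleton_ext_inv_iff e ω (i + 1)).2
    (QCoh.subsingleton_HH_of_iso ((DCoh.tensorBi.obj ω).mapIso t).symm (i + 1) (hd d (by exact_mod_cast hm) i))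

end Groth.Agent.ExtShX
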