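import Groth.Agent.KFlatLib.Scheme.ClosedPush
import Groth.Agent.QCoh.LocFree
import Mathlib

/-!
# Stalks of pushforwards along closed immersions as semilinear equivalences
-/

set_option autoImplicit false
set_option linter.style.haveILetI false
set_option backward.isDefEq.respectTransparency false
set_option backward.isDefEq.respectTransparency.types false

universe u

open CategoryTheory CategoryTheory.Limits AlgebraicGeometry TopologicalSpace Opposite

namespace Groth.Agent.ExtShX

variable {X Y : Scheme.{u}} (f : X ⟶ Y) [IsClosedImmersion f]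

/-- The stalk of `f_* M` at `f x` is the stalk of `M` at `x`. -/
noncomputable def stalkPushEquiv (M : X.Modules) (x : X) :
    ((Scheme.Modules.pushforward f).obj M).presheaf.stalk (f.base x) ≃+ M.presheaf.stalk x :=
  (asIso (TopCat.Presheaf.stalkPushforward Ab.{u} f.base M.presheaf x)).addCommGroupIsoToAddEquiv

theorem stalkPushEquiv_smul (M : X.Modules) (x : X) (r : Y.presheaf.stalk (f.base x))
    (v : ((Scheme.Modules.pushforward f).obj M).presheaf.stalk (f.base x)) :
    stalkPushEquiv f M x (r • v) = (f.stalkMap x).hom r • stalkPushEquiv f M x v := by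
  obtain ⟨U, hU, a, rfl⟩ := TopCat.Presheaf.exists_germ_eq Y.presheaf r
  obtain ⟨V, hV, m, rfl⟩ := TopCat.Presheaf.exists_germ_eq ((Scheme.Modules.pushforward f).obj M).presheaf v
  have hx : f.base x ∈ U ⊓ V := ⟨hU, hV⟩
  rw [← TopCat.Presheaf.germ_res_apply Y.presheaf (homOfLE (inf_le_left : U ⊓ V ≤ U)) _ hx a,
    ← TopCat.Presheaf.germ_res_apply ((Scheme.Modules.pushforward f).obj M).presheaf
      (homOfLE (inf_le_right : U ⊓ V ≤ V)) _ hx m,
    ← QCoh.germ_smul']
  erw [Scheme.Hom.germ_stalkMap_apply]
  show TopCat.Presheaf.stalkPushforward Ab.{u} f.base M.presheaf x _ =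
    _ • TopCat.Presheaf.stalkPushforward Ab.{u} f.base M.presheaf x _
  erw [TopCat.Presheaf.stalkPushforward_germ_apply, TopCat.Presheaf.stalkPushforward_germ_apply]
  exact QCoh.germ_smul' M (U := f ⁻¹ᵁ (U ⊓ V)) hx (f.app (U ⊓ V) (Y.presheaf.map (homOfLE (inf_le_left : U ⊓ V ≤ U)).op a))
    (((Scheme.Modules.pushforward f).obj M).presheaf.map (homOfLE (inf_le_right : U ⊓ V ≤ V)).op m)

end Groth.Agent.ExtShX
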