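import Groth.Agent.ExtShX.SmDual
import Groth.Agent.ExtShX.DualX
import Groth.Agent.S10934
import Groth.Agent.AvramovLib.Ps
import Groth.Agent.GrpSchLib.SmoothRegular
import Groth.Agent.FibDim.BaseField
import Groth.Agent.H23.PicMul
import Groth.Agent.CanonTriv.TopPow

/-!
# Serre duality for smooth projective schemes, with the top forms
-/

set_option autoImplicit false
set_option linter.style.haveILetI false
set_option backward.isDefEq.respectTransparency false
set_option backward.isDefEq.respectTransparency.types false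

universe u

open CategoryTheory CategoryTheory.Limits AlgebraicGeometry TopologicalSpace Opposite

noncomputable section

namespace Groth.Agent.ExtShX.SmDual

variable {k : Type u} [Field k] {n r : ℕ} {X : Scheme.{u}} [X.Over (Spec (CommRingCat.of k))]

theorem deg_eq_rd [LocallyOfFiniteType (X ↘ Spec (CommRingCat.of k))] (x : X) :
    VarDim.deg (X ↘ Spec (CommRingCat.of k)) x = FibDim.rd (X ↘ Spec (CommRingCat.of k)) x := by
  have h := FibDim.rd_eq_rdeg (X ↘ Spec (CommRingCat.of k)) x
  rw [← VarDim.tdeg_eq_rdeg (k := k), ← VarDim.deg_eq_tdeg (k := k)] at h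
  exact_mod_cast h.symm

theorem ringKrullDim_stalk_eq [SmoothOfRelativeDimension r (X ↘ Spec (CommRingCat.of k))] (x : X)
    (hx : IsClosed ({x} : Set ↥X)) : ringKrullDim (X.presheaf.stalk x) = r := by
  haveI : Smooth (X ↘ Spec (CommRingCat.of k)) := SmoothOfRelativeDimension.smooth (n := r) _
  haveI : IsLocallyNoetherian X := LocallyOfFiniteType.isLocallyNoetherian (X ↘ Spec (CommRingCat.of k))
  haveI : Subsingleton ↥(Spec (CommRingCat.of k)) := inferInstanceAs (Subsingleton (PrimeSpectrum k))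
  let f := X ↘ Spec (CommRingCat.of k)
  obtain ⟨b, hb, ⟨η, hη, hηb⟩, hle⟩ := VarDim.exists_deg_add_stalk f x
  have h0 := (VarDim.closedPoint_iff_deg_eq_zero f x).1 hx
  obtain ⟨w, hw, -, -, hd⟩ := FibDim.exists_fibMax_generization f x
  rw [S2768.result r f x] at hd
  have hd' : r = FibDim.rd f w := by exact_mod_cast hd
  have h1 := hle w hw
  have h2 := FibDim.rd_le_fibreDimAt f hη (Subsingleton.elim _ _)
  rw [S2768.result r f x] at h2
  have h2' : FibDim.rd f η ≤ r := by exact_mod_cast h2
  have hdr : ∀ z, VarDim.deg f z = FibDim.rd f z := fun z => deg_eq_rd z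
  rw [hdr w] at h1
  rw [hdr η] at hηb
  rw [hb, show b = r by omega]

theorem dim_eq [Nonempty ↥X] [SmoothOfRelativeDimension r (X ↘ Spec (CommRingCat.of k))] :
    topologicalKrullDim ↥X = (r : WithBot ℕ∞) := by
  haveI : Smooth (X ↘ Spec (CommRingCat.of k)) := SmoothOfRelativeDimension.smooth (n := r) _
  haveI : IsLocallyNoetherian X := LocallyOfFiniteType.isLocallyNoetherian (X ↘ Spec (CommRingCat.of k))
  haveI : Subsingleton ↥(Spec (CommRingCat.of k)) := inferInstanceAs (Subsingleton (PrimeSpectrum k))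
  let f := X ↘ Spec (CommRingCat.of k)
  refine le_antisymm (dim_le (k := k) (r := r)) ?_
  obtain ⟨x⟩ := ‹Nonempty ↥X›
  obtain ⟨w, -, -, -, hd⟩ := FibDim.exists_fibMax_generization f x
  rw [S2768.result r f x] at hd
  rw [FibDim.topologicalKrullDim_eq_iSup_rd f]
  exact le_iSup_of_le w hd.le

/-- Differentials of a smooth morphism are locally free of the relative dimension. -/
theorem flf_omega {S : Scheme.{u}} (f : X ⟶ S) [QuasiSeparated f] (r : ℕ) [SmoothOfRelativeDimension r f] :
    FlatMod.IsFinLocFreeOfRank r (Omega.sheaf f) := fun x => by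
  obtain ⟨U, hU, s, hs⟩ := SmFrame.exists_frame_relDim f r x
  exact ⟨U, hU, H23.Frame.exists_iso_of_frame s hs⟩

variable (ι : X ⟶ CohB1.ProjSpace n k) [IsClosedImmersion ι]

/-- Very negative twists have no cohomology below the dimension. -/
theorem exists_negTwist_vanishing [SmoothOfRelativeDimension r (X ↘ Spec (CommRingCat.of k))] :
    ∃ q₀ : ℕ, ∀ q : ℕ, q₀ ≤ q → ∀ j : ℕ, j < r →
      Subsingleton (Coh.HH X ((Scheme.Modules.pullback ι).obj (Twist.twistProjSpace n k (-(q : ℤ)))) j) := by
  haveI : Smooth (X ↘ Spec (CommRingCat.of k)) := SmoothOfRelativeDimension.smooth (n := r) _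
  haveI : IsLocallyNoetherian X := LocallyOfFiniteType.isLocallyNoetherian (X ↘ Spec (CommRingCat.of k))
  cases isEmpty_or_nonempty ↥X with
  | inl h => exact ⟨0, fun q _ j _ => Euler.subsingleton_HH_of_isZero (SmExt.isZero_of_isEmpty _) j⟩
  | inr h =>
    obtain ⟨q₀, hq⟩ := (S10934.result k n r ι (dim_eq (k := k) (r := r))).1 (fun x hx =>
      ⟨by haveI := GrpSchLib.isRegularLocalRing_stalk_of_smooth (X ↘ Spec (CommRingCat.of k)) x
          exact AvramovLib.isCM_of_regular _, ringKrullDim_stalk_eq (k := k) x hx⟩) _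
      (KZ.QuasiProj.flf_of_invertible (InvX.isInvertible_structureModule (X := X)))
    exact ⟨q₀, fun q hq' j hj =>
      QCoh.subsingleton_HH_of_iso ((H23.PicMul.comm _ _).some ≪≫ (H23.PicMul.unit _).some) j (hq q hq' j hj)⟩

variable (hι : ι ≫ CohB1.ProjSpace.toSpec n k = X ↘ Spec (CommRingCat.of k))

include hι in
theorem isInvertible_top [SmoothOfRelativeDimension r (X ↘ Spec (CommRingCat.of k))] {Ω : X.Modules}
    (hΩ : ExtPow.IsExtPow r (Omega.sheaf (X ↘ Spec (CommRingCat.of k))) Ω) : PicF.IsInvertible Ω := by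
  haveI : IsProper (CohB1.ProjSpace.toSpec n k) := PnCoh.Chow.isProper_toSpec n k
  haveI : IsProper (X ↘ Spec (CommRingCat.of k)) := hι ▸ inferInstance
  exact CanonTriv.isInvertible_of_isExtPow_top (flf_omega _ r) hΩ

include hι in
theorem isCoh_top [SmoothOfRelativeDimension r (X ↘ Spec (CommRingCat.of k))] {Ω : X.Modules}
    (hΩ : ExtPow.IsExtPow r (Omega.sheaf (X ↘ Spec (CommRingCat.of k))) Ω) : Coh.IsCoh Ω := by
  haveI : Smooth (X ↘ Spec (CommRingCat.of k)) := SmoothOfRelativeDimension.smooth (n := r) _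
  haveI : IsLocallyNoetherian X := LocallyOfFiniteType.isLocallyNoetherian (X ↘ Spec (CommRingCat.of k))
  exact CurveDeg.isCoh_of_isInvertible (isInvertible_top ι hι hΩ)

include hι in
/-- Serre duality in all degrees with the top forms. -/
theorem duality [SmoothOfRelativeDimension r (X ↘ Spec (CommRingCat.of k))] [HasExt.{u} X.Modules]
    {Ω : X.Modules} (hΩ : ExtPow.IsExtPow r (Omega.sheaf (X ↘ Spec (CommRingCat.of k))) Ω)
    (F : X.Modules) (hF : Coh.IsCoh F) (i : ℕ) :
    (i ≤ r → Nonempty (Abelian.Ext.{u} F Ω i ≃ₗ[k] Module.Dual k (Coh.HH X F (r - i)))) ∧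
      (r < i → Subsingleton (Abelian.Ext.{u} F Ω i)) := by
  obtain ⟨t, ht⟩ := exists_trace ι hι hΩ
  obtain ⟨q₀, hq⟩ := exists_negTwist_vanishing (k := k) (r := r) ι
  exact duality_of_vanishing ι hι (isCoh_top ι hι hΩ) r t ht q₀ hq F hF i

end Groth.Agent.ExtShX.SmDual
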