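import Groth.Agent.ExtShX.FundCon
import Groth.Agent.OmegaUniv.ToSectIso
import Groth.Agent.OmegaUniv.Unram
import Groth.Agent.InvX.Pullback
import Groth.Agent.QCoh.Stalk
import Mathlib

/-!
# Frames of sheaves of differentials and of exterior powers
-/

set_option autoImplicit false
set_option linter.style.haveILetI false
set_option backward.isDefEq.respectTransparency false
set_option backward.isDefEq.respectTransparency.types false

universe u

open CategoryTheory CategoryTheory.Limits AlgebraicGeometry TopologicalSpace Opposite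

noncomputable section

namespace Groth.Agent.ExtShX.SmFrame

variable {X Y : Scheme.{u}}

/-- A basis of the sections over an affine open of a quasi-coherent module is a frame. -/
theorem isFrame_of_bijective {n : ℕ} {M : X.Modules} (hM : Coh.IsQCoh M) {U : X.Opens} (hU : IsAffineOpen U)
    (s : Fin n → Γ(M, U)) (hs : Function.Bijective fun c : Fin n → Γ(X, U) => ∑ i, c i • s i) :
    H23.Frame.IsFrame M s := by
  refine Fund.isFrame_of_germs s fun x hx => ?_
  letI := QCoh.stalkAlg (X := X) hx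
  letI := QCoh.stalkModule M hx
  haveI := QCoh.isScalarTower_stalk M hx
  haveI := QCoh.isLocalization_stalk' hU hx
  haveI := QCoh.isLocalizedModule_germLin hM hU hx
  let l : (Fin n → Γ(X, U)) →ₗ[Γ(X, U)] Γ(M, U) := Fintype.linearCombination Γ(X, U) s
  have hl : Function.Bijective l :=
    (congrArg Function.Bijective (funext fun c => (Fintype.linearCombination_apply _ s c).symm)).mp hs
  let b : Module.Basis (Fin n) Γ(X, U) Γ(M, U) :=
    Module.Basis.ofEquivFun (LinearEquiv.ofBijective l hl).symm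
  have hb : ∀ i, b i = s i := fun i => by
    simp [b, l, Fintype.linearCombination_apply, Pi.single_apply]
  let bl := b.ofIsLocalizedModule (X.presheaf.stalk x) (hU.primeIdealOf ⟨x, hx⟩).asIdeal.primeCompl (QCoh.germLin M hx)
  refine (congrArg Function.Bijective (funext fun c => ?_)).mp bl.equivFun.symm.bijective
  rw [Module.Basis.equivFun_symm_apply]
  refine Finset.sum_congr rfl fun i _ => ?_
  simp only [bl, Module.Basis.ofIsLocalizedModule_apply, hb]
  rfl

theorem eq_of_frames {a b : ℕ} {M : X.Modules} {U U' : X.Opens} {s : Fin a → Γ(M, U)} {s' : Fin b → Γ(M, U')}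
    (hs : H23.Frame.IsFrame M s) (hs' : H23.Frame.IsFrame M s') (x : X) (hx : x ∈ U) (hx' : x ∈ U') : a = b := by
  let W := U ⊓ U'
  haveI : Nonempty W := ⟨⟨x, hx, hx'⟩⟩
  let la : (Fin a → Γ(X, W)) →ₗ[Γ(X, W)] Γ(M, W) :=
    Fintype.linearCombination Γ(X, W) fun i => M.presheaf.map (homOfLE (inf_le_left : W ≤ U)).op (s i)
  let lb : (Fin b → Γ(X, W)) →ₗ[Γ(X, W)] Γ(M, W) :=
    Fintype.linearCombination Γ(X, W) fun i => M.presheaf.map (homOfLE (inf_le_right : W ≤ U')).op (s' i)
  have ha : Function.Bijective la :=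
    (congrArg Function.Bijective (funext fun c => (Fintype.linearCombination_apply _ _ c).symm)).mp
      (hs W inf_le_left)
  have hb : Function.Bijective lb :=
    (congrArg Function.Bijective (funext fun c => (Fintype.linearCombination_apply _ _ c).symm)).mp
      (hs' W inf_le_right)
  exact eq_of_fin_equiv Γ(X, W) ((LinearEquiv.ofBijective la ha).trans (LinearEquiv.ofBijective lb hb).symm)

section Omega

variable (f : X ⟶ Y) [QuasiSeparated f]

/-- Coordinates give a frame of the sheaf of differentials. -/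
theorem isFrame_dOmega {U : X.Opens} (hU : IsAffineOpen U) {V : Y.Opens} (hV : IsAffineOpen V)
    (e : U ≤ f ⁻¹ᵁ V) {n : ℕ} (a : Fin n → Γ(X, U))
    (β : letI := (f.appLE V U e).hom.toAlgebra; Module.Basis (Fin n) Γ(X, U) Ω[Γ(X, U)⁄Γ(Y, V)])
    (hβ : letI := (f.appLE V U e).hom.toAlgebra; ∀ i, β i = KaehlerDifferential.D Γ(Y, V) Γ(X, U) (a i)) :
    H23.Frame.IsFrame (Omega.sheaf f) fun i => (OmegaSh.dOmega f).app U (a i) := by
  letI := (f.appLE V U e).hom.toAlgebra
  refine isFrame_of_bijective (OmegaUniv.isQCoh_omega f) hU _ ?_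
  refine (congrArg Function.Bijective (funext fun c => ?_)).mp
    ((OmegaUniv.toSect_bijective f hU hV e).comp β.equivFun.symm.bijective)
  show OmAff.toSect f V U e (β.equivFun.symm c) = _
  rw [Module.Basis.equivFun_symm_apply]
  refine (map_sum (OmAff.toSect f V U e).hom _ _).trans (Finset.sum_congr rfl fun i _ => ?_)
  refine (map_smul (OmAff.toSect f V U e).hom _ _).trans (congrArg (c i • ·) ?_)
  rw [hβ]
  exact OmAff.toSect_d f V U e (a i)

omit [QuasiSeparated f] in
/-- The rank of the differentials of a smooth morphism. -/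
theorem exists_frame_relDim [QuasiSeparated f] (n : ℕ) [SmoothOfRelativeDimension n f] (x : X) :
    ∃ (U : X.Opens) (_ : x ∈ U) (s : Fin n → Γ(Omega.sheaf f, U)), H23.Frame.IsFrame (Omega.sheaf f) s := by
  obtain ⟨V, hV, U, hU, hx, e, hstd⟩ :=
    SmoothOfRelativeDimension.exists_isStandardSmoothOfRelativeDimension (n := n) (f := f) x
  letI := (f.appLE V U e).hom.toAlgebra
  haveI : Algebra.IsStandardSmoothOfRelativeDimension n Γ(Y, V) Γ(X, U) := hstd
  haveI : Algebra.IsStandardSmooth Γ(Y, V) Γ(X, U) := Algebra.IsStandardSmoothOfRelativeDimension.isStandardSmooth n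
  haveI : Nonempty U := ⟨⟨x, hx⟩⟩
  have hr := Algebra.IsStandardSmoothOfRelativeDimension.rank_kaehlerDifferential (R := Γ(Y, V)) (S := Γ(X, U)) n
  haveI : Module.Finite Γ(X, U) Ω[Γ(X, U)⁄Γ(Y, V)] := inferInstance
  let β := Module.finBasisOfFinrankEq Γ(X, U) Ω[Γ(X, U)⁄Γ(Y, V)]
    (Module.finrank_eq_of_rank_eq (R := Γ(X, U)) (M := Ω[Γ(X, U)⁄Γ(Y, V)]) hr)
  refine ⟨U, hx, fun i => OmAff.toSect f V U e (β i), isFrame_of_bijective (OmegaUniv.isQCoh_omega f) hU _ ?_⟩
  refine (congrArg Function.Bijective (funext fun c => ?_)).mp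
    ((OmegaUniv.toSect_bijective f hU hV e).comp β.equivFun.symm.bijective)
  show OmAff.toSect f V U e (β.equivFun.symm c) = _
  rw [Module.Basis.equivFun_symm_apply]
  exact (map_sum (OmAff.toSect f V U e).hom _ _).trans
    (Finset.sum_congr rfl fun i _ => map_smul (OmAff.toSect f V U e).hom _ _)

end Omega

section Wedge

variable {n : ℕ} {E L : X.Modules}

/-- The wedge of sections over an affine open. -/
def wedge (φ : ∀ U : X.affineOpens, (L.val.obj (op U.1)) ≃ₗ[Γ(X, U.1)] ↥(⋀[Γ(X, U.1)]^n (E.val.obj (op U.1))))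
    (V : X.affineOpens) (w : Fin n → Γ(E, V.1)) : Γ(L, V.1) :=
  (φ V).symm (exteriorPower.ιMulti Γ(X, V.1) n (show Fin n → E.val.obj (op V.1) from w))

variable (φ : ∀ U : X.affineOpens, (L.val.obj (op U.1)) ≃ₗ[Γ(X, U.1)] ↥(⋀[Γ(X, U.1)]^n (E.val.obj (op U.1))))

theorem res_wedge
    (hφ : ∀ (U V : X.affineOpens) (h : V.1 ≤ U.1) (e : Fin n → E.val.obj (op U.1)),
      L.val.map (homOfLE h).op ((φ U).symm (exteriorPower.ιMulti _ n e)) =
        (φ V).symm (exteriorPower.ιMulti _ n (fun j => E.val.map (homOfLE h).op (e j))))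
    (V W : X.affineOpens) (h : W.1 ≤ V.1) (w : Fin n → Γ(E, V.1)) :
    AModX.res L h (wedge φ V w) = wedge φ W fun j => AModX.res E h (w j) :=
  hφ V W h w

/-- The wedge of a transformed tuple. -/
theorem wedge_matrix (V : X.affineOpens) (w w' : Fin n → Γ(E, V.1)) (C : Matrix (Fin n) (Fin n) Γ(X, V.1))
    (h : ∀ i, w' i = ∑ j, C i j • w j) : wedge φ V w' = C.det • wedge φ V w := by
  unfold wedge
  rw [show (show Fin n → E.val.obj (op V.1) from w') =
      fun i => ∑ j, C i j • (show E.val.obj (op V.1) from w j) from funext h, Fund.alt_map_matrix]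
  exact map_smul (φ V).symm _ _

/-- The wedge of a frame is a frame. -/
theorem isFrame_wedge
    (hφ : ∀ (U V : X.affineOpens) (h : V.1 ≤ U.1) (e : Fin n → E.val.obj (op U.1)),
      L.val.map (homOfLE h).op ((φ U).symm (exteriorPower.ιMulti _ n e)) =
        (φ V).symm (exteriorPower.ιMulti _ n (fun j => E.val.map (homOfLE h).op (e j))))
    (V : X.affineOpens) (w : Fin n → Γ(E, V.1)) (hw : H23.Frame.IsFrame E w) :
    InvX.IsFrame (wedge φ V w) := by
  have key : ∀ (W : X.affineOpens) (h : W.1 ≤ V.1),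
      Function.Bijective fun a : Γ(X, W.1) => a • AModX.res L h (wedge φ V w) := fun W h => by
    rw [res_wedge φ hφ V W h]
    exact Fund.bijective_smul_wedge φ W _ (hw W.1 h)
  refine InvX.isFrame_of_germ fun a ha => ⟨fun b b' hb => ?_, fun z => ?_⟩
  · obtain ⟨W₁, h₁, s, rfl⟩ := X.presheaf.exists_germ_eq (x := a) b
    obtain ⟨W₂, h₂, s', rfl⟩ := X.presheaf.exists_germ_eq (x := a) b'
    let W := W₁ ⊓ W₂ ⊓ V.1
    have hW : a ∈ W := ⟨⟨h₁, h₂⟩, ha⟩
    have e1 : W ≤ W₁ := inf_le_left.trans inf_le_left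
    have e2 : W ≤ W₂ := inf_le_left.trans inf_le_right
    have e3 : W ≤ V.1 := inf_le_right
    dsimp only at hb
    rw [← RefX.germ_resR e1 hW s, ← RefX.germ_resR e2 hW s', ← RefX.germ_res L e3 hW (wedge φ V w),
      ← QCoh.germ_smul', ← QCoh.germ_smul'] at hb
    obtain ⟨W', hW', i, j, hij⟩ := TopCat.Presheaf.germ_eq (C := AddCommGrpCat.{u}) L.presheaf a hW hW _ _ hb
    change AModX.res L i.le _ = AModX.res L j.le _ at hij
    obtain ⟨_, ⟨Q, hQ, rfl⟩, haQ, hQW⟩ := X.isBasis_affineOpens.exists_subset_of_mem_open hW' W'.2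
    have hij' := congrArg (AModX.res L (hQW : Q ≤ W')) hij
    simp only [AModX.res_smul, AModX.res_res] at hij'
    have h3 := (key ⟨Q, hQ⟩ (((hQW : Q ≤ W').trans i.le).trans e3)).1 hij'
    have h4 := congrArg (X.presheaf.germ Q a haQ) h3
    simpa only [RefX.germ_resR] using h4
  · obtain ⟨W, hW, m, rfl⟩ := L.presheaf.exists_germ_eq (x := a) z
    obtain ⟨_, ⟨Q, hQ, rfl⟩, haQ, hQW⟩ :=
      X.isBasis_affineOpens.exists_subset_of_mem_open (show a ∈ W ⊓ V.1 from ⟨hW, ha⟩) (W ⊓ V.1).2
    obtain ⟨b, hb⟩ := (key ⟨Q, hQ⟩ ((hQW : Q ≤ W ⊓ V.1).trans inf_le_right)).2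
      (AModX.res L ((hQW : Q ≤ W ⊓ V.1).trans inf_le_left) m)
    refine ⟨X.presheaf.germ Q a haQ b, ?_⟩
    show _ • L.presheaf.germ _ a ha (wedge φ V w) = _
    rw [← RefX.germ_res L ((hQW : Q ≤ W ⊓ V.1).trans inf_le_right) haQ (wedge φ V w), ← QCoh.germ_smul']
    exact (congrArg (L.presheaf.germ Q a haQ) hb).trans (RefX.germ_res _ _ haQ m)

end Wedge

end Groth.Agent.ExtShX.SmFrame
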