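import Groth.Agent.ExtShX.FundLoc
import Groth.Agent.Synt29.ConormalSeq
import Groth.Agent.CanonTriv.TopPow
import Groth.Agent.KRegLib.Local
import Mathlib

/-!
# The top exterior power of the conormal sheaf of a regular immersion
-/

set_option autoImplicit false
set_option linter.style.haveILetI false
set_option linter.unusedSectionVars false
set_option backward.isDefEq.respectTransparency false
set_option backward.isDefEq.respectTransparency.types false

universe u

open CategoryTheory CategoryTheory.Limits AlgebraicGeometry TopologicalSpace Opposite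
open Groth.Agent.WiebeLib Groth.Agent.Synt29 Groth.Agent.Synt29.OmegaStalk Groth.Agent.Synt29.ConormalStalk

noncomputable section

namespace Groth.Agent.ExtShX.Fund

/-- An alternating form on a transformed tuple. -/
theorem alt_map_matrix {A : Type*} [CommRing A] {M N : Type*} [AddCommGroup M] [Module A M] [AddCommGroup N]
    [Module A N] {r : ℕ} (f : M [⋀^Fin r]→ₗ[A] N) (v : Fin r → M) (C : Matrix (Fin r) (Fin r) A) :
    f (fun i => ∑ j, C i j • v j) = C.det • f v := by
  let g : (Fin r → A) [⋀^Fin r]→ₗ[A] N := f.compLinearMap (Fintype.linearCombination A v)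
  let e := Pi.basisFun A (Fin r)
  have h : g = (LinearMap.toSpanSingleton A N (g e)).compAlternatingMap e.det := by
    refine Module.Basis.ext_alternating e fun i hi => ?_
    let σ : Equiv.Perm (Fin r) := Equiv.ofBijective i (Finite.injective_iff_bijective.1 hi)
    show g (e ∘ σ) = e.det (e ∘ σ) • g e
    rw [g.map_perm, e.det.map_perm, e.det_self]
    rcases Int.units_eq_one_or (Equiv.Perm.sign σ) with hs | hs <;> rw [hs] <;> simp
  have h1 : g e = f v := congrArg f (funext fun i => by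
    simp [e, Fintype.linearCombination_apply, Pi.single_apply])
  have h2 := congrArg (fun k : (Fin r → A) [⋀^Fin r]→ₗ[A] N => k (fun i => fun j => C i j)) h
  refine Eq.trans ?_ (h2.trans ?_)
  · exact congrArg f (funext fun i => by simp [Fintype.linearCombination_apply])
  · show e.det (fun i => fun j => C i j) • g e = _
    rw [h1]
    exact congrArg (· • f v) (Pi.basisFun_det_apply (R := A) (fun i j => C i j))

variable {X : Scheme.{u}}

/-- A frame on sections from bases on stalks. -/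
theorem isFrame_of_germs {n : ℕ} {M : X.Modules} {U : X.Opens} (s : Fin n → Γ(M, U))
    (h : ∀ (x : X) (hx : x ∈ U), Function.Bijective fun c : Fin n → X.presheaf.stalk x =>
      ∑ i, c i • M.presheaf.germ U x hx (s i)) : H23.Frame.IsFrame M s := by
  intro W hW
  have hgerm : ∀ (V : X.Opens) (hV : V ≤ U) (c : Fin n → Γ(X, V)) (x : X) (hx : x ∈ V),
      M.presheaf.germ V x hx (H23.Frame.comb M s V hV c) =
        ∑ i, X.presheaf.germ V x hx (c i) • M.presheaf.germ U x (hV hx) (s i) := fun V hV c x hx => by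
    rw [H23.Frame.comb, map_sum]
    refine Finset.sum_congr rfl fun i _ => ?_
    rw [QCoh.germ_smul', TopCat.Presheaf.germ_res_apply]
  have hinj : ∀ (V : X.Opens) (hV : V ≤ U), Function.Injective (H23.Frame.comb M s V hV) := fun V hV c c' he =>
    funext fun i => TopCat.Presheaf.section_ext X.sheaf _ _ _ fun x hx => congrFun ((h x (hV hx)).1
      (((hgerm V hV c x hx).symm.trans (congrArg (M.presheaf.germ V x hx) he)).trans (hgerm V hV c' x hx))) i
  refine ⟨hinj W hW, fun z => ?_⟩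
  have hloc : ∀ p : W, ∃ (V : X.Opens) (hV : V ≤ W) (_ : p.1 ∈ V) (c : Fin n → Γ(X, V)),
      AModX.res M hV z = H23.Frame.comb M s V (hV.trans hW) c := fun p => by
    obtain ⟨c, hc⟩ := (h p.1 (hW p.2)).2 (M.presheaf.germ W p.1 p.2 z)
    choose V₁ hV₁ a ha using fun i => X.presheaf.exists_germ_eq (x := p.1) (c i)
    let V : X.Opens := W ⊓ Finset.univ.inf V₁
    have hxV : p.1 ∈ V := ⟨p.2, by
      show p.1 ∈ ((Finset.univ.inf V₁ : X.Opens) : Set X)
      simp [TopologicalSpace.Opens.coe_finset_inf, hV₁]⟩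
    have hle : ∀ i, V ≤ V₁ i := fun i => inf_le_right.trans (Finset.inf_le (Finset.mem_univ i))
    let b : Fin n → Γ(X, V) := fun i => AModX.resR (hle i) (a i)
    have heq : M.presheaf.germ V p.1 hxV (AModX.res M inf_le_left z) =
        M.presheaf.germ V p.1 hxV (H23.Frame.comb M s V (inf_le_left.trans hW) b) := by
      rw [hgerm, RefX.germ_res, ← hc]
      refine Finset.sum_congr rfl fun i _ => ?_
      rw [RefX.germ_resR, ha]
    obtain ⟨V', hxV', i, j, hij⟩ :=
      TopCat.Presheaf.germ_eq (C := AddCommGrpCat.{u}) M.presheaf p.1 hxV hxV _ _ heq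
    change AModX.res M i.le _ = AModX.res M j.le _ at hij
    refine ⟨V', i.le.trans inf_le_left, hxV', fun l => AModX.resR j.le (b l), ?_⟩
    rw [← AModX.res_res (inf_le_left : V ≤ W) i.le z, hij]
    refine ZClosLib.section_ext M _ _ fun y hy => ?_
    rw [RefX.germ_res, hgerm, hgerm]
    simp only [RefX.germ_resR]
  choose V hV hpV c hc using hloc
  obtain ⟨C, hC⟩ : ∃ C : Fin n → Γ(X, W), ∀ i p, AModX.resR (hV p) (C i) = c p i := by
    have := fun i => TopCat.Sheaf.existsUnique_gluing' X.sheaf V W (fun p => homOfLE (hV p))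
      (fun p hp => Opens.mem_iSup.2 ⟨⟨p, hp⟩, hpV ⟨p, hp⟩⟩) (fun p => c p i) fun p q => by
        refine congrFun (hinj _ ((inf_le_left.trans (hV p)).trans hW)
          (a₁ := fun l => AModX.resR (inf_le_left : V p ⊓ V q ≤ V p) (c p l))
          (a₂ := fun l => AModX.resR (inf_le_right : V p ⊓ V q ≤ V q) (c q l)) ?_) i
        refine ZClosLib.section_ext M _ _ fun y hy => ?_
        have h1 := congrArg (M.presheaf.germ (V p) y hy.1) (hc p)
        have h2 := congrArg (M.presheaf.germ (V q) y hy.2) (hc q)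
        rw [RefX.germ_res, hgerm] at h1 h2
        rw [hgerm, hgerm]
        simp only [RefX.germ_resR]
        exact h1.symm.trans h2
    choose C hC _ using this
    exact ⟨C, hC⟩
  refine ⟨C, ZClosLib.section_ext M _ _ fun y hy => ?_⟩
  have h1 := congrArg (M.presheaf.germ (V ⟨y, hy⟩) y (hpV ⟨y, hy⟩)) (hc ⟨y, hy⟩)
  rw [RefX.germ_res, hgerm] at h1
  rw [hgerm, h1]
  refine Finset.sum_congr rfl fun i _ => ?_
  rw [← hC i ⟨y, hy⟩, RefX.germ_resR]

/-- The wedge of a frame on an affine open is a frame of an exterior power. -/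
theorem bijective_smul_wedge {n : ℕ} {E L : X.Modules}
    (φ : ∀ U : X.affineOpens, (L.val.obj (op U.1)) ≃ₗ[Γ(X, U.1)] ↥(⋀[Γ(X, U.1)]^n (E.val.obj (op U.1))))
    (W : X.affineOpens) (w : Fin n → Γ(E, W.1))
    (hw : Function.Bijective fun c : Fin n → Γ(X, W.1) => ∑ i, c i • w i) :
    Function.Bijective fun a : Γ(X, W.1) =>
      a • (show Γ(L, W.1) from (φ W).symm (exteriorPower.ιMulti Γ(X, W.1) n
        (show Fin n → E.val.obj (op W.1) from w))) := by
  let w' : Fin n → E.val.obj (op W.1) := w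
  let l : (Fin n → Γ(X, W.1)) →ₗ[Γ(X, W.1)] E.val.obj (op W.1) := Fintype.linearCombination Γ(X, W.1) w'
  have hl : Function.Bijective l := by
    refine (congrArg Function.Bijective (funext fun c => ?_)).mp hw
    exact (Fintype.linearCombination_apply _ w' c).symm
  let b : Module.Basis (Fin n) Γ(X, W.1) (E.val.obj (op W.1)) :=
    Module.Basis.ofEquivFun (LinearEquiv.ofBijective l hl).symm
  have hb : (fun i => b i) = w' := by
    funext i
    simp [b, l, Fintype.linearCombination_apply, Pi.single_apply]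
  have h1 := CanonTriv.bijective_smul_ιMulti b
  rw [hb] at h1
  refine (congrArg Function.Bijective (funext fun a => ?_)).mp ((φ W).symm.bijective.comp h1)
  exact map_smul (φ W).symm a _

section

variable {P : Scheme.{u}} (ι : X ⟶ P) [IsClosedImmersion ι] {r : ℕ}

/-- The conormal classes of the equations of a chart. -/
def coSec (c : Chart ι r) (i : Fin r) : Γ(Omega.conormal ι, ι ⁻¹ᵁ c.U) :=
  OmegaSh.conormalSect ι c.U (OmegaUniv.exists_idealSect_of_app_eq_zero ι c.U (c.f i) (c.app_eq i)).choose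

theorem idealSect_choose (c : Chart ι r) (i : Fin r) :
    OmegaSh.idealSect ι.ker c.U (OmegaUniv.exists_idealSect_of_app_eq_zero ι c.U (c.f i) (c.app_eq i)).choose =
      c.f i :=
  (OmegaUniv.exists_idealSect_of_app_eq_zero ι c.U (c.f i) (c.app_eq i)).choose_spec

theorem coSec_eq (c : Chart ι r) (a : X) (ha : ι a ∈ c.U) {U' : P.Opens} (h' : ι a ∈ U')
    (k : Γ(ClSub.idealMod ι.ker, U')) (C : Fin r → P.presheaf.stalk (ι a))
    (hk : P.presheaf.germ U' (ι a) h' (OmegaSh.idealSect ι.ker U' k) =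
      ∑ j, C j * P.presheaf.germ c.U (ι a) ha (c.f j)) :
    gm (Omega.conormal ι) (x := a) h' (OmegaSh.conormalSect ι U' k) =
      ∑ j, ι.stalkMap a (C j) • gm (Omega.conormal ι) (x := a) ha (coSec ι c j) := by
  let Pi' := (KFlatLib.stalkPullbackIso ι a).app (I ι)
  let m : Fin r → St (I ι) (ι a) := fun j => gm (I ι) ha
    (OmegaUniv.exists_idealSect_of_app_eq_zero ι c.U (c.f j) (c.app_eq j)).choose
  have hm : ∀ j, Rep ι (ι a) (m j) (P.presheaf.germ c.U (ι a) ha (c.f j)) := fun j =>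
    ⟨c.U, ha, _, rfl, by rw [idealSect_choose]⟩
  have hsum : Rep ι (ι a) (∑ j, C j • m j) (∑ j, C j * P.presheaf.germ c.U (ι a) ha (c.f j)) := by
    refine Finset.induction_on (Finset.univ : Finset (Fin r)) ?_ fun j t hj ih => ?_
    · simpa using rep_zero ι (ι a)
    · rw [Finset.sum_insert hj, Finset.sum_insert hj]
      exact rep_add ι (rep_smul ι (hm j) (C j)) ih
  have he : gm (I ι) h' k = ∑ j, C j • m j := rep_inj ι ⟨U', h', k, rfl, hk⟩ hsum
  apply (ConcreteCategory.bijective_of_isIso Pi'.hom).1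
  refine ((stalkPullbackIso_gm ι (I ι) a h' k).trans ?_)
  show unit1 ι a (gm (I ι) h' k) = _
  rw [he, map_sum]
  refine (map_sum ((ModuleCat.extendRestrictScalarsAdj (ι.stalkMap a).hom).unit.app (St (I ι) (ι a))).hom _ _).trans ?_
  refine Finset.sum_congr rfl fun j _ => ?_
  refine (unit1_smul ι a (C j) (m j)).trans ?_
  rw [map_smul]
  exact congrArg _ (stalkPullbackIso_gm ι (I ι) a ha _).symm

theorem coSec_bijective (c : Chart ι r) (a : X) (ha : a ∈ ι ⁻¹ᵁ c.U) :
    Function.Bijective fun b : Fin r → X.presheaf.stalk a =>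
      ∑ i, b i • (Omega.conormal ι).presheaf.germ (ι ⁻¹ᵁ c.U) a ha (coSec ι c i) := by
  let f : Fin r → P.presheaf.stalk (ι a) := fun i => P.presheaf.germ c.U (ι a) ha (c.f i)
  have hker : RingHom.ker (ι.stalkMap a).hom = Ideal.span (Set.range f) := by
    rw [← Jst_eq_ker]; exact c.span _ ha
  refine ⟨?_, fun z => ?_⟩
  · refine fun b b' h => ?_
    rw [← sub_eq_zero]
    have h0 : ∑ i, (b - b') i • gm (Omega.conormal ι) (x := a) ha (coSec ι c i) = 0 := by
      simp only [Pi.sub_apply, sub_smul, Finset.sum_sub_distrib]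
      exact sub_eq_zero.2 h
    generalize b - b' = e at h0 ⊢
    choose C hC using fun i => ι.stalkMap_surjective a (e i)
    let m : Fin r → St (I ι) (ι a) := fun j => gm (I ι) ha
      (OmegaUniv.exists_idealSect_of_app_eq_zero ι c.U (c.f j) (c.app_eq j)).choose
    have hsum : Rep ι (ι a) (∑ j, C j • m j) (∑ j, C j * f j) := by
      refine Finset.induction_on (Finset.univ : Finset (Fin r)) ?_ fun j t hj ih => ?_
      · simpa using rep_zero ι (ι a)
      · rw [Finset.sum_insert hj, Finset.sum_insert hj]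
        exact rep_add ι (rep_smul ι ⟨c.U, ha, _, rfl, by rw [idealSect_choose]⟩ (C j)) ih
    have hu : unit1 ι a (∑ j, C j • m j) = 0 := by
      refine Eq.trans ?_ ((congrArg ((KFlatLib.stalkPullbackIso ι a).app (I ι)).hom h0).trans (map_zero _))
      rw [map_sum]
      refine (map_sum ((ModuleCat.extendRestrictScalarsAdj (ι.stalkMap a).hom).unit.app (St (I ι) (ι a))).hom _ _).trans ?_
      refine Finset.sum_congr rfl fun j _ => ?_
      refine (unit1_smul ι a (C j) (m j)).trans ?_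
      rw [map_smul, hC]
      exact congrArg _ (stalkPullbackIso_gm ι (I ι) a ha _).symm
    have hsq := ConormalSeq.mem_sq_of_unit1_eq_zero ι (ι.stalkMap_surjective a) hsum hu
    rw [sq, hker, ← smul_eq_mul] at hsq
    obtain ⟨dd, hdd, hdsum⟩ : ∃ dd : Fin r → P.presheaf.stalk (ι a),
        (∀ i, dd i ∈ Ideal.span (Set.range f)) ∧ ∑ i, dd i * f i = ∑ j, C j * f j := by
      refine Submodule.smul_induction_on (p := fun y => ∃ dd : Fin r → P.presheaf.stalk (ι a),
        (∀ i, dd i ∈ Ideal.span (Set.range f)) ∧ ∑ i, dd i * f i = y) hsq (fun u hu v hv => ?_) ?_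
      · obtain ⟨w, hw⟩ := (Submodule.mem_span_range_iff_exists_fun _).1 hv
        refine ⟨fun i => u * w i, fun i => Ideal.mul_mem_right _ _ hu, ?_⟩
        rw [← hw, smul_eq_mul, Finset.mul_sum]
        simp [mul_assoc]
      · rintro y y' ⟨d₁, h₁, e₁⟩ ⟨d₂, h₂, e₂⟩
        exact ⟨d₁ + d₂, fun i => add_mem (h₁ i) (h₂ i), by simp [add_mul, Finset.sum_add_distrib, e₁, e₂]⟩
    funext i
    have hrel := KRegLib.mem_span_of_sum_eq_zero (c.exact' _ ha) (fun i => C i - dd i)
      (by simp only [sub_mul, Finset.sum_sub_distrib]; exact sub_eq_zero.2 hdsum.symm) i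
    have hCi : C i ∈ RingHom.ker (ι.stalkMap a).hom := by
      rw [hker]
      have := add_mem hrel (hdd i)
      rwa [sub_add_cancel] at this
    rw [Pi.zero_apply, ← hC i]
    exact RingHom.mem_ker.1 hCi
  · obtain ⟨U', h', k, rfl⟩ := exists_conormalSect ι a z
    have hmem : P.presheaf.germ U' (ι a) h' (OmegaSh.idealSect ι.ker U' k) ∈ Ideal.span (Set.range f) := by
      rw [← hker, RingHom.mem_ker]
      exact rep_mem ι ⟨U', h', k, rfl, rfl⟩
    obtain ⟨C, hC⟩ := (Submodule.mem_span_range_iff_exists_fun _).1 hmem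
    exact ⟨fun j => ι.stalkMap a (C j), (coSec_eq ι c a ha h' k C (by simpa using hC.symm)).symm⟩

theorem coSec_isFrame (c : Chart ι r) : H23.Frame.IsFrame (Omega.conormal ι) (coSec ι c) :=
  isFrame_of_germs _ (coSec_bijective ι c)

/-- The generators `df₁ ∧ ⋯ ∧ df_r` and their transformation rule. -/
theorem exists_omega {L : X.Modules} (hL : ExtPow.IsExtPow r (Omega.conormal ι) L) :
    ∃ ω : ∀ c : Chart ι r, Γ((Scheme.Modules.pushforward ι).obj L, c.U),
      (∀ (c : Chart ι r) (x : P) (hx : x ∈ c.U),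
        (Function.Surjective fun b : P.presheaf.stalk x =>
          b • ((Scheme.Modules.pushforward ι).obj L).presheaf.germ c.U x hx (ω c)) ∧
        ∀ b : P.presheaf.stalk x, b • ((Scheme.Modules.pushforward ι).obj L).presheaf.germ c.U x hx (ω c) = 0 ↔
          b ∈ Jst ι x) ∧
      ∀ (c c' : Chart ι r) (x : P) (hx : x ∈ c.U) (hx' : x ∈ c'.U) (C : Matrix (Fin r) (Fin r) (P.presheaf.stalk x)),
        (∀ i, P.presheaf.germ c'.U x hx' (c'.f i) = ∑ j, C i j * P.presheaf.germ c.U x hx (c.f j)) →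
        ((Scheme.Modules.pushforward ι).obj L).presheaf.germ c'.U x hx' (ω c') =
          C.det • ((Scheme.Modules.pushforward ι).obj L).presheaf.germ c.U x hx (ω c) := by
  obtain ⟨φ, hφ⟩ := hL
  let E := Omega.conormal ι
  let V : Chart ι r → X.affineOpens := fun c => ⟨ι ⁻¹ᵁ c.U, c.hU.preimage ι⟩
  let g : ∀ c : Chart ι r, Γ(L, ι ⁻¹ᵁ c.U) := fun c =>
    (φ (V c)).symm (exteriorPower.ιMulti Γ(X, ι ⁻¹ᵁ c.U) r (show Fin r → E.val.obj (op (ι ⁻¹ᵁ c.U)) from coSec ι c))
  have hres : ∀ (c : Chart ι r) (W : X.affineOpens) (h : W.1 ≤ ι ⁻¹ᵁ c.U),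
      AModX.res L h (g c) = (show Γ(L, W.1) from (φ W).symm (exteriorPower.ιMulti Γ(X, W.1) r
        (show Fin r → E.val.obj (op W.1) from fun i => AModX.res E h (coSec ι c i)))) :=
    fun c W h => hφ (V c) W h (coSec ι c)
  have key : ∀ (c : Chart ι r) (W : X.affineOpens) (h : W.1 ≤ ι ⁻¹ᵁ c.U),
      Function.Bijective fun a : Γ(X, W.1) => a • AModX.res L h (g c) := fun c W h => by
    rw [hres]
    exact bijective_smul_wedge φ W _ (coSec_isFrame ι c W.1 h)
  have hbij : ∀ (c : Chart ι r) (a : X) (ha : a ∈ ι ⁻¹ᵁ c.U),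
      Function.Bijective fun b : X.presheaf.stalk a => b • L.presheaf.germ (ι ⁻¹ᵁ c.U) a ha (g c) := by
    intro c a ha
    constructor
    · intro b b' hb
      obtain ⟨W₁, h₁, s, rfl⟩ := X.presheaf.exists_germ_eq (x := a) b
      obtain ⟨W₂, h₂, s', rfl⟩ := X.presheaf.exists_germ_eq (x := a) b'
      let W := W₁ ⊓ W₂ ⊓ ι ⁻¹ᵁ c.U
      have hW : a ∈ W := ⟨⟨h₁, h₂⟩, ha⟩
      have e1 : W ≤ W₁ := inf_le_left.trans inf_le_left
      have e2 : W ≤ W₂ := inf_le_left.trans inf_le_right
      have e3 : W ≤ ι ⁻¹ᵁ c.U := inf_le_right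
      dsimp only at hb
      rw [← RefX.germ_resR e1 hW s, ← RefX.germ_resR e2 hW s', ← RefX.germ_res L e3 hW (g c),
        ← QCoh.germ_smul', ← QCoh.germ_smul'] at hb
      obtain ⟨W', hW', i, j, hij⟩ := TopCat.Presheaf.germ_eq (C := AddCommGrpCat.{u}) L.presheaf a hW hW _ _ hb
      change AModX.res L i.le _ = AModX.res L j.le _ at hij
      obtain ⟨_, ⟨Q, hQ, rfl⟩, haQ, hQW⟩ := X.isBasis_affineOpens.exists_subset_of_mem_open hW' W'.2
      have hij' := congrArg (AModX.res L (hQW : Q ≤ W')) hij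
      simp only [AModX.res_smul, AModX.res_res] at hij'
      have h3 := (key c ⟨Q, hQ⟩ (((hQW : Q ≤ W').trans i.le).trans e3)).1 hij'
      have h4 := congrArg (X.presheaf.germ Q a haQ) h3
      simpa only [RefX.germ_resR] using h4
    · intro z
      obtain ⟨W, hW, m, rfl⟩ := L.presheaf.exists_germ_eq (x := a) z
      obtain ⟨_, ⟨Q, hQ, rfl⟩, haQ, hQW⟩ :=
        X.isBasis_affineOpens.exists_subset_of_mem_open (show a ∈ W ⊓ ι ⁻¹ᵁ c.U from ⟨hW, ha⟩) (W ⊓ ι ⁻¹ᵁ c.U).2
      obtain ⟨b, hb⟩ := (key c ⟨Q, hQ⟩ ((hQW : Q ≤ W ⊓ ι ⁻¹ᵁ c.U).trans inf_le_right)).2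
        (AModX.res L ((hQW : Q ≤ W ⊓ ι ⁻¹ᵁ c.U).trans inf_le_left) m)
      refine ⟨X.presheaf.germ Q a haQ b, ?_⟩
      show _ • L.presheaf.germ _ a ha (g c) = _
      rw [← RefX.germ_res L ((hQW : Q ≤ W ⊓ ι ⁻¹ᵁ c.U).trans inf_le_right) haQ (g c), ← QCoh.germ_smul']
      exact (congrArg (L.presheaf.germ Q a haQ) hb).trans (RefX.germ_res _ _ haQ m)
  have hgerm : ∀ (c : Chart ι r) (a : X) (ha : ι a ∈ c.U),
      stalkPushEquiv ι L a (((Scheme.Modules.pushforward ι).obj L).presheaf.germ c.U (ι a) ha (g c)) =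
        L.presheaf.germ (ι ⁻¹ᵁ c.U) a ha (g c) := fun c a ha => stalkPushEquiv_germ ι L a c.U ha (g c)
  refine ⟨g, fun c x hx => ⟨fun z => ?_, fun b => ?_⟩, fun c c' x hx hx' C hC => ?_⟩
  · by_cases hr : x ∈ Set.range ι
    · obtain ⟨a, rfl⟩ := hr
      obtain ⟨b, hb⟩ := (hbij c a hx).2 (stalkPushEquiv ι L a z)
      obtain ⟨b', rfl⟩ := ι.stalkMap_surjective a b
      refine ⟨b', (stalkPushEquiv ι L a).injective ?_⟩
      show stalkPushEquiv ι L a (b' • ((Scheme.Modules.pushforward ι).obj L).presheaf.germ c.U (ι a) hx (g c)) = _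
      rw [stalkPushEquiv_smul, hgerm]
      exact hb
    · haveI := H23.ClosedPushLen.subsingleton_stalk (f := ι) L hr
      exact ⟨0, Subsingleton.elim _ _⟩
  · by_cases hr : x ∈ Set.range ι
    · obtain ⟨a, rfl⟩ := hr
      rw [← (stalkPushEquiv ι L a).map_eq_zero_iff, stalkPushEquiv_smul, hgerm, Jst_eq_ker, RingHom.mem_ker]
      exact ⟨fun h => (hbij c a hx).1 (h.trans (zero_smul _ _).symm), fun h => by rw [h, zero_smul]⟩
    · haveI := H23.ClosedPushLen.subsingleton_stalk (f := ι) L hr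
      exact iff_of_true (Subsingleton.elim _ _) (by rw [Jst_eq_top ι hr]; trivial)
  · by_cases hr : x ∈ Set.range ι
    · obtain ⟨a, rfl⟩ := hr
      apply (stalkPushEquiv ι L a).injective
      rw [stalkPushEquiv_smul, hgerm, hgerm]
      obtain ⟨_, ⟨Q, hQ, rfl⟩, haQ, hQW⟩ :=
        X.isBasis_affineOpens.exists_subset_of_mem_open (show a ∈ ι ⁻¹ᵁ c.U ⊓ ι ⁻¹ᵁ c'.U from ⟨hx, hx'⟩)
          (ι ⁻¹ᵁ c.U ⊓ ι ⁻¹ᵁ c'.U).2
      have e1 : Q ≤ ι ⁻¹ᵁ c.U := (hQW : Q ≤ _ ⊓ _).trans inf_le_left
      have e2 : Q ≤ ι ⁻¹ᵁ c'.U := (hQW : Q ≤ _ ⊓ _).trans inf_le_right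
      choose M hM using fun i => (coSec_isFrame ι c Q e1).2 (AModX.res E e2 (coSec ι c' i))
      have hMC : ∀ i, (fun j => X.presheaf.germ Q a haQ (M i j)) = fun j => ι.stalkMap a (C i j) := fun i => by
        refine (coSec_bijective ι c a hx).1 ?_
        have h1 := congrArg (E.presheaf.germ Q a haQ) (hM i)
        rw [RefX.germ_res, H23.Frame.comb, map_sum] at h1
        simp only [QCoh.germ_smul'] at h1
        refine Eq.trans ?_ (h1.trans ?_)
        · exact Finset.sum_congr rfl fun x _ => congrArg (_ • ·)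
            (TopCat.Presheaf.germ_res_apply E.presheaf (homOfLE e1) a haQ (coSec ι c x)).symm
        · exact coSec_eq ι c a hx hx' _ (C i) (by rw [idealSect_choose]; exact hC i)
      have hQg : AModX.res L e2 (g c') = (Matrix.of M).det • AModX.res L e1 (g c) := by
        rw [hres c' ⟨Q, hQ⟩ e2, hres c ⟨Q, hQ⟩ e1]
        have hw : (show Fin r → E.val.obj (op Q) from fun i => AModX.res E e2 (coSec ι c' i)) =
            fun i => ∑ j, (Matrix.of M) i j • (show E.val.obj (op Q) from AModX.res E e1 (coSec ι c j)) :=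
          funext fun i => (hM i).symm
        rw [hw, alt_map_matrix]
        exact map_smul (φ ⟨Q, hQ⟩).symm _ _
      rw [← RefX.germ_res L e2 haQ (g c'), hQg, QCoh.germ_smul', RefX.germ_res]
      refine congrArg (· • _) ?_
      rw [RingHom.map_det, RingHom.map_det]
      exact congrArg Matrix.det (Matrix.ext fun i j => congrFun (hMC i) j)
    · haveI := H23.ClosedPushLen.subsingleton_stalk (f := ι) L hr
      exact Subsingleton.elim _ _

end

end Groth.Agent.ExtShX.Fund
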