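import Groth.Agent.ExtShX.Affine
import Groth.Agent.HomShX.Basic
import Groth.Agent.ChangeRings.Basic
import Groth.Agent.H23.TensorDesc
import Mathlib

/-!
# Local Ext sheaves and finite locally free twists
-/

set_option autoImplicit false
set_option linter.style.haveILetI false
set_option backward.isDefEq.respectTransparency false
set_option backward.isDefEq.respectTransparency.types false

universe u

open CategoryTheory CategoryTheory.Limits AlgebraicGeometry TopologicalSpace Opposite
open scoped TensorProduct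

namespace Groth.Agent.ExtShX

open RefHull (stalkMapₗ)

variable {X : Scheme.{u}} (E : X.Modules)

/-- `(k, θ) ↦ θ(-) k`. -/
noncomputable def rankOneBilin (K : X.Modules) :
    H23.TensorDesc.Bilin K (RefHull.dual E) (RefHull.homSh E K) where
  b _ k θ := HomShX.rankOne θ k
  add_left U k k' θ := RefX.sect_ext fun y => LinearMap.ext fun z => by
    show ((RefX.unitStalk y.1).symm (θ.1 y z)) • (K.presheaf.germ U y.1 y.2) (k + k') =
      ((RefX.unitStalk y.1).symm (θ.1 y z)) • K.presheaf.germ U y.1 y.2 k +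
        ((RefX.unitStalk y.1).symm (θ.1 y z)) • K.presheaf.germ U y.1 y.2 k'
    rw [map_add, smul_add]
  smul_left U r k θ := RefX.sect_ext fun y => LinearMap.ext fun z => by
    rw [RefX.smul_val, LinearMap.smul_apply]
    show ((RefX.unitStalk y.1).symm (θ.1 y z)) • (K.presheaf.germ U y.1 y.2) (r • k) =
      X.presheaf.germ U y.1 y.2 r • ((RefX.unitStalk y.1).symm (θ.1 y z) • K.presheaf.germ U y.1 y.2 k)
    rw [QCoh.germ_smul', smul_comm]
  add_right U k θ θ' := RefX.sect_ext fun y => LinearMap.ext fun z => by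
    show ((RefX.unitStalk y.1).symm (θ.1 y z + θ'.1 y z)) • (K.presheaf.germ U y.1 y.2) k =
      (RefX.unitStalk y.1).symm (θ.1 y z) • K.presheaf.germ U y.1 y.2 k +
        (RefX.unitStalk y.1).symm (θ'.1 y z) • K.presheaf.germ U y.1 y.2 k
    rw [map_add, add_smul]
  smul_right U r k θ := RefX.sect_ext fun y => LinearMap.ext fun z => by
    rw [RefX.smul_val, LinearMap.smul_apply]
    show (RefX.unitStalk y.1).symm ((r • θ).1 y z) • K.presheaf.germ U y.1 y.2 k = _
    rw [RefX.smul_val, LinearMap.smul_apply, map_smul, smul_eq_mul, mul_smul]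
    rfl
  res {U V} h k θ := RefX.sect_ext fun y => LinearMap.ext fun z => by
    refine (LinearMap.congr_fun (RefX.res_val h (HomShX.rankOne θ k) y) z).trans ?_
    show ((RefX.unitStalk y.1).symm (θ.1 ⟨y.1, h y.2⟩ z)) • K.presheaf.germ U y.1 (h y.2) k =
      ((RefX.unitStalk y.1).symm (((RefHull.dual E).presheaf.map (homOfLE h).op θ).1 y z)) •
        K.presheaf.germ V y.1 y.2 (K.presheaf.map (homOfLE h).op k)
    rw [TopCat.Presheaf.germ_res_apply]
    rfl

/-- `K ⊗ E^∨ ⟶ Hom(E, K)`. -/
noncomputable def tenDualHom (K : X.Modules) : CohB1.tensorMod K (RefHull.dual E) ⟶ RefHull.homSh E K :=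
  H23.TensorDesc.desc (rankOneBilin E K)

theorem evalStalk_tenDualHom (K : X.Modules) (x : X) (v : K.presheaf.stalk x)
    (θ : (RefHull.dual E).presheaf.stalk x) :
    RefHull.evalStalk E K x (stalkMapₗ (tenDualHom E K) x (RefX2.stalkTmul K (RefHull.dual E) x (v ⊗ₜ θ))) =
      ((RefX.unitStalk x).symm.toLinearMap.comp (RefHull.evalStalk E (Coh.structureModule X) x θ)).smulRight v := by
  obtain ⟨U, hU, k, rfl⟩ := TopCat.Presheaf.exists_germ_eq K.presheaf v
  obtain ⟨V, hV, g, rfl⟩ := TopCat.Presheaf.exists_germ_eq (RefHull.dual E).presheaf θ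
  have hx : x ∈ U ⊓ V := ⟨hU, hV⟩
  rw [← TopCat.Presheaf.germ_res_apply K.presheaf (homOfLE (inf_le_left : U ⊓ V ≤ U)) x hx k,
    ← TopCat.Presheaf.germ_res_apply (RefHull.dual E).presheaf (homOfLE (inf_le_right : U ⊓ V ≤ V)) x hx g]
  erw [RefX2.stalkTmul_germ]
  rw [RefHull.stalkMapₗ_germ, RefHull.evalStalk_germ]
  refine (congrArg (fun t : Γ(RefHull.homSh E K, U ⊓ V) => t.1 ⟨x, hx⟩)
    (H23.TensorDesc.desc_tmul (rankOneBilin E K) (U ⊓ V) _ _)).trans ?_
  rw [RefHull.evalStalk_germ]
  rfl

variable {E}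

theorem isIso_tenDualHom (hE : FlatMod.IsFinLocFree E) (K : X.Modules) : IsIso (tenDualHom E K) := by
  have hfp := QCoh.isFP_of_isFinLocFree hE
  refine KFlatLib.isIso_of_stalk _ fun x => ?_
  haveI := QCoh.free_stalk_of_isFinLocFree hE x
  haveI := QCoh.finite_stalk_of_isFT (QCoh.isQCoh_of_isFinLocFree hE) (QCoh.isFT_of_isFP hfp) x
  let R := X.presheaf.stalk x
  let Φ : K.presheaf.stalk x ⊗[R] (RefHull.dual E).presheaf.stalk x ≃ₗ[R]
      RefHull.StalkHom E K x :=
    ((TensorProduct.congr (LinearEquiv.refl R _) (RefX.dualStalk hfp x)).trans (TensorProduct.comm R _ _)).trans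
      (dualTensorHomEquiv R (E.presheaf.stalk x) (K.presheaf.stalk x))
  have hΦ : ∀ z, RefHull.evalStalk E K x (stalkMapₗ (tenDualHom E K) x (RefX2.stalkTmul K (RefHull.dual E) x z)) = Φ z := by
    intro z
    induction z using TensorProduct.induction_on with
    | zero => simp
    | tmul v θ =>
      rw [evalStalk_tenDualHom]
      refine LinearMap.ext fun w => ?_
      show _ = dualTensorHom R _ _ ((RefX.dualStalk hfp x θ) ⊗ₜ v) w
      rw [dualTensorHom_apply]
      rfl
    | add a b ha hb => simp only [map_add, ha, hb]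
  refine (ConcreteCategory.isIso_iff_bijective _).2 ?_
  show Function.Bijective (stalkMapₗ (tenDualHom E K) x)
  have hb : Function.Bijective (fun z => RefHull.evalStalk E K x
      (stalkMapₗ (tenDualHom E K) x (RefX2.stalkTmul K (RefHull.dual E) x z))) := by
    rw [funext hΦ]; exact Φ.bijective
  exact (Function.Bijective.of_comp_iff' (RefX.evalStalk_bijective hfp x) _).1
    ((Function.Bijective.of_comp_iff _ (RefX2.stalkTmul_bijective K (RefHull.dual E) x)).1 hb)

theorem nonempty_tensor_dual_iso (hE : FlatMod.IsFinLocFree E) [ModSite.HasSheafHom (O := X.sheaf) E]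
    (K : X.Modules) :
    Nonempty (CohB1.tensorMod K ((ModSite.sheafHom (O := X.sheaf) E).obj (Coh.structureModule X)) ≅
      (ModSite.sheafHom (O := X.sheaf) E).obj K) := by
  haveI := isIso_tenDualHom hE K
  exact ⟨(DCoh.tensorBi.obj K).mapIso (iso E (Coh.structureModule X)) ≪≫ asIso (tenDualHom E K) ≪≫ (iso E K).symm⟩

theorem preservesEpimorphisms_sheafHom (hE : FlatMod.IsFinLocFree E) [ModSite.HasSheafHom (O := X.sheaf) E] :
    (ModSite.sheafHom (O := X.sheaf) E : X.Modules ⥤ X.Modules).PreservesEpimorphisms := by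
  refine ⟨fun {K L} p hp => HomShX.epi_of_stalk _ fun x θ => ?_⟩
  have hfp := QCoh.isFP_of_isFinLocFree hE
  haveI := QCoh.free_stalk_of_isFinLocFree hE x
  haveI : Epi ((DerSch.stalkFunctor X x).map p) := by
    haveI : (DerSch.stalkFunctor X x).Additive := Functor.additive_of_preserves_binary_products _
    let S : ShortComplex X.Modules := ShortComplex.mk (kernel.ι p) p (kernel.condition p)
    have hS : S.ShortExact :=
      { exact := ShortComplex.exact_of_f_is_kernel _ (kernelIsKernel p), epi_g := hp }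
    haveI : PreservesFiniteLimits (DerSch.stalkFunctor X x) := inferInstance
    exact (hS.map_of_exact (DerSch.stalkFunctor X x)).epi_g
  obtain ⟨w, hw⟩ := Module.projective_lifting_property (stalkMapₗ p x) (evL E L x θ)
    ((ModuleCat.epi_iff_surjective ((DerSch.stalkFunctor X x).map p)).1 inferInstance)
  obtain ⟨θ', rfl⟩ := (evL_bijective E hfp K x).2 w
  exact ⟨θ', (evL_bijective E hfp L x).1 ((evL_natural E p x θ').trans hw)⟩

theorem nonempty_extSh_tensor (hE : FlatMod.IsFinLocFree E) (F G : X.Modules)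
    [ModSite.HasSheafHom (O := X.sheaf) E] [ModSite.HasSheafHom (O := X.sheaf) F]
    [ModSite.HasSheafHom (O := X.sheaf) (CohB1.tensorMod F E)] [HasInjectiveResolutions (ModSite.Mod X.sheaf)]
    (q : ℕ) :
    Nonempty ((ModSite.extSh (O := X.sheaf) (CohB1.tensorMod F E) q).obj G ≅
      CohB1.tensorMod ((ModSite.extSh (O := X.sheaf) F q).obj G)
        ((ModSite.sheafHom (O := X.sheaf) E).obj (Coh.structureModule X))) := by
  haveI : HasInjectiveResolutions X.Modules := ‹HasInjectiveResolutions (ModSite.Mod X.sheaf)›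
  haveI : EnoughInjectives X.Modules :=
    SpObjSS.enoughInjectives_of_hasInjectiveResolutions (C := ModSite.Mod X.sheaf)
  let SE : X.Modules ⥤ X.Modules := ModSite.sheafHom (O := X.sheaf) E
  let SF : X.Modules ⥤ X.Modules := ModSite.sheafHom (O := X.sheaf) F
  let S : X.Modules ⥤ X.Modules := ModSite.sheafHom (O := X.sheaf) (CohB1.tensorMod F E)
  haveI : SE.Additive := ModSite.sheafHom_additive X.sheaf E
  haveI : SF.Additive := ModSite.sheafHom_additive X.sheaf F
  haveI : S.Additive := ModSite.sheafHom_additive X.sheaf (CohB1.tensorMod F E)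
  haveI : PreservesFiniteLimits SE := by
    have : PreservesLimitsOfSize.{0, 0} SE :=
      (ModSite.sheafHomAdj (O := X.sheaf) E).rightAdjoint_preservesLimits
    exact ⟨fun _ => inferInstance⟩
  haveI : SE.PreservesEpimorphisms := preservesEpimorphisms_sheafHom hE
  haveI : SE.PreservesHomology := Functor.preservesHomology_of_preservesEpis_and_kernels SE
  haveI : PreservesFiniteColimits SE := Functor.preservesFiniteColimits_of_preservesHomology SE
  let e : S ≅ SF ⋙ SE :=
    (ModSite.sheafHomAdj (O := X.sheaf) (CohB1.tensorMod F E)).rightAdjointUniq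
      (((ModSite.sheafHomAdj (O := X.sheaf) E).comp (ModSite.sheafHomAdj (O := X.sheaf) F)).ofNatIsoLeft
        (ChangeRings.tenTenIso F E))
  obtain ⟨t⟩ := nonempty_tensor_dual_iso hE ((ModSite.extSh (O := X.sheaf) F q).obj G)
  exact ⟨(SiteBase.rightDerivedCongr e q).app G ≪≫ (SiteBase.rightDerivedCompIso SF SE q).app G ≪≫ t.symm⟩

end Groth.Agent.ExtShX
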