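import Groth.Agent.ExtShX.Flasque
import Groth.Agent.ExtShX.SHTensor
import Groth.Agent.ExtShX.TensorFree
import Groth.Agent.LerayEuler.Main
import Groth.Agent.Lib.PnDualExt
import Groth.Agent.Lib.PnDualSheafHom
import Groth.Agent.ChangeRings.Basic
import Groth.Agent.SiteBase.Horseshoe
import Mathlib

/-!
# Global Ext and sections of the local Ext sheaves, when those are acyclic
-/

set_option autoImplicit false
set_option linter.style.haveILetI false
set_option linter.unusedSectionVars false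
set_option backward.isDefEq.respectTransparency false
set_option backward.isDefEq.respectTransparency.types false
set_option maxHeartbeats 1000000

universe u

open CategoryTheory CategoryTheory.Limits AlgebraicGeometry TopologicalSpace Opposite Abelian

noncomputable section

namespace Groth.Agent.ExtShX.GlobalExt

variable {X : Scheme.{u}}

section HT

variable {Y : TopCat.{u}} {T : ShortComplex (CohTop.Ab Y)} (hT : T.ShortExact)

include hT in
theorem ht_exact₂ (n : ℕ) (x : CohTop.H T.X₂ n) (hx : Sheaf.H.map T.g n x = 0) :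
    ∃ y, Sheaf.H.map T.f n y = x :=
  Ext.covariant_sequence_exact₂ _ hT x hx

include hT in
theorem ht_g_surjective (n : ℕ) [Subsingleton (CohTop.H T.X₁ (n + 1))] :
    Function.Surjective (Sheaf.H.map T.g n) := fun x =>
  Ext.covariant_sequence_exact₃ _ hT x rfl (Subsingleton.elim (α := CohTop.H T.X₁ (n + 1)) _ _)

include hT in
theorem ht_subsingleton₂ (n : ℕ) [Subsingleton (CohTop.H T.X₁ n)] [Subsingleton (CohTop.H T.X₃ n)] :
    Subsingleton (CohTop.H T.X₂ n) :=
  subsingleton_of_forall_eq 0 fun x => by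
    obtain ⟨y, rfl⟩ := ht_exact₂ hT n x (Subsingleton.elim (α := CohTop.H T.X₃ n) _ _)
    rw [show y = 0 from Subsingleton.elim (α := CohTop.H T.X₁ n) _ _, map_zero]

include hT in
theorem ht_subsingleton₃ (n : ℕ) [Subsingleton (CohTop.H T.X₂ n)] [Subsingleton (CohTop.H T.X₁ (n + 1))] :
    Subsingleton (CohTop.H T.X₃ n) :=
  subsingleton_of_forall_eq 0 fun x => by
    obtain ⟨y, rfl⟩ := ht_g_surjective hT n x
    rw [show y = 0 from Subsingleton.elim (α := CohTop.H T.X₂ n) _ _, map_zero]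

end HT

section HH

variable {S : ShortComplex X.Modules} (hS : S.ShortExact)
variable {A : Type u} [CommRing A] [X.Over (Spec (CommRingCat.of A))]

/-- The underlying sequence of abelian sheaves. -/
abbrev abSeq (S : ShortComplex X.Modules) : ShortComplex (CohTop.Ab X.toPresheafedSpace.carrier) :=
  S.map (QCoh.toAbFunctor X)

include hS in
theorem hh_exact₂ (n : ℕ) (x : Coh.HH X S.X₂ n) (hx : Canon.HHlin A S.g n x = 0) :
    ∃ y, Canon.HHlin A S.f n y = x :=
  ht_exact₂ (T := abSeq S) (QCoh.toAb_shortExact hS) n x hx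

include hS in
theorem hh_g_surjective (n : ℕ) [h : Subsingleton (Coh.HH X S.X₁ (n + 1))] :
    Function.Surjective (Canon.HHlin A S.g n) :=
  haveI : Subsingleton (CohTop.H (abSeq S).X₁ (n + 1)) := h
  ht_g_surjective (T := abSeq S) (QCoh.toAb_shortExact hS) n

include hS in
theorem hh_subsingleton₂ (n : ℕ) [h₁ : Subsingleton (Coh.HH X S.X₁ n)] [h₃ : Subsingleton (Coh.HH X S.X₃ n)] :
    Subsingleton (Coh.HH X S.X₂ n) :=
  haveI : Subsingleton (CohTop.H (abSeq S).X₁ n) := h₁
  haveI : Subsingleton (CohTop.H (abSeq S).X₃ n) := h₃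
  ht_subsingleton₂ (T := abSeq S) (QCoh.toAb_shortExact hS) n

include hS in
theorem hh_subsingleton₃ (n : ℕ) [h₂ : Subsingleton (Coh.HH X S.X₂ n)] [h₁ : Subsingleton (Coh.HH X S.X₁ (n + 1))] :
    Subsingleton (Coh.HH X S.X₃ n) :=
  haveI : Subsingleton (CohTop.H (abSeq S).X₂ n) := h₂
  haveI : Subsingleton (CohTop.H (abSeq S).X₁ (n + 1)) := h₁
  ht_subsingleton₃ (T := abSeq S) (QCoh.toAb_shortExact hS) n

theorem hhlin_comp {M N K : X.Modules} (f : M ⟶ N) (g : N ⟶ K) (n : ℕ) (x : Coh.HH X M n) :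
    Canon.HHlin A g n (Canon.HHlin A f n x) = Canon.HHlin A (f ≫ g) n x := by
  show (Ext.comp x (Ext.mk₀ _) (add_zero n)).comp (Ext.mk₀ _) (add_zero n) = Ext.comp x (Ext.mk₀ _) (add_zero n)
  rw [Ext.comp_assoc_of_third_deg_zero, Ext.mk₀_comp_mk₀, ← Functor.map_comp]

/-- The linear map on cohomology of an isomorphism. -/
def hhEquiv {M N : X.Modules} (e : M ≅ N) (n : ℕ) : Coh.HH X M n ≃ₗ[A] Coh.HH X N n :=
  LinearEquiv.ofLinear (Canon.HHlin A e.hom n) (Canon.HHlin A e.inv n)
    (LinearMap.ext fun x => by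
      rw [LinearMap.comp_apply, hhlin_comp, e.inv_hom_id]
      show Ext.comp x (Ext.mk₀ _) (add_zero n) = x
      rw [CategoryTheory.Functor.map_id, Ext.comp_mk₀_id])
    (LinearMap.ext fun x => by
      rw [LinearMap.comp_apply, hhlin_comp, e.hom_inv_id]
      show Ext.comp x (Ext.mk₀ _) (add_zero n) = x
      rw [CategoryTheory.Functor.map_id, Ext.comp_mk₀_id])

end HH

theorem exists_linearEquiv_of_ker {R A' B' A'' B'' : Type*} [CommRing R] [AddCommGroup A'] [AddCommGroup B']
    [AddCommGroup A''] [AddCommGroup B''] [Module R A'] [Module R B'] [Module R A''] [Module R B'']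
    (e : A' ≃ₗ[R] B') (a : A' →ₗ[R] A'') (b : B' →ₗ[R] B'') (ha : Function.Surjective a)
    (hb : Function.Surjective b) (h : ∀ x, a x = 0 ↔ b (e x) = 0) :
    Nonempty (A'' ≃ₗ[R] B'') :=
  ⟨(a.quotKerEquivOfSurjective ha).symm.trans
    ((Submodule.Quotient.equiv _ _ e (by
      ext y
      simp only [Submodule.mem_map, LinearMap.mem_ker]
      refine ⟨?_, fun hy => ⟨e.symm y, (h _).2 (by rw [e.apply_symm_apply]; exact hy), e.apply_symm_apply y⟩⟩
      rintro ⟨x, hx, rfl⟩
      exact (h x).1 hx)).trans (b.quotKerEquivOfSurjective hb))⟩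

variable (F : X.Modules) [ModSite.HasSheafHom (O := X.sheaf) F] [HasExt.{u} X.Modules]
  [HasInjectiveResolutions X.Modules] [EnoughInjectives X.Modules]

instance : (SH F).Additive := ModSite.sheafHom_additive X.sheaf F

instance : PreservesFiniteLimits (SH F) := by
  have : PreservesLimitsOfSize.{0, 0} (SH F) := (shAdj F).rightAdjoint_preservesLimits
  exact ⟨fun _ => inferInstance⟩

theorem subsingleton_HH_sheafHom_injective (I : X.Modules) [Injective I] (p : ℕ) :
    Subsingleton (Coh.HH X ((SH F).obj I) (p + 1)) :=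
  LerayEuler.subsingleton_HH_flasque (M := (SH F).obj I)
    { epi := fun {U V} i => (AddCommGrpCat.epi_iff_surjective _).2 fun t =>
        surjective_map_of_injective F I V.unop U.unop i.unop.le t } p

variable {A : Type u} [CommRing A] [X.Over (Spec (CommRingCat.of A))]

/-- Degree zero, naturally. -/
theorem exists_zero_equiv :
    ∃ ε : ∀ N : X.Modules, Ext.{u} F N 0 ≃ₗ[A] Coh.HH X (((SH F).rightDerived 0).obj N) 0,
      ∀ (N N' : X.Modules) (g : N ⟶ N') (x : Ext.{u} F N 0),
        ε N' (x.comp (Ext.mk₀ g) (add_zero 0)) = Canon.HHlin A (((SH F).rightDerived 0).map g) 0 (ε N x) := by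
  let κ : SheafHomX.hom F ≅ (SH F).rightDerived 0 :=
    (ChangeRings.siteHomIso F).symm ≪≫ (SH F).rightDerivedZeroIsoSelf.symm
  let ε₀ : ∀ N : X.Modules, Ext.{u} F N 0 ≃+ Coh.HH X ((SheafHomX.hom F).obj N) 0 := fun N =>
    (Ext.addEquiv₀ (X := F) (Y := N)).trans ((PnDual.homAbEquiv F N).trans Ext.addEquiv₀.symm)
  have hnat : ∀ (N N' : X.Modules) (g : N ⟶ N') (x : Ext.{u} F N 0),
      ε₀ N' (x.comp (Ext.mk₀ g) (add_zero 0)) = Canon.HHlin A ((SheafHomX.hom F).map g) 0 (ε₀ N x) := by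
    intro N N' g x
    obtain ⟨φ, rfl⟩ := (Ext.mk₀_bijective _ _).2 x
    show Ext.mk₀ (PnDual.homAbEquiv F N' (Ext.addEquiv₀ ((Ext.mk₀ φ).comp (Ext.mk₀ g) (add_zero 0)))) =
      Ext.comp (Ext.mk₀ (PnDual.homAbEquiv F N (Ext.addEquiv₀ (Ext.mk₀ φ)))) (Ext.mk₀ _) (add_zero 0)
    have h : ∀ {M : X.Modules} (f : F ⟶ M), Ext.addEquiv₀ (Ext.mk₀ f) = f :=
      fun f => Ext.addEquiv₀.apply_symm_apply f
    rw [Ext.mk₀_comp_mk₀, h, h, PnDual.homAbEquiv_naturality, Ext.mk₀_comp_mk₀]
    rfl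
  let ε₁ : ∀ N : X.Modules, Ext.{u} F N 0 ≃ₗ[A] Coh.HH X ((SheafHomX.hom F).obj N) 0 := fun N =>
    { ε₀ N with
      map_smul' := fun a x => by
        show ε₀ N (a • x) = a • ε₀ N x
        rw [Ext.smul_eq_comp_mk₀, KLin.smul_id, hnat, PnDual.hom_map_smulMod]
        rfl }
  refine ⟨fun N => (ε₁ N).trans (hhEquiv (κ.app N) 0), fun N N' g x => ?_⟩
  show Canon.HHlin A (κ.hom.app N') 0 (ε₀ N' (x.comp (Ext.mk₀ g) (add_zero 0))) =
    Canon.HHlin A (((SH F).rightDerived 0).map g) 0 (Canon.HHlin A (κ.hom.app N) 0 (ε₀ N x))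
  rw [hnat, hhlin_comp, hhlin_comp, κ.hom.naturality]

/-- The acyclicity hypothesis in degrees up to `i`. -/
def Acyclic (G : X.Modules) (i : ℕ) : Prop :=
  ∀ q, q ≤ i → ∀ p, Subsingleton (Coh.HH X (((SH F).rightDerived q).obj G) (p + 1))

theorem nonempty_ext_equiv_sections (i : ℕ) : ∀ G : X.Modules, Acyclic F G i →
    Nonempty (Ext.{u} F G i ≃ₗ[A] Coh.HH X (((SH F).rightDerived i).obj G) 0) := by
  obtain ⟨ε, hε⟩ := exists_zero_equiv F (A := A)
  induction i with
  | zero => exact fun G _ => ⟨ε G⟩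
  | succ i ih =>
    intro G hG
    let S := SiteBase.effSES G
    have hS : S.ShortExact := SiteBase.effSES_shortExact G
    haveI hI : Injective S.X₂ := SiteBase.injective_effSES G
    haveI := hS.mono_f
    haveI := hS.epi_g
    let L := SESResLib.derivedLES (SH F)
    let R := fun q => (SH F).rightDerived q
    have hI₀ : ∀ q, IsZero ((R (q + 1)).obj S.X₂) := fun q => (SH F).isZero_rightDerived_obj_injective_succ q _
    haveI hEI : ∀ q, Subsingleton (Ext.{u} F S.X₂ (q + 1)) := fun q => Ext.subsingleton_of_injective _ _ q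
    -- the degree zero part of the long exact sequence, in two short ones
    let d := L.δ S hS 0 1 rfl
    haveI : Epi d := (L.exact₁ S hS 0 1 rfl).epi_f ((hI₀ 0).eq_of_tgt _ _)
    let K := kernel d
    let g₀ : (R 0).obj S.X₂ ⟶ K := kernel.lift d ((R 0).map S.g) (L.comp_δ S hS 0 1 rfl)
    haveI : Mono ((R 0).map S.f) := by
      haveI : Mono ((SH F).map S.f) := inferInstance
      exact ((MorphismProperty.monomorphisms X.Modules).arrow_mk_iso_iff
        (((Functor.mapArrowFunctor _ _).mapIso (SH F).rightDerivedZeroIsoSelf).app (Arrow.mk S.f))).2 ‹_›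
    haveI : Epi g₀ := (L.exact₃ S hS 0 1 rfl).epi_kernelLift
    let T₁ : ShortComplex X.Modules := ShortComplex.mk ((R 0).map S.f) g₀ (by
      rw [← cancel_mono (kernel.ι d), Category.assoc, kernel.lift_ι, ← Functor.map_comp, S.zero,
        Functor.map_zero, zero_comp])
    have hT₁ : T₁.ShortExact :=
      { exact := by
          let φ : T₁ ⟶ ShortComplex.mk ((R 0).map S.f) ((R 0).map S.g)
              (by rw [← Functor.map_comp, S.zero, Functor.map_zero]) :=
            { τ₁ := 𝟙 _, τ₂ := 𝟙 _, τ₃ := kernel.ι d,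
              comm₁₂ := (Category.id_comp _).trans (Category.comp_id _).symm
              comm₂₃ := (Category.id_comp _).trans (kernel.lift_ι _ _ _).symm }
          haveI : Epi φ.τ₁ := inferInstanceAs (Epi (𝟙 _))
          haveI : IsIso φ.τ₂ := inferInstanceAs (IsIso (𝟙 _))
          haveI : Mono φ.τ₃ := inferInstanceAs (Mono (kernel.ι d))
          exact (ShortComplex.exact_iff_of_epi_of_isIso_of_mono φ).2 (L.exact₂ S hS 0)
        mono_f := ‹_›
        epi_g := ‹_› }
    let T₂ : ShortComplex X.Modules := ShortComplex.mk (kernel.ι d) d (kernel.condition d)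
    have hT₂ : T₂.ShortExact := { exact := ShortComplex.exact_of_f_is_kernel _ (kernelIsKernel d) }
    haveI hG0 : ∀ p, Subsingleton (Coh.HH X T₁.X₁ (p + 1)) := fun p => hG 0 (Nat.zero_le _) p
    haveI hI2 : ∀ p, Subsingleton (Coh.HH X T₁.X₂ (p + 1)) := fun p => by
      haveI := subsingleton_HH_sheafHom_injective F S.X₂ p
      exact (hhEquiv (A := A) ((SH F).rightDerivedZeroIsoSelf.app S.X₂) (p + 1)).toEquiv.subsingleton
    haveI hK : ∀ p, Subsingleton (Coh.HH X T₁.X₃ (p + 1)) := fun p => hh_subsingleton₃ hT₁ (p + 1)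
    have hQ0 : ∀ p, Subsingleton (Coh.HH X ((R 0).obj S.X₃) (p + 1)) := fun p => by
      haveI : Subsingleton (Coh.HH X T₂.X₁ (p + 1)) := hK p
      haveI : Subsingleton (Coh.HH X T₂.X₃ (p + 1)) := hG 1 (by omega) p
      exact hh_subsingleton₂ hT₂ (p + 1)
    have hshift : ∀ q, IsIso (L.δ S hS (q + 1) (q + 1 + 1) rfl) := fun q => by
      haveI : Mono (L.δ S hS (q + 1) (q + 1 + 1) rfl) :=
        (L.exact₃ S hS (q + 1) (q + 1 + 1) rfl).mono_g ((hI₀ q).eq_of_src _ _)
      haveI : Epi (L.δ S hS (q + 1) (q + 1 + 1) rfl) :=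
        (L.exact₁ S hS (q + 1) (q + 1 + 1) rfl).epi_f ((hI₀ (q + 1)).eq_of_tgt _ _)
      exact isIso_of_mono_of_epi _
    have hQ : Acyclic F S.X₃ i := fun q hq p => by
      rcases q with _ | q
      · exact hQ0 p
      · haveI := hshift q
        haveI : Subsingleton (Coh.HH X ((R (q + 1 + 1)).obj S.X₁) (p + 1)) := hG (q + 1 + 1) (by omega) p
        exact (hhEquiv (A := A) (asIso (L.δ S hS (q + 1) (q + 1 + 1) rfl)) (p + 1)).toEquiv.subsingleton
    let a : Ext.{u} F S.X₃ i →ₗ[A] Ext.{u} F S.X₁ (i + 1) :=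
      Ext.postcompOfLinear hS.extClass A F rfl
    have ha : Function.Surjective a := fun z =>
      Ext.covariant_sequence_exact₁ F hS z ((hEI i).elim _ _) rfl
    rcases i with _ | i
    · let b : Coh.HH X ((R 0).obj S.X₃) 0 →ₗ[A] Coh.HH X ((R 1).obj S.X₁) 0 := Canon.HHlin A d 0
      haveI : Subsingleton (Coh.HH X T₂.X₁ (0 + 1)) := hK 0
      have hb : Function.Surjective b := hh_g_surjective hT₂ 0
      refine exists_linearEquiv_of_ker (ε S.X₃) a b ha hb fun x => ⟨fun hx => ?_, fun hx => ?_⟩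
      · obtain ⟨y, hy⟩ := Ext.covariant_sequence_exact₃ F hS x rfl hx
        rw [← hy, hε]
        show Canon.HHlin A d 0 (Canon.HHlin A ((R 0).map S.g) 0 (ε S.X₂ y)) = 0
        rw [hhlin_comp, L.comp_δ S hS 0 1 rfl]
        show Ext.comp (ε S.X₂ y) (Ext.mk₀ _) (add_zero 0) = 0
        rw [Functor.map_zero, Ext.mk₀_zero, Ext.comp_zero]
      · obtain ⟨y, hy⟩ := hh_exact₂ hT₂ (A := A) 0 (ε S.X₃ x) hx
        haveI : Subsingleton (Coh.HH X T₁.X₁ (0 + 1)) := hG0 0
        obtain ⟨z, rfl⟩ := hh_g_surjective hT₁ (A := A) 0 y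
        obtain ⟨w, rfl⟩ := (ε S.X₂).surjective z
        have h2 : ε S.X₃ x = ε S.X₃ (w.comp (Ext.mk₀ S.g) (add_zero 0)) := by
          rw [hε, ← hy]
          exact (hhlin_comp g₀ (kernel.ι d) 0 _).trans
            (congrArg (fun t => Canon.HHlin A t 0 (ε S.X₂ w)) (kernel.lift_ι _ _ _))
        rw [(ε S.X₃).injective h2]
        show (w.comp (Ext.mk₀ S.g) (add_zero 0)).comp hS.extClass rfl = 0
        rw [Ext.comp_assoc_of_second_deg_zero, hS.comp_extClass, Ext.comp_zero]
    · obtain ⟨e⟩ := ih S.X₃ hQ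
      have ha' : Function.Injective a := (injective_iff_map_eq_zero _).2 fun x hx => by
        obtain ⟨y, rfl⟩ := Ext.covariant_sequence_exact₃ F hS x rfl hx
        rw [show y = 0 from (hEI i).elim _ _, Ext.zero_comp]
      haveI := hshift i
      exact ⟨(LinearEquiv.ofBijective a ⟨ha', ha⟩).symm.trans (e.trans
        (hhEquiv (A := A) (asIso (L.δ S hS (i + 1) (i + 1 + 1) rfl)) 0))⟩

end Groth.Agent.ExtShX.GlobalExt
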