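import Groth.Agent.RGLib.SmoothRegIdeal
import Mathlib

/-!
# Coordinates adapted to a smooth closed subscheme: the algebra
-/

set_option autoImplicit false
set_option maxHeartbeats 1600000
set_option linter.style.haveILetI false
set_option backward.isDefEq.respectTransparency false
set_option backward.isDefEq.respectTransparency.types false

universe u

open TensorProduct IsLocalRing

noncomputable section

namespace Groth.Agent.ExtShX.Adapt

open Groth.Agent.RGLib

/-- A minimal family of generators of a finitely generated ideal at a prime. -/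
theorem exists_minimal_gens {B : Type u} [CommRing B] (J : Ideal B) (hJ : J.FG) (q : Ideal B) [q.IsPrime] :
    ∃ (r : ℕ) (g : Fin r → B), (∀ i, g i ∈ J) ∧
      J.map (algebraMap B (Localization.AtPrime q)) =
        Ideal.span (Set.range fun i => algebraMap B (Localization.AtPrime q) (g i)) ∧
      r = Module.finrank q.ResidueField (q.ResidueField ⊗[B] J) := by
  classical
  let Bq := Localization.AtPrime q
  let k := q.ResidueField
  haveI : Module.Finite B J := Module.Finite.iff_fg.2 hJ
  let w : J → k ⊗[B] J := fun x => 1 ⊗ₜ x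
  have hw : Submodule.span k (Set.range w) = ⊤ := by
    refine eq_top_iff.2 fun z _ => ?_
    induction z using TensorProduct.induction_on with
    | zero => exact zero_mem _
    | add a b ha hb => exact add_mem (ha trivial) (hb trivial)
    | tmul c x =>
      rw [show c ⊗ₜ[B] x = c • w x by rw [TensorProduct.smul_tmul', smul_eq_mul, mul_one]]
      exact Submodule.smul_mem _ _ (Submodule.subset_span ⟨x, rfl⟩)
  obtain ⟨κ, a, ha, hsp, hli⟩ := exists_linearIndependent' k w
  rw [hw] at hsp
  let bas : Module.Basis κ k (k ⊗[B] J) := Module.Basis.mk hli hsp.ge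
  haveI : Finite κ := Module.Finite.finite_basis bas
  haveI := Fintype.ofFinite κ
  let r := Fintype.card κ
  let e := Fintype.equivFin κ
  let g : Fin r → B := fun i => ((a (e.symm i) : J) : B)
  refine ⟨r, g, fun i => (a (e.symm i)).2, ?_, (Module.finrank_eq_card_basis bas).symm⟩
  let Jq : Ideal Bq := J.map (algebraMap B Bq)
  let N := Ideal.span (Set.range fun i => algebraMap B Bq (g i))
  have hN : N ≤ Jq := Ideal.span_le.2 (by rintro _ ⟨i, rfl⟩; exact Ideal.mem_map_of_mem _ (a (e.symm i)).2)
  refine le_antisymm ?_ hN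
  have hfg : Jq.FG := hJ.map _
  refine Submodule.le_of_le_smul_of_le_jacobson_bot hfg (IsLocalRing.maximalIdeal_le_jacobson _) ?_
  refine Ideal.map_le_iff_le_comap.2 fun x hx => ?_
  let θ : J →ₗ[B] k ⊗[Bq] Jq :=
    { toFun := fun y => 1 ⊗ₜ (⟨algebraMap B Bq y, Ideal.mem_map_of_mem _ y.2⟩ : Jq)
      map_add' := fun y y' => by
        rw [← TensorProduct.tmul_add]
        congr 1
        exact Subtype.ext (map_add _ _ _)
      map_smul' := fun b y => by
        rw [RingHom.id_apply, ← algebraMap_smul Bq b ((1 : k) ⊗ₜ[Bq] _), ← TensorProduct.tmul_smul]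
        congr 1
        exact Subtype.ext (map_mul _ _ _) }
  let c := bas.repr (w ⟨x, hx⟩)
  choose cc hcc using fun l => Jacobian.surjective_residueField q (c l)
  let y : Bq := ∑ l, cc l * algebraMap B Bq ((a l : J) : B)
  have hy : y ∈ N := sum_mem fun l _ => N.mul_mem_left _ (Ideal.subset_span ⟨e l, by simp [g]⟩)
  have h1 := congrArg (θ.liftBaseChange k) (bas.sum_repr (w ⟨x, hx⟩))
  simp only [bas, Module.Basis.mk_apply, map_sum, map_smul, Function.comp_apply, w, LinearMap.liftBaseChange_tmul,
    one_smul] at h1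
  have h2 : (1 : k) ⊗ₜ[Bq] (⟨algebraMap B Bq x - y,
      sub_mem (Ideal.mem_map_of_mem _ hx) (hN hy)⟩ : Jq) = 0 := by
    rw [show (⟨algebraMap B Bq x - y, sub_mem (Ideal.mem_map_of_mem _ hx) (hN hy)⟩ : Jq) =
        ⟨algebraMap B Bq x, Ideal.mem_map_of_mem _ hx⟩ -
          ∑ l, cc l • (⟨algebraMap B Bq ((a l : J) : B), Ideal.mem_map_of_mem _ (a l).2⟩ : Jq) from
      Subtype.ext (by simp [y]), TensorProduct.tmul_sub, TensorProduct.tmul_sum, sub_eq_zero]
    refine h1.symm.trans (Finset.sum_congr rfl fun l _ => ?_)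
    show c l • θ (a l) = _
    rw [← hcc l, algebraMap_smul, TensorProduct.tmul_smul]
    rfl
  have h3 := Jacobian.mem_smul_of_tmul_eq_zero h2
  have h4 := Submodule.mem_map_of_mem (f := Submodule.subtype Jq) h3
  rw [Submodule.map_smul'', Submodule.map_top, Submodule.range_subtype] at h4
  show algebraMap B Bq x ∈ N ⊔ maximalIdeal Bq • Jq
  rw [show algebraMap B Bq x = y + (algebraMap B Bq x - y) by ring]
  exact add_mem (Submodule.mem_sup_left hy) (Submodule.mem_sup_right h4)

/-- Near a common point of smoothness, coordinates adapted to the closed subscheme. -/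
theorem exists_adapted {A B : Type u} [CommRing A] [CommRing B] [Algebra A B] [Algebra.FinitePresentation A B]
    (J : Ideal B) (hJ : J.FG) (q : Ideal B) [q.IsPrime] (hJq : J ≤ q) [Algebra.IsSmoothAt A q]
    (Q : Ideal (B ⧸ J)) [Q.IsPrime] (hQ : Q.comap (Ideal.Quotient.mk J) = q) [Algebra.IsSmoothAt A Q] :
    ∃ (f : B) (_ : f ∉ q), ∀ (C : Type u) [CommRing C] [Algebra A C] [Algebra B C] [IsScalarTower A B C]
      [IsLocalization.Away f C],
      ∃ (r m : ℕ) (t : Fin r → C) (s : Fin m → C),
        RingTheory.Sequence.IsWeaklyRegular C (List.ofFn t) ∧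
        J.map (algebraMap B C) = Ideal.span (Set.range t) ∧
        ∃ β : Module.Basis (Fin r ⊕ Fin m) C Ω[C⁄A], ∀ j, β j = KaehlerDifferential.D A C (Sum.elim t s j) := by
  classical
  obtain ⟨r, g, hg, hgen, hmin⟩ := exists_minimal_gens J hJ q
  obtain ⟨f, hf, m, g', het, hJf⟩ := EtaleCoord.exists_coords (A := A) J hJ q hJq Q hQ r g hg hgen hmin
  refine ⟨f, hf, fun C _ _ _ _ _ => ?_⟩
  let Bf := Localization.Away f
  let e : Bf ≃ₐ[B] C := IsLocalization.algEquiv (Submonoid.powers f) Bf C
  let t : Fin r → C := fun i => algebraMap B C (g i)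
  let s : Fin m → C := fun k => e (g' k)
  let P := MvPolynomial (Fin r ⊕ Fin m) A
  let φ : P →ₐ[A] C := MvPolynomial.aeval (Sum.elim t s)
  have hφ : φ.toRingHom = (e : Bf →+* C).comp
      (MvPolynomial.aeval (Sum.elim (fun i => algebraMap B Bf (g i)) g') : P →ₐ[A] Bf).toRingHom := by
    refine MvPolynomial.ringHom_ext (fun a => ?_) fun j => ?_
    · exact (φ.commutes a).trans ((((e.restrictScalars A).commutes a).symm).trans
        (congrArg e (AlgHom.commutes (MvPolynomial.aeval _ : P →ₐ[A] Bf) a).symm))
    · refine (MvPolynomial.aeval_X (R := A) _ j).trans (Eq.trans ?_ (congrArg e (MvPolynomial.aeval_X (R := A) _ j).symm))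
      cases j with
      | inl i => exact (e.commutes (g i)).symm
      | inr k => rfl
  letI : Algebra P C := φ.toRingHom.toAlgebra
  haveI : IsScalarTower A P C := IsScalarTower.of_algebraMap_eq fun a => (φ.commutes a).symm
  haveI : Algebra.Etale P C := by
    have h : φ.toRingHom.Etale := by
      rw [hφ]
      exact RingHom.Etale.stableUnderComposition _ _ het (RingHom.Etale.of_bijective e.bijective)
    exact h
  refine ⟨r, m, t, s, ?_, ?_, ?_⟩
  · have h := RingTheory.Sequence.IsWeaklyRegular.of_flat (S := C)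
      (SmoothRegIdeal.isWeaklyRegular_X_comp A (Sum.inl : Fin r → Fin r ⊕ Fin m) Sum.inl_injective)
    rw [List.map_ofFn] at h
    refine (congrArg _ (congrArg List.ofFn (funext fun i => ?_))).mp h
    exact MvPolynomial.aeval_X (R := A) _ (Sum.inl i)
  · have h := congrArg (Ideal.map (e : Bf →+* C)) hJf
    rw [Ideal.map_map, Ideal.map_span, ← Set.range_comp] at h
    refine Eq.trans ?_ (h.trans ?_)
    · congr 1
      exact RingHom.ext fun b => (e.commutes b).symm
    · congr 2
      funext i
      exact e.commutes (g i)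
  · let γ : Module.Basis (Fin r ⊕ Fin m) C (C ⊗[P] Ω[P⁄A]) :=
      (KaehlerDifferential.mvPolynomialBasis A (Fin r ⊕ Fin m)).baseChange C
    refine ⟨γ.map (KaehlerDifferential.tensorKaehlerEquivOfFormallyEtale A P C), fun j => ?_⟩
    rw [Module.Basis.map_apply]
    show KaehlerDifferential.mapBaseChange A P C (γ j) = _
    rw [Module.Basis.baseChange_apply, KaehlerDifferential.mvPolynomialBasis_apply]
    refine (KaehlerDifferential.mapBaseChange_tmul A P C 1 _).trans ?_
    rw [one_smul, KaehlerDifferential.map_D]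
    exact congrArg _ (MvPolynomial.aeval_X (R := A) _ j)

/-- `exists_adapted` for a surjection between smooth algebras. -/
theorem exists_adapted_of_surjective {A B D : Type u} [CommRing A] [CommRing B] [CommRing D] [Algebra A B]
    [Algebra A D] [Algebra B D] [IsScalarTower A B D] [Algebra.Smooth A B] [Algebra.Smooth A D]
    (hsurj : Function.Surjective (algebraMap B D)) (q : Ideal B) [q.IsPrime]
    (hq : RingHom.ker (algebraMap B D) ≤ q) :
    ∃ (f : B) (_ : f ∉ q), ∀ (C : Type u) [CommRing C] [Algebra A C] [Algebra B C] [IsScalarTower A B C]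
      [IsLocalization.Away f C],
      ∃ (r m : ℕ) (t : Fin r → C) (s : Fin m → C),
        RingTheory.Sequence.IsWeaklyRegular C (List.ofFn t) ∧
        (RingHom.ker (algebraMap B D)).map (algebraMap B C) = Ideal.span (Set.range t) ∧
        ∃ β : Module.Basis (Fin r ⊕ Fin m) C Ω[C⁄A], ∀ j, β j = KaehlerDifferential.D A C (Sum.elim t s j) := by
  let J := RingHom.ker (algebraMap B D)
  let π : B →ₐ[A] D := IsScalarTower.toAlgHom A B D
  have hJfg : J.FG := Algebra.FinitePresentation.ker_fG_of_surjective π hsurj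
  haveI : Algebra.Smooth A (B ⧸ J) := Algebra.Smooth.of_equiv (Ideal.quotientKerAlgEquivOfSurjective (f := π) hsurj).symm
  let Q : Ideal (B ⧸ J) := q.map (Ideal.Quotient.mk J)
  haveI : Q.IsPrime := Ideal.map_isPrime_of_surjective Ideal.Quotient.mk_surjective (by rwa [Ideal.mk_ker])
  have hQ : Q.comap (Ideal.Quotient.mk J) = q := by
    rw [Ideal.comap_map_of_surjective _ Ideal.Quotient.mk_surjective, ← RingHom.ker_eq_comap_bot, Ideal.mk_ker]
    exact sup_eq_left.2 hq
  haveI : Algebra.IsSmoothAt A q :=
    haveI : Algebra.FormallyEtale B (Localization.AtPrime q) := Algebra.FormallyEtale.of_isLocalization q.primeCompl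
    Algebra.FormallySmooth.comp A B _
  haveI : Algebra.IsSmoothAt A Q :=
    haveI : Algebra.FormallyEtale (B ⧸ J) (Localization.AtPrime Q) :=
      Algebra.FormallyEtale.of_isLocalization Q.primeCompl
    Algebra.FormallySmooth.comp A (B ⧸ J) _
  exact exists_adapted J hJfg q hq Q hQ

/-- The differentials of the quotient by the first coordinates. -/
theorem exists_basis_quot {A C D : Type u} [CommRing A] [CommRing C] [CommRing D] [Algebra A C] [Algebra A D]
    [Algebra C D] [IsScalarTower A C D] (hsurj : Function.Surjective (algebraMap C D)) {r m : ℕ}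
    (t : Fin r → C) (s : Fin m → C) (hker : RingHom.ker (algebraMap C D) = Ideal.span (Set.range t))
    (β : Module.Basis (Fin r ⊕ Fin m) C Ω[C⁄A]) (hβ : ∀ j, β j = KaehlerDifferential.D A C (Sum.elim t s j)) :
    ∃ γ : Module.Basis (Fin m) D Ω[D⁄A], ∀ k, γ k = KaehlerDifferential.D A D (algebraMap C D (s k)) := by
  classical
  let bD := β.baseChange D
  let μ := KaehlerDifferential.mapBaseChange A C D
  have hbD : ∀ j, bD j = (1 : D) ⊗ₜ[C] KaehlerDifferential.D A C (Sum.elim t s j) := fun j => by
    rw [Module.Basis.baseChange_apply, hβ]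
  have hμ : ∀ c : C, μ ((1 : D) ⊗ₜ[C] KaehlerDifferential.D A C c) = KaehlerDifferential.D A D (algebraMap C D c) :=
    fun c => by
      rw [KaehlerDifferential.mapBaseChange_tmul, one_smul, KaehlerDifferential.map_D]
  have ht : ∀ i, algebraMap C D (t i) = 0 := fun i => by
    rw [← RingHom.mem_ker, hker]; exact Ideal.subset_span ⟨i, rfl⟩
  have hinl : ∀ i, μ (bD (Sum.inl i)) = 0 := fun i => by rw [hbD, hμ]; simp [ht]
  have hinr : ∀ k, μ (bD (Sum.inr k)) = KaehlerDifferential.D A D (algebraMap C D (s k)) := fun k => by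
    rw [hbD, hμ]; rfl
  have hkerμ : LinearMap.ker μ ≤ Submodule.span D (Set.range fun i => bD (Sum.inl i)) := by
    intro z hz
    obtain ⟨x, rfl⟩ := (KaehlerDifferential.exact_kerCotangentToTensor_mapBaseChange A C D hsurj z).1 hz
    obtain ⟨⟨y, hy⟩, rfl⟩ := Ideal.toCotangent_surjective _ x
    rw [KaehlerDifferential.kerCotangentToTensor_toCotangent]
    show (1 : D) ⊗ₜ[C] KaehlerDifferential.D A C y ∈ _
    rw [hker] at hy
    obtain ⟨c, rfl⟩ := (Ideal.mem_span_range_iff_exists_fun).1 hy
    rw [map_sum, TensorProduct.tmul_sum]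
    refine sum_mem fun i _ => ?_
    rw [Derivation.leibniz, TensorProduct.tmul_add, ← TensorProduct.smul_tmul, ← TensorProduct.smul_tmul,
      Algebra.smul_def, Algebra.smul_def, mul_one, mul_one, ht, TensorProduct.zero_tmul, add_zero,
      show (algebraMap C D (c i)) ⊗ₜ[C] KaehlerDifferential.D A C (t i) = algebraMap C D (c i) • bD (Sum.inl i) by
        rw [hbD, TensorProduct.smul_tmul', smul_eq_mul, mul_one]; rfl]
    exact Submodule.smul_mem _ _ (Submodule.subset_span ⟨i, rfl⟩)
  have hli : LinearIndependent D fun k => KaehlerDifferential.D A D (algebraMap C D (s k)) := by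
    refine Fintype.linearIndependent_iff.2 fun c hc k => ?_
    have h0 : μ (∑ k, c k • bD (Sum.inr k)) = 0 := by
      simp only [map_sum, map_smul, hinr]; exact hc
    obtain ⟨d, hd⟩ := (Submodule.mem_span_range_iff_exists_fun _).1 (hkerμ h0)
    have h1 : ∑ j, Sum.elim (fun i => -d i) c j • bD j = 0 := by
      rw [Fintype.sum_sum_type]
      simp only [Sum.elim_inl, Sum.elim_inr]
      rw [← hd, ← Finset.sum_add_distrib]
      exact Finset.sum_eq_zero fun i _ => by rw [← add_smul, neg_add_cancel, zero_smul]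
    exact Fintype.linearIndependent_iff.1 bD.linearIndependent _ h1 (Sum.inr k)
  have hsp : ⊤ ≤ Submodule.span D (Set.range fun k => KaehlerDifferential.D A D (algebraMap C D (s k))) := by
    intro z _
    obtain ⟨w, rfl⟩ := KaehlerDifferential.mapBaseChange_surjective A C D hsurj z
    rw [← bD.sum_repr w, map_sum, Fintype.sum_sum_type]
    simp only [map_smul]
    refine add_mem (sum_mem fun i _ => ?_) (sum_mem fun k _ => ?_)
    · rw [hinl, smul_zero]; exact zero_mem _
    · rw [hinr]; exact Submodule.smul_mem _ _ (Submodule.subset_span ⟨k, rfl⟩)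
  exact ⟨Module.Basis.mk hli hsp, fun k => Module.Basis.mk_apply hli hsp k⟩

end Groth.Agent.ExtShX.Adapt
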