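import Mathlib

/-!
# The first nonzero derived functor of a right adjoint, and global Ext
-/

set_option autoImplicit false
set_option linter.style.haveILetI false
set_option maxHeartbeats 1000000
set_option backward.isDefEq.respectTransparency false
set_option backward.isDefEq.respectTransparency.types false

universe w v v' u u'

open CategoryTheory CategoryTheory.Limits CategoryTheory.Abelian

noncomputable section

namespace Groth.Agent.ExtShX

section Complex

variable {B : Type u'} [Category.{v'} B] [Abelian B] (K : CochainComplex B ℕ) [∀ i, Injective (K.X i)]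

/-- Below the first cohomology, the differentials are split. -/
theorem exists_split_d (c : ℕ) (hvan : ∀ i, i < c → IsZero (K.homology i)) :
    ∀ i, i < c → ∃ h : K.X (i + 1) ⟶ K.X i, K.d i (i + 1) ≫ h ≫ K.d i (i + 1) = K.d i (i + 1) := by
  intro i
  induction i with
  | zero =>
    intro hi
    have hex : (K.sc' 0 0 1).Exact := (K.exactAt_iff' 0 0 1 (CochainComplex.prev_nat_zero) (by simp)).1
      ((K.exactAt_iff_isZero_homology 0).2 (hvan 0 hi))
    have hf : (K.sc' 0 0 1).f ≫ 𝟙 (K.X 0) = 0 := (Category.comp_id _).trans (K.shape _ _ (by simp))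
    let g : K.X 1 ⟶ K.X 0 := hex.descToInjective (𝟙 (K.X 0)) hf
    have hg : K.d 0 1 ≫ g = 𝟙 _ := hex.comp_descToInjective (𝟙 (K.X 0)) hf
    exact ⟨g, by rw [← Category.assoc, hg, Category.id_comp]⟩
  | succ i ih =>
    intro hi
    obtain ⟨h, hh⟩ := ih (Nat.lt_of_succ_lt hi)
    have hex : (K.sc' i (i + 1) (i + 2)).Exact := (K.exactAt_iff' i (i + 1) (i + 2) (by simp) (by simp)).1
      ((K.exactAt_iff_isZero_homology (i + 1)).2 (hvan (i + 1) hi))
    let e : K.X (i + 1) ⟶ K.X (i + 1) := 𝟙 _ - h ≫ K.d i (i + 1)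
    have hf : (K.sc' i (i + 1) (i + 2)).f ≫ e = 0 := by
      show K.d i (i + 1) ≫ e = 0
      rw [Preadditive.comp_sub, Category.comp_id, hh, sub_self]
    let g : K.X (i + 2) ⟶ K.X (i + 1) := hex.descToInjective e hf
    have hg : K.d (i + 1) (i + 2) ≫ g = e := hex.comp_descToInjective e hf
    refine ⟨g, ?_⟩
    show K.d (i + 1) (i + 2) ≫ g ≫ K.d (i + 1) (i + 2) = _
    rw [← Category.assoc, hg, Preadditive.sub_comp, Category.id_comp, Category.assoc, K.d_comp_d, comp_zero,
      sub_zero]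

/-- The first cohomology is a direct summand of the cycles, with split complement. -/
theorem exists_section_homology (j : ℕ) (hvan : ∀ i, i < j + 1 → IsZero (K.homology i)) :
    ∃ s : K.homology (j + 1) ⟶ K.cycles (j + 1), s ≫ K.homologyπ (j + 1) = 𝟙 _ ∧
      ∀ {G : B} (w : G ⟶ K.cycles (j + 1)), w ≫ K.homologyπ (j + 1) = 0 →
        ∃ g : G ⟶ K.X j, g ≫ K.d j (j + 1) = w ≫ K.iCycles (j + 1) := by
  obtain ⟨h, hh⟩ := exists_split_d K (j + 1) hvan j (Nat.lt_succ_self j)
  let p : K.cycles (j + 1) ⟶ K.cycles (j + 1) := 𝟙 _ - K.iCycles (j + 1) ≫ h ≫ K.toCycles j (j + 1)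
  have hp : K.toCycles j (j + 1) ≫ p = 0 := by
    rw [Preadditive.comp_sub, Category.comp_id, sub_eq_zero, ← cancel_mono (K.iCycles (j + 1))]
    simp only [Category.assoc, HomologicalComplex.toCycles_i, HomologicalComplex.toCycles_i_assoc]
    exact hh.symm
  let hc := K.homologyIsCokernel j (j + 1) (by simp)
  let s : K.homology (j + 1) ⟶ K.cycles (j + 1) := hc.desc (CokernelCofork.ofπ p hp)
  have hs : K.homologyπ (j + 1) ≫ s = p := hc.fac (CokernelCofork.ofπ p hp) WalkingParallelPair.one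
  refine ⟨s, ?_, fun {G} w hw => ⟨w ≫ K.iCycles (j + 1) ≫ h, ?_⟩⟩
  · rw [← cancel_epi (K.homologyπ (j + 1)), ← Category.assoc, hs, Category.comp_id, Preadditive.sub_comp,
      Category.id_comp, Category.assoc, Category.assoc, HomologicalComplex.toCycles_comp_homologyπ, comp_zero,
      comp_zero, sub_zero]
  · have h0 : w ≫ p = 0 := by rw [← hs, reassoc_of% hw, zero_comp]
    rw [Preadditive.comp_sub, Category.comp_id, sub_eq_zero] at h0
    conv_rhs => rw [h0]
    simp only [Category.assoc, HomologicalComplex.toCycles_i]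

end Complex

variable {A : Type u} [Category.{v} A] [Abelian A] [EnoughInjectives A] [HasExt.{w} A]
  {B : Type u'} [Category.{v'} B] [Abelian B] {L : B ⥤ A} {R : A ⥤ B} (adj : L ⊣ R) [R.Additive]

include adj in
/-- If the derived functors of a right adjoint of an exact functor vanish on `M` below degree `c`, then
`Hom(G, R^c M) = Ext^c(L G, M)` is given by a universal class. -/
theorem exists_edgeClass [L.PreservesMonomorphisms] (M : A) (c : ℕ)
    (hvan : ∀ i, i < c → IsZero ((R.rightDerived i).obj M)) {ω : B} (eω : (R.rightDerived c).obj M ≅ ω) :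
    ∃ e₀ : Ext (L.obj ω) M c, ∀ G : B,
      Function.Bijective fun φ : G ⟶ ω => (Ext.mk₀ (L.map φ)).comp e₀ (zero_add c) := by
  haveI : R.IsRightAdjoint := adj.isRightAdjoint
  haveI : L.Additive := adj.left_adjoint_additive
  haveI : PreservesFiniteLimits R :=
    haveI : PreservesLimitsOfSize.{0, 0} R := adj.rightAdjoint_preservesLimits
    ⟨fun _ => inferInstance⟩
  rcases c with _ | j
  · let i : ω ⟶ R.obj M := eω.inv ≫ R.rightDerivedZeroIsoSelf.hom.app M
    refine ⟨Ext.mk₀ ((adj.homEquiv _ _).symm i), fun G => ?_⟩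
    have h : (fun φ : G ⟶ ω => (Ext.mk₀ (L.map φ)).comp (Ext.mk₀ ((adj.homEquiv _ _).symm i)) (zero_add 0)) =
        fun φ => Ext.mk₀ ((adj.homEquiv _ _).symm (φ ≫ i)) := funext fun φ => by
      rw [Ext.mk₀_comp_mk₀]
      exact congrArg Ext.mk₀ (adj.homEquiv_naturality_left_symm φ i).symm
    rw [h]
    exact (Ext.mk₀_bijective _ _).comp ((adj.homEquiv _ _).symm.bijective.comp
      (((eω.symm ≪≫ R.rightDerivedZeroIsoSelf.app M).homToEquiv (Z := G)).bijective))
  let I := injectiveResolution M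
  let K : CochainComplex B ℕ := (R.mapHomologicalComplex _).obj I.cocomplex
  haveI : ∀ i, Injective (K.X i) := fun i => adj.map_injective (I.cocomplex.X i) inferInstance
  let ι := fun i => I.isoRightDerivedObj R i
  obtain ⟨s, hs, hs'⟩ := exists_section_homology K j fun i hi => (hvan i hi).of_iso (ι i).symm
  let v : ω ⟶ K.X (j + 1) := (eω.inv ≫ (ι (j + 1)).hom) ≫ s ≫ K.iCycles (j + 1)
  have hd : ∀ {G : B} {i i' : ℕ} (f : G ⟶ R.obj (I.cocomplex.X i)),
      (adj.homEquiv _ _).symm (f ≫ K.d i i') = (adj.homEquiv _ _).symm f ≫ I.cocomplex.d i i' :=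
    fun f => adj.homEquiv_naturality_right_symm f _
  have hcyc : ∀ {G : B} (f : G ⟶ K.X (j + 1)), f ≫ K.d (j + 1) (j + 1 + 1) = 0 →
      (adj.homEquiv G (I.cocomplex.X (j + 1))).symm f ≫ I.cocomplex.d (j + 1) (j + 1 + 1) = 0 := fun f hf => by
    rw [← hd f, hf, Adjunction.homEquiv_counit, Functor.map_zero, zero_comp]
  have hv : v ≫ K.d (j + 1) (j + 1 + 1) = 0 := by
    simp only [v, Category.assoc, HomologicalComplex.iCycles_d, comp_zero]
  let e₀ := I.extMk ((adj.homEquiv _ _).symm v) (j + 1 + 1) rfl (hcyc v hv)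
  refine ⟨e₀, fun G => ?_⟩
  have hΨ : ∀ φ : G ⟶ ω, (Ext.mk₀ (L.map φ)).comp e₀ (zero_add _) =
      I.extMk ((adj.homEquiv _ _).symm (φ ≫ v)) (j + 1 + 1) rfl
        (hcyc (φ ≫ v) (by rw [Category.assoc, hv, comp_zero])) := fun φ => by
    rw [I.mk₀_comp_extMk]
    congr 1
    exact (adj.homEquiv_naturality_left_symm φ v).symm
  -- a cocycle that is zero in cohomology
  have hzero : ∀ (f : G ⟶ K.cycles (j + 1)), f ≫ K.homologyπ (j + 1) = 0 →
      ∀ hf, I.extMk ((adj.homEquiv _ _).symm (f ≫ K.iCycles (j + 1))) (j + 1 + 1) rfl hf = 0 := fun f hf0 hf => by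
    obtain ⟨g, hg⟩ := hs' f hf0
    exact (I.extMk_eq_zero_iff _ _ rfl hf j rfl).2 ⟨(adj.homEquiv _ _).symm g, by rw [← hd g, hg]⟩
  constructor
  · intro φ ψ h
    simp only [hΨ] at h
    rw [← sub_eq_zero, I.sub_extMk, I.extMk_eq_zero_iff _ _ rfl _ j rfl] at h
    obtain ⟨g, hg⟩ := h
    let a : G ⟶ K.X j := adj.homEquiv _ _ g
    have ha : a ≫ K.d j (j + 1) = (φ - ψ) ≫ v := by
      refine (adj.homEquiv _ _).symm.injective ?_
      rw [hd a, Equiv.symm_apply_apply, hg]
      simp only [Adjunction.homEquiv_counit, Preadditive.sub_comp, Functor.map_sub]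
    let q := (φ - ψ) ≫ (eω.inv ≫ (ι (j + 1)).hom)
    have hq : q ≫ s = a ≫ K.toCycles j (j + 1) := by
      rw [← cancel_mono (K.iCycles (j + 1))]
      simp only [q, v, Category.assoc, HomologicalComplex.toCycles_i] at ha ⊢
      exact ha.symm
    have hq0 : q = 0 := by
      calc q = q ≫ s ≫ K.homologyπ (j + 1) := ((congrArg (q ≫ ·) hs).trans (Category.comp_id q)).symm
        _ = (a ≫ K.toCycles j (j + 1)) ≫ K.homologyπ (j + 1) := by rw [← Category.assoc, hq]
        _ = 0 := by rw [Category.assoc, HomologicalComplex.toCycles_comp_homologyπ, comp_zero]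
    exact sub_eq_zero.1 (by rw [← cancel_mono (eω.inv ≫ (ι (j + 1)).hom), zero_comp]; exact hq0)
  · intro x
    obtain ⟨f, hf, rfl⟩ := I.extMk_surjective x (j + 1 + 1) rfl
    let a : G ⟶ K.X (j + 1) := adj.homEquiv _ _ f
    have ha : a ≫ K.d (j + 1) (j + 1 + 1) = 0 := by
      refine (adj.homEquiv G (I.cocomplex.X (j + 1 + 1))).symm.injective ?_
      rw [hd a, Equiv.symm_apply_apply, hf, Adjunction.homEquiv_counit, Functor.map_zero, zero_comp]
    let z : G ⟶ K.cycles (j + 1) := K.liftCycles a (j + 1 + 1) (by simp) ha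
    let φ : G ⟶ ω := z ≫ K.homologyπ (j + 1) ≫ (ι (j + 1)).inv ≫ eω.hom
    refine ⟨φ, ?_⟩
    have hφ : φ ≫ v = (z ≫ K.homologyπ (j + 1) ≫ s) ≫ K.iCycles (j + 1) := by
      simp only [φ, v, Category.assoc, Iso.hom_inv_id_assoc, Iso.inv_hom_id_assoc]
    show (Ext.mk₀ (L.map φ)).comp e₀ (zero_add _) = _
    rw [hΨ φ, ← sub_eq_zero, I.sub_extMk]
    have hw : (z ≫ K.homologyπ (j + 1) ≫ s - z) ≫ K.homologyπ (j + 1) = 0 := by
      rw [Preadditive.sub_comp, Category.assoc, Category.assoc, hs, Category.comp_id, sub_self]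
    have hwa : (adj.homEquiv G (I.cocomplex.X (j + 1))).symm (φ ≫ v) - f =
        (adj.homEquiv G (I.cocomplex.X (j + 1))).symm
          ((z ≫ K.homologyπ (j + 1) ≫ s - z) ≫ K.iCycles (j + 1)) := by
      have hz : f = (adj.homEquiv G (I.cocomplex.X (j + 1))).symm (z ≫ K.iCycles (j + 1)) := by
        rw [HomologicalComplex.liftCycles_i]
        exact ((adj.homEquiv _ _).symm_apply_apply f).symm
      conv_lhs => rw [hz, hφ]
      simp only [Adjunction.homEquiv_counit, Preadditive.sub_comp, Functor.map_sub]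
    simp only [hwa]
    exact hzero _ hw _

end Groth.Agent.ExtShX
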