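import Groth.Agent.ExtShX.GlobalExt
import Groth.Agent.ExtShX.Affine
import Groth.Agent.ExtShX.SHTensor
import Groth.Agent.ExtShX.TensorInjective
import Groth.Agent.AmpleVan.Uniform
import Groth.Agent.AmpleVan.Pull
import Groth.Agent.IntNum.Push
import Groth.Agent.AmpleX.Proj
import Groth.Agent.Lib.AmpleEmbed
import Groth.Agent.PnCoh.Finite.TwistInv
import Groth.Agent.PnCoh.Chow.Proper
import Groth.Agent.KZ.QuasiProj
import Groth.Agent.SiteBase.UnivDelta
import Mathlib

/-!
# Ext groups of high twists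
-/

set_option autoImplicit false
set_option linter.style.haveILetI false
set_option linter.unusedSectionVars false
set_option backward.isDefEq.respectTransparency false
set_option backward.isDefEq.respectTransparency.types false
set_option maxHeartbeats 1000000

universe u

open CategoryTheory CategoryTheory.Limits AlgebraicGeometry TopologicalSpace Opposite Abelian

noncomputable section

namespace Groth.Agent.ExtShX

variable {X : Scheme.{u}}

/-- `Ext^q(F, G ⊗ E) = Ext^q(F, G) ⊗ E` for finite locally free `E`. -/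
theorem nonempty_extSh_tensor_right (F G : X.Modules) {E : X.Modules} (hE : FlatMod.IsFinLocFree E)
    [ModSite.HasSheafHom (O := X.sheaf) F] [HasInjectiveResolutions (ModSite.Mod X.sheaf)] (q : ℕ) :
    Nonempty ((ModSite.extSh (O := X.sheaf) F q).obj (CohB1.tensorMod G E) ≅
      CohB1.tensorMod ((ModSite.extSh (O := X.sheaf) F q).obj G) E) := by
  haveI : HasInjectiveResolutions X.Modules := ‹HasInjectiveResolutions (ModSite.Mod X.sheaf)›
  haveI : EnoughInjectives X.Modules :=
    SpObjSS.enoughInjectives_of_hasInjectiveResolutions (C := ModSite.Mod X.sheaf)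
  let SF : X.Modules ⥤ X.Modules := ModSite.sheafHom (O := X.sheaf) F
  haveI : SF.Additive := ModSite.sheafHom_additive X.sheaf F
  let TE : X.Modules ⥤ X.Modules := DCoh.tensorBi.flip.obj E
  let aE : TE ⊣ SheafHomX.hom E := SheafHomX.adj E
  haveI : TE.Additive := aE.left_adjoint_additive
  haveI : PreservesFiniteColimits TE := by
    have : PreservesColimitsOfSize.{0, 0} TE := aE.leftAdjoint_preservesColimits
    exact ⟨fun _ => inferInstance⟩
  haveI : TE.PreservesMonomorphisms := ⟨fun g _ => mono_tensorRight hE g⟩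
  haveI : TE.PreservesHomology := Functor.preservesHomology_of_preservesMonos_and_cokernels TE
  haveI : PreservesFiniteLimits TE := Functor.preservesFiniteLimits_of_preservesHomology TE
  haveI : TE.PreservesInjectiveObjects := ⟨fun {Q} hQ => (haveI := hQ; injective_tensor hE Q)⟩
  let a : SF ⋙ TE ≅ TE ⋙ SF :=
    NatIso.ofComponents (F := SF ⋙ TE) (G := TE ⋙ SF)
      (fun M => haveI := isIso_shTensorHom F M hE; asIso (shTensorHom F M E))
      (fun {M M'} g => shTensorHom_natural_left F g E)
  exact ⟨((SiteBase.rightDerivedPrecompIso TE SF q).symm ≪≫ SiteBase.rightDerivedCongr a.symm q ≪≫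
    SiteBase.rightDerivedCompIso SF TE q).app G⟩

variable {A : Type u} [CommRing A] [IsNoetherianRing A] [X.Over (Spec (CommRingCat.of A))]
  [IsProper (X ↘ Spec (CommRingCat.of A))] [HasExt.{u} X.Modules]

/-- Ext into a high twist: acyclicity of the Ext sheaves, and global Ext as their sections. -/
theorem exists_twist_ext {L : X.Modules} (hL : CohB1.IsAmple L) (F G : X.Modules) (hF : Coh.IsCoh F)
    (hG : Coh.IsCoh G) [ModSite.HasSheafHom (O := X.sheaf) F] [HasInjectiveResolutions (ModSite.Mod X.sheaf)]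
    (i : ℕ) :
    ∃ d₀ : ℕ, ∀ d : ℕ, d₀ ≤ d → ∀ P : X.Modules, Nonempty (P ≅ CohB1.tensorPow L d) →
      (∀ q, q ≤ i → ∀ p, Subsingleton (Coh.HH X ((ModSite.extSh (O := X.sheaf) F q).obj (CohB1.tensorMod G P)) (p + 1))) ∧
      Nonempty (Ext.{u} F (CohB1.tensorMod G P) i ≃ₗ[A]
        Coh.HH X ((ModSite.extSh (O := X.sheaf) F i).obj (CohB1.tensorMod G P)) 0) := by
  haveI : IsLocallyNoetherian X := LocallyOfFiniteType.isLocallyNoetherian (X ↘ Spec (CommRingCat.of A))
  haveI : HasInjectiveResolutions X.Modules := ‹HasInjectiveResolutions (ModSite.Mod X.sheaf)›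
  haveI : EnoughInjectives X.Modules :=
    SpObjSS.enoughInjectives_of_hasInjectiveResolutions (C := ModSite.Mod X.sheaf)
  choose d hd using fun q : Fin (i + 1) =>
    AmpleVan.exists_vanishing (A := A) hL (isCoh_extSh (X := X) hF hG (q : ℕ))
  refine ⟨Finset.univ.sup d, fun n hn P hP => ?_⟩
  obtain ⟨eP⟩ := hP
  have hv : ∀ q, q ≤ i → ∀ p, Subsingleton
      (Coh.HH X ((ModSite.extSh (O := X.sheaf) F q).obj (CohB1.tensorMod G P)) (p + 1)) := by
    intro q hq p
    have hfl : FlatMod.IsFinLocFree P :=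
      H23.PullPush.isFinLocFree_of_iso eP.symm (KZ.QuasiProj.flf_of_invertible (InvX.isInvertible_tensorPow hL.1 n))
    obtain ⟨t⟩ := nonempty_extSh_tensor_right F G hfl q
    exact QCoh.subsingleton_HH_of_iso (t ≪≫ (DCoh.tensorBi.obj _).mapIso eP).symm _
      (hd ⟨q, by omega⟩ n ((Finset.le_sup (Finset.mem_univ _)).trans hn) p)
  exact ⟨hv, GlobalExt.nonempty_ext_equiv_sections F i _ hv⟩

omit [IsProper (X ↘ Spec (CommRingCat.of A))] [HasExt.{u} X.Modules] in
/-- The pullback of `O(1)` along a closed immersion into projective space is ample, with the twists as powers. -/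
theorem ample_twist_pullback (n : ℕ) (ι : X ⟶ CohB1.ProjSpace n A) [IsClosedImmersion ι] :
    CohB1.IsAmple ((Scheme.Modules.pullback ι).obj (Twist.twistProjSpace n A 1)) ∧
      ∀ d : ℕ, Nonempty ((Scheme.Modules.pullback ι).obj (Twist.twistProjSpace n A (d : ℤ)) ≅
        CohB1.tensorPow ((Scheme.Modules.pullback ι).obj (Twist.twistProjSpace n A 1)) d) := by
  classical
  haveI : IsProper (CohB1.ProjSpace.toSpec n A) := PnCoh.Chow.isProper_toSpec n A
  haveI : CompactSpace (CohB1.ProjSpace n A) := QuasiCompact.compactSpace_of_compactSpace (CohB1.ProjSpace.toSpec n A)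
  haveI : CompactSpace X := ι.isClosedEmbedding.compactSpace
  have hcov : ⨆ j : ULift.{u} (Fin (n + 1)), PnCoh.Finite.D (CohB1.polyGrading n A) (MvPolynomial.X j.down) = ⊤ :=
    top_le_iff.1 ((AmpleEmbed.iSup_basicOpen_X n A).ge.trans (iSup_le fun j => le_iSup_of_le (ULift.up j) le_rfl))
  have h1 : CohB1.IsAmple (Twist.twistProjSpace n A 1) := by
    refine AmpleX.isAmple_twist_one (𝒜 := CohB1.polyGrading n A)
      (Finset.univ.image fun j : Fin (n + 1) => MvPolynomial.X j) ?_ ?_
    · intro g hg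
      obtain ⟨j, -, rfl⟩ := Finset.mem_image.1 hg
      exact ProjPt.X_mem j
    · refine eq_top_iff.2 fun y _ => ?_
      obtain ⟨j, hj⟩ := Opens.mem_iSup.1 ((AmpleEmbed.iSup_basicOpen_X n A).ge (trivial : y ∈ (⊤ : Opens _)))
      exact Opens.mem_iSup.2 ⟨⟨MvPolynomial.X j, Finset.mem_image.2 ⟨j, Finset.mem_univ _, rfl⟩⟩, hj⟩
  refine ⟨AmpleVan.isAmple_pullback_of_isEmbedding ι ι.isClosedEmbedding.isEmbedding h1, fun d => ?_⟩
  obtain ⟨e⟩ := PnCoh.Finite.twist_tensorPow_iso (fun j : ULift.{u} (Fin (n + 1)) => MvPolynomial.X j.down)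
    (fun j => ProjPt.X_mem j.down) hcov d
  obtain ⟨e'⟩ := IntNum.pullback_tensorPow ι (Twist.twistProjSpace n A 1) d
  exact ⟨(Scheme.Modules.pullback ι).mapIso e ≪≫ e'⟩

end Groth.Agent.ExtShX
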