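import Groth.Agent.ExtShX.Depth
import Groth.Agent.ModTensor.SheafHom
import Groth.Agent.VarDim.Local
import Groth.Agent.H1MinCx.Basic
import Groth.Agent.S10834
import Groth.Agent.Lib.CurveDeg
import Groth.Agent.QCoh.LocFree
import Mathlib

/-!
# Vanishing of local Ext sheaves below the codimension
-/

set_option autoImplicit false
set_option linter.style.haveILetI false
set_option backward.isDefEq.respectTransparency false
set_option backward.isDefEq.respectTransparency.types false

universe u

open CategoryTheory CategoryTheory.Limits AlgebraicGeometry TopologicalSpace Order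

namespace Groth.Agent.ExtShX

variable {k : Type u} [Field k] {P : Scheme.{u}} (f : P ⟶ Spec (CommRingCat.of k)) [LocallyOfFiniteType f]

theorem exists_component (x : P) : ∃ η : P, η ⤳ x ∧ closure {η} ∈ irreducibleComponents ↥P := by
  obtain ⟨η, hη⟩ := QuasiSober.sober (α := P) (isIrreducible_irreducibleComponent (x := x)) isClosed_irreducibleComponent
  refine ⟨η, specializes_iff_mem_closure.2 (hη.symm ▸ mem_irreducibleComponent), ?_⟩
  rw [hη]
  exact irreducibleComponent_mem_irreducibleComponents x

theorem deg_le_of_components {n : ℕ}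
    (hP : ∀ Z : Set ↥P, Z ∈ irreducibleComponents ↥P → topologicalKrullDim ↥Z ≤ (n : WithBot ℕ∞)) (x : P) :
    VarDim.deg f x ≤ n := by
  obtain ⟨η, hη, hc⟩ := exists_component x
  have h := hP _ hc
  rw [VarDim.topologicalKrullDim_closure_singleton f η] at h
  exact (VarDim.deg_le_of_specializes f hη).trans (by exact_mod_cast h)

include f in
/-- Depth of locally free modules on a regular scheme of pure dimension at points of small dimension. -/
theorem le_depth_of_regular (hreg : ∀ p : P, IsRegularLocalRing (P.presheaf.stalk p)) {n : ℕ}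
    (hP : ∀ Z : Set ↥P, Z ∈ irreducibleComponents ↥P → topologicalKrullDim ↥Z = (n : WithBot ℕ∞))
    {E : P.Modules} (hE : FlatMod.IsFinLocFree E) (x : P) {m : ℕ} (hm : VarDim.deg f x + m ≤ n) :
    (m : ℕ∞) ≤ LocCoh.depth (P.presheaf.stalk x) (E.presheaf.stalk x) := by
  haveI := hreg x
  obtain ⟨η, hη, hc⟩ := exists_component x
  obtain ⟨b, hb, -, hle⟩ := VarDim.exists_deg_add_stalk f x
  have hn := hP _ hc
  rw [VarDim.topologicalKrullDim_closure_singleton f η] at hn
  have hn' : VarDim.deg f η = n := by exact_mod_cast hn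
  have hmb : m ≤ b := by have := hle η hη; omega
  have hdep : ((m : ℕ) : ℕ∞) ≤ LocCoh.depth (P.presheaf.stalk x) (P.presheaf.stalk x) := by
    have h := S10834.depth_of_regular (P.presheaf.stalk x)
    rw [hb] at h
    have h' : LocCoh.depth (P.presheaf.stalk x) (P.presheaf.stalk x) = (b : ℕ∞) := by exact_mod_cast h
    rw [h']
    exact_mod_cast hmb
  haveI : LocallyOfFiniteType f := inferInstance
  haveI := LocallyOfFiniteType.isLocallyNoetherian f
  haveI : Module.Free (P.presheaf.stalk x) (E.presheaf.stalk x) := QCoh.free_stalk_of_isFinLocFree hE x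
  haveI : Module.Finite (P.presheaf.stalk x) (E.presheaf.stalk x) :=
    haveI := (CurveDeg.isCoh_of_isFinLocFree hE).2; FDescent.finite_stalk E x
  exact (CAlgOdd.Acyclicity.depthGE_iff m (ModuleCat.of (P.presheaf.stalk x) (E.presheaf.stalk x))).1
    (H1MinCx.depthGE_free ((CAlgOdd.Acyclicity.depthGE_iff m (ModuleCat.of (P.presheaf.stalk x) (P.presheaf.stalk x))).2 hdep) _)

include f in
/-- `Ext^i(ι_* O_X, E) = 0` below the codimension. -/
theorem isZero_extSh_codim (hreg : ∀ p : P, IsRegularLocalRing (P.presheaf.stalk p)) {n : ℕ}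
    (hP : ∀ Z : Set ↥P, Z ∈ irreducibleComponents ↥P → topologicalKrullDim ↥Z = (n : WithBot ℕ∞))
    {X : Scheme.{u}} (ι : X ⟶ P) [IsClosedImmersion ι] {c : ℕ}
    (hc : ∀ a : X, VarDim.deg f (ι a) + c ≤ n)
    {E : P.Modules} (hE : FlatMod.IsFinLocFree E)
    [ModSite.HasSheafHom (O := P.sheaf) ((Scheme.Modules.pushforward ι).obj (Coh.structureModule X))]
    [HasInjectiveResolutions (ModSite.Mod P.sheaf)] (q : ℕ) (hq : q < c) :
    IsZero ((ModSite.extSh (O := P.sheaf) ((Scheme.Modules.pushforward ι).obj (Coh.structureModule X)) q).obj E) := by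
  haveI := LocallyOfFiniteType.isLocallyNoetherian f
  haveI : ∀ M : P.Modules, ModSite.HasSheafHom (O := P.sheaf) M := fun M => ModTensor.hasSheafHom (O := P.sheaf) M
  have hG : Coh.IsCoh ((Coh.push ι).obj (Coh.structureModule X)) := H23.SpClosed.isCoh_push (i := ι)
  refine isZero_extSh_of_depth (⟨(Set.range ι)ᶜ, ι.isClosedEmbedding.isClosed_range.isOpen_compl⟩ : P.Opens)
    (CurveDeg.isCoh_of_isFinLocFree hE) hG (n := c) (fun x hx => ?_) (fun x hx hmem => ?_) q hq
  · obtain ⟨a, rfl⟩ : x ∈ Set.range ι := not_not.1 hx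
    exact le_depth_of_regular f hreg hP hE _ (hc a)
  · exact hmem ((CohGabLib.support_push_eq ι hG QCoh.isQCoh_structureModule).le hx |> fun h => Set.image_subset_range _ _ h)

theorem deg_map_le {X : Scheme.{u}} (ι : X ⟶ P) [IsClosedImmersion ι] {Z : Set X} (hZ : IsClosed Z) {a : X}
    (ha : a ∈ Z) {d : ℕ} (hd : topologicalKrullDim ↥Z ≤ (d : WithBot ℕ∞)) : VarDim.deg f (ι a) ≤ d := by
  have he : closure ({ι a} : Set P) = ι '' closure {a} := by
    rw [← ι.isClosedEmbedding.closure_image_eq, Set.image_singleton]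
  have hsub : closure ({a} : Set X) ⊆ Z := hZ.closure_subset_iff.2 (Set.singleton_subset_iff.2 ha)
  have h := VarDim.topologicalKrullDim_closure_singleton f (ι a)
  rw [he, ← (ι.isClosedEmbedding.isEmbedding.homeomorphImage (closure {a})).isHomeomorph.topologicalKrullDim_eq] at h
  have h2 := (Topology.IsEmbedding.inclusion hsub).isInducing.topologicalKrullDim_le.trans hd
  rw [h] at h2
  exact_mod_cast h2

theorem deg_map_le_of_dim {X : Scheme.{u}} (ι : X ⟶ P) [IsClosedImmersion ι] (a : X) {d : ℕ}
    (hd : ∀ Z : Set ↥X, Z ∈ irreducibleComponents ↥X → topologicalKrullDim ↥Z ≤ (d : WithBot ℕ∞)) :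
    VarDim.deg f (ι a) ≤ d :=
  deg_map_le f ι isClosed_irreducibleComponent mem_irreducibleComponent (hd _ (irreducibleComponent_mem_irreducibleComponents a))

end Groth.Agent.ExtShX
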