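import Groth.Prelude.Def_ModSite2
import Groth.Agent.RefX2.Tensor
import Groth.Agent.RefX.Hom
import Groth.Agent.RefX.Lift
import Groth.Agent.H23.TensorDesc
import Groth.Agent.HomShX.Basic

/-!
# The internal Hom of sheaves of modules is the sheaf of local homomorphisms
-/

set_option autoImplicit false
set_option linter.style.haveILetI false
set_option backward.isDefEq.respectTransparency false
set_option backward.isDefEq.respectTransparency.types false

universe u

open CategoryTheory CategoryTheory.Limits AlgebraicGeometry TopologicalSpace Opposite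
open scoped TensorProduct

namespace Groth.Agent.ExtShX

open RefHull (stalkMapₗ stalkMapₗ_germ evalStalk evalStalk_germ homSh StalkHom)

variable {X : Scheme.{u}} (F G : X.Modules) [ModSite.HasSheafHom (O := X.sheaf) F]

/-- The internal Hom. -/
noncomputable abbrev shHom : X.Modules := (ModSite.sheafHom (O := X.sheaf) F).obj G

/-- The evaluation map. -/
noncomputable def evT : CohB1.tensorMod (shHom F G) F ⟶ G :=
  (ModSite.sheafHomAdj (O := X.sheaf) F).counit.app G

/-- A germ of the internal Hom as a linear map between stalks. -/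
noncomputable def evL (x : X) :
    (shHom F G).presheaf.stalk x →ₗ[X.presheaf.stalk x] StalkHom F G x :=
  TensorProduct.curry ((stalkMapₗ (evT F G) x).comp (RefX2.stalkTmul (shHom F G) F x))

theorem evL_apply (x : X) (θ : (shHom F G).presheaf.stalk x) (v : F.presheaf.stalk x) :
    evL F G x θ v = stalkMapₗ (evT F G) x (RefX2.stalkTmul (shHom F G) F x (θ ⊗ₜ v)) := rfl

/-- A section of the internal Hom as a family of stalk maps. -/
noncomputable def toHomShFun (U : X.Opens) : Γ(shHom F G, U) →+ Γ(homSh F G, U) where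
  toFun s := ⟨fun x => evL F G x.1 ((shHom F G).presheaf.germ U x.1 x.2 s), fun V i m x => by
    refine ⟨V, x.2, 𝟙 V, (evT F G).app V (InvX.tmul ((shHom F G).presheaf.map i.op s) m), fun y => ?_⟩
    rw [evL_apply, ← TopCat.Presheaf.germ_res_apply (shHom F G).presheaf i y.1 y.2 s]
    erw [RefX2.stalkTmul_germ]
    exact stalkMapₗ_germ (evT F G) y.1 y.2 _⟩
  map_zero' := RefX.sect_ext fun x => by
    show evL F G x.1 _ = 0
    rw [map_zero, map_zero]
  map_add' a b := RefX.sect_ext fun x => by
    show evL F G x.1 _ = evL F G x.1 _ + evL F G x.1 _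
    rw [map_add, map_add]

/-- The comparison map. -/
noncomputable def toHomSh : shHom F G ⟶ homSh F G :=
  ⟨PresheafOfModules.homMk
    { app := fun U => AddCommGrpCat.ofHom (toHomShFun F G U.unop)
      naturality := fun {U V} i => by
        ext s
        refine RefX.sect_ext fun x => ?_
        change evL F G x.1 _ = evL F G x.1 _
        exact congrArg _ (TopCat.Presheaf.germ_res_apply' (shHom F G).presheaf i x.1 x.2 s) }
    (fun U r s => RefX.sect_ext fun x =>
      (congrArg (evL F G x.1) (Mero.germ_smul (shHom F G) U.unop x.1 x.2 r s)).trans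
        (map_smul (evL F G x.1) _ _))⟩

theorem toHomSh_app_val {U : X.Opens} (s : Γ(shHom F G, U)) (x : U) :
    ((toHomSh F G).app U s).1 x = evL F G x.1 ((shHom F G).presheaf.germ U x.1 x.2 s) := rfl

theorem evalStalk_toHomSh (x : X) (θ : (shHom F G).presheaf.stalk x) :
    evalStalk F G x (stalkMapₗ (toHomSh F G) x θ) = evL F G x θ := by
  obtain ⟨U, hx, s, rfl⟩ := TopCat.Presheaf.exists_germ_eq (shHom F G).presheaf θ
  rw [stalkMapₗ_germ, evalStalk_germ]
  rfl

/-- Evaluation of a local homomorphism on a section. -/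
noncomputable def evBilin : H23.TensorDesc.Bilin (homSh F G) F G where
  b U g m := RefX.app (le_refl U) g m
  add_left U g g' m := ZClosLib.section_ext G _ _ fun y hy => by
    rw [map_add, RefX.germ_app, RefX.germ_app, RefX.germ_app]
    rfl
  smul_left U r g m := ZClosLib.section_ext G _ _ fun y hy => by
    rw [QCoh.germ_smul', RefX.germ_app, RefX.germ_app]
    rfl
  add_right U g m m' := RefX.app_add _ g m m'
  smul_right U r g m := RefX.app_smul _ g r m
  res {U V} h g m := ZClosLib.section_ext G _ _ fun y hy => by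
    rw [TopCat.Presheaf.germ_res_apply, RefX.germ_app, RefX.germ_app, TopCat.Presheaf.germ_res_apply]
    rfl

/-- The evaluation pairing of the sheaf of local homomorphisms. -/
noncomputable def evH : CohB1.tensorMod (homSh F G) F ⟶ G := H23.TensorDesc.desc (evBilin F G)

omit [ModSite.HasSheafHom (O := X.sheaf) F] in
theorem stalk_evH (x : X) (θ : (homSh F G).presheaf.stalk x) (v : F.presheaf.stalk x) :
    stalkMapₗ (evH F G) x (RefX2.stalkTmul (homSh F G) F x (θ ⊗ₜ v)) = evalStalk F G x θ v := by
  obtain ⟨U, hU, g, rfl⟩ := TopCat.Presheaf.exists_germ_eq (homSh F G).presheaf θ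
  obtain ⟨V, hV, m, rfl⟩ := TopCat.Presheaf.exists_germ_eq F.presheaf v
  have hx : x ∈ U ⊓ V := ⟨hU, hV⟩
  rw [← TopCat.Presheaf.germ_res_apply (homSh F G).presheaf (homOfLE (inf_le_left : U ⊓ V ≤ U)) x hx g,
    ← TopCat.Presheaf.germ_res_apply F.presheaf (homOfLE (inf_le_right : U ⊓ V ≤ V)) x hx m]
  erw [RefX2.stalkTmul_germ]
  rw [stalkMapₗ_germ, evalStalk_germ]
  refine (congrArg (G.presheaf.germ (U ⊓ V) x hx) (H23.TensorDesc.desc_tmul (evBilin F G) (U ⊓ V) _ _)).trans ?_
  exact RefX.germ_app (le_refl _) _ _ hx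

/-- The inverse comparison. -/
noncomputable def fromHomSh : homSh F G ⟶ shHom F G :=
  (ModSite.sheafHomAdj (O := X.sheaf) F).homEquiv (homSh F G) G (evH F G)

theorem map_fromHomSh_evT :
    ((ModSite.tensorBi X.sheaf).flip.obj F).map (fromHomSh F G) ≫ evT F G = evH F G := by
  have h := ((ModSite.sheafHomAdj (O := X.sheaf) F).homEquiv (homSh F G) G).symm_apply_apply (evH F G)
  rw [Adjunction.homEquiv_counit] at h
  exact h

omit [ModSite.HasSheafHom (O := X.sheaf) F] in
theorem stalk_tenMap {M N : X.Modules} (φ : M ⟶ N) (x : X) (a : M.presheaf.stalk x) (v : F.presheaf.stalk x) :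
    stalkMapₗ (((ModSite.tensorBi X.sheaf).flip.obj F).map φ) x (RefX2.stalkTmul M F x (a ⊗ₜ v)) =
      RefX2.stalkTmul N F x (stalkMapₗ φ x a ⊗ₜ v) := by
  obtain ⟨U, hU, g, rfl⟩ := TopCat.Presheaf.exists_germ_eq M.presheaf a
  obtain ⟨V, hV, m, rfl⟩ := TopCat.Presheaf.exists_germ_eq F.presheaf v
  have hx : x ∈ U ⊓ V := ⟨hU, hV⟩
  rw [← TopCat.Presheaf.germ_res_apply M.presheaf (homOfLE (inf_le_left : U ⊓ V ≤ U)) x hx g,
    ← TopCat.Presheaf.germ_res_apply F.presheaf (homOfLE (inf_le_right : U ⊓ V ≤ V)) x hx m]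
  erw [RefX2.stalkTmul_germ, stalkMapₗ_germ φ]
  erw [RefX2.stalkTmul_germ]
  refine (stalkMapₗ_germ _ x hx _).trans (congrArg _ ?_)
  have h := KFlatLib.unitShP_naturality
    (MonoidalCategory.whiskerRight (DCoh.toP.map φ) (DCoh.toP.obj F))
  exact congr(($h).app (op (U ⊓ V)) (KFlatLib.tm _ _)).symm

theorem fromHomSh_toHomSh : fromHomSh F G ≫ toHomSh F G = 𝟙 _ := by
  refine Scheme.Modules.hom_ext _ _ fun U => ?_
  ext g
  refine RefX.sect_ext fun x => LinearMap.ext fun v => ?_
  show evL F G x.1 ((shHom F G).presheaf.germ U x.1 x.2 ((fromHomSh F G).app U g)) v = g.1 x v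
  rw [evL_apply, ← stalkMapₗ_germ (fromHomSh F G) x.1 x.2 g, ← stalk_tenMap F (fromHomSh F G) x.1]
  have h := congrArg (fun k => stalkMapₗ k x.1 (RefX2.stalkTmul (homSh F G) F x.1
    ((homSh F G).presheaf.germ U x.1 x.2 g ⊗ₜ v))) (map_fromHomSh_evT F G)
  refine ((LinearMap.congr_fun (HomShX.stalkMapₗ_comp _ _ _) _).symm.trans h).trans ?_
  rw [stalk_evH, evalStalk_germ]

theorem toHomSh_fromHomSh : toHomSh F G ≫ fromHomSh F G = 𝟙 _ := by
  apply ((ModSite.sheafHomAdj (O := X.sheaf) F).homEquiv (shHom F G) G).symm.injective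
  rw [Adjunction.homEquiv_counit, Adjunction.homEquiv_counit]
  refine Eq.trans ?_ (((congrArg (fun t => t ≫ evT F G)
    (((ModSite.tensorBi X.sheaf).flip.obj F).map_id (shHom F G))).trans (Category.id_comp _)).symm)
  refine ((congrArg (fun t => t ≫ evT F G)
    (((ModSite.tensorBi X.sheaf).flip.obj F).map_comp (toHomSh F G) (fromHomSh F G))).trans
      ((Category.assoc _ _ _).trans (congrArg (fun t => _ ≫ t) (map_fromHomSh_evT F G)))).trans ?_
  refine HomShX.ext_stalk fun x => LinearMap.ext fun z => ?_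
  obtain ⟨z, rfl⟩ := (RefX2.stalkTmul_bijective (shHom F G) F x).2 z
  rw [HomShX.stalkMapₗ_comp]
  induction z using TensorProduct.induction_on with
  | zero => simp
  | tmul θ v =>
    rw [LinearMap.comp_apply]
    erw [stalk_tenMap F (toHomSh F G) x θ v]
    exact (stalk_evH F G x _ v).trans (LinearMap.congr_fun (evalStalk_toHomSh F G x θ) v)
  | add a b ha hb => simp only [map_add, ha, hb]

/-- The internal Hom is the sheaf of local homomorphisms. -/
noncomputable def iso : shHom F G ≅ homSh F G :=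
  ⟨toHomSh F G, fromHomSh F G, toHomSh_fromHomSh F G, fromHomSh_toHomSh F G⟩

end Groth.Agent.ExtShX
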