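import Groth.Agent.ExtShX.Stalk
import Groth.Agent.LC.Depth
import Groth.Agent.DepthAlongLib.Basic
import Groth.Agent.FDescent.StalkFinite
import Groth.Agent.CohGabLib.SerreSupp
import Groth.Agent.H23.SpClosed
import Groth.Agent.KZ.LFRes
import Mathlib

/-!
# Vanishing of local Ext sheaves and depth
-/

set_option autoImplicit false
set_option linter.style.haveILetI false
set_option backward.isDefEq.respectTransparency false
set_option backward.isDefEq.respectTransparency.types false

universe u

open CategoryTheory CategoryTheory.Limits AlgebraicGeometry TopologicalSpace Opposite IsLocalRing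

namespace Groth.Agent.ExtShX

section Alg

variable {R : Type u} [CommRing R] [IsNoetherianRing R] (M : Type u) [AddCommGroup M] [Module R M]
  [Module.Finite R M] (N : Type u) [AddCommGroup N] [Module R N] [Module.Finite R N]

/-- Modules killed by `I` have no Ext into a module of `I`-depth `≥ n` in degrees `< n`. -/
theorem subsingleton_ext_of_le_idealDepth (I : Ideal R) (hI : I ≤ Module.annihilator R N) {n : ℕ}
    (h : (n : ℕ∞) ≤ LocCoh.idealDepth I M) (i : ℕ) (hi : i < n) :
    Subsingleton (Abelian.Ext (ModuleCat.of R N) (ModuleCat.of R M) i) :=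
  LC.ext_subsingleton_of_H I n (ModuleCat.of R M)
    ((LC.H_vanishing_iff_ext_quot I n _).2 ((LC.le_idealDepth_iff_ext I M n).1 h)) (ModuleCat.of R N)
    ((Groth.Agent.S7038.result I _).2 (IsNoetherian.noetherian I)
      (by rw [Module.support_eq_zeroLocus]; exact PrimeSpectrum.zeroLocus_anti_mono hI)) i hi

theorem le_idealDepth_of_ext (I : Ideal R) (hI : Module.annihilator R N ≤ I) {n : ℕ}
    (h : ∀ i < n, Subsingleton (Abelian.Ext (ModuleCat.of R N) (ModuleCat.of R M) i)) :
    (n : ℕ∞) ≤ LocCoh.idealDepth I M := by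
  have hH := LC.H_vanishing_of_ext (Module.annihilator R N) (ModuleCat.of R N)
    (by rw [Module.support_eq_zeroLocus]) n (ModuleCat.of R M) h
  refine (LC.le_idealDepth_iff_ext I M n).2 fun i hi => ?_
  exact LC.ext_subsingleton_of_H (Module.annihilator R N) n _ hH (ModuleCat.of R (R ⧸ I))
    ((Groth.Agent.S7038.result _ _).2 (IsNoetherian.noetherian _)
      (by rw [LC.support_quot_self]; exact PrimeSpectrum.zeroLocus_anti_mono hI)) i hi

end Alg

variable {X : Scheme.{u}} [IsLocallyNoetherian X]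
  [∀ M : X.Modules, ModSite.HasSheafHom (O := X.sheaf) M] [HasInjectiveResolutions (ModSite.Mod X.sheaf)]

/-- The stalk of a local Ext sheaf vanishes iff the Ext of the stalks does. -/
theorem isZero_extSh_iff {G : X.Modules} (hG : Coh.IsCoh G) (F : X.Modules) (i : ℕ) :
    IsZero ((ModSite.extSh (O := X.sheaf) G i).obj F) ↔
      ∀ x, Subsingleton (Abelian.Ext ((DerSch.stalkFunctor X x).obj G) ((DerSch.stalkFunctor X x).obj F) i) := by
  constructor
  · intro h x
    obtain ⟨e⟩ := nonempty_stalk_extSh G (KZ.LFRes.isFP_of_isCoh hG) F x i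
    haveI : (DerSch.stalkFunctor X x).Additive := Functor.additive_of_preserves_binary_products _
    exact ModuleCat.subsingleton_of_isZero ((((DerSch.stalkFunctor X x).map_isZero h)).of_iso e.symm)
  · intro h
    refine KFlatLib.isZero_of_stalk _ fun x => ?_
    obtain ⟨e⟩ := nonempty_stalk_extSh G (KZ.LFRes.isFP_of_isCoh hG) F x i
    haveI := h x
    exact (ModuleCat.isZero_of_subsingleton _).of_iso e

theorem isZero_extSh_of_depth (U : X.Opens) {F G : X.Modules} (hF : Coh.IsCoh F) (hG : Coh.IsCoh G) {n : ℕ}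
    (hd : ∀ x : X, x ∉ (U : Set X) → (n : ℕ∞) ≤ LocCoh.depth (X.presheaf.stalk x) (F.presheaf.stalk x))
    (hs : ∀ x ∈ CohB1.support G, x ∉ (U : Set X)) (i : ℕ) (hi : i < n) :
    IsZero ((ModSite.extSh (O := X.sheaf) G i).obj F) := by
  refine (isZero_extSh_iff hG F i).2 fun x => ?_
  haveI : Module.Finite (X.presheaf.stalk x) (F.presheaf.stalk x) :=
    haveI := hF.2; FDescent.finite_stalk F x
  haveI : Module.Finite (X.presheaf.stalk x) (G.presheaf.stalk x) :=
    haveI := hG.2; FDescent.finite_stalk G x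
  obtain ⟨V, hV, hxV, -⟩ := exists_isAffineOpen_mem_and_subset (x := x) (U := (⊤ : X.Opens)) trivial
  let I : Ideal Γ(X, V) := Module.annihilator Γ(X, V) Γ(G, V)
  have hle := DepthAlongLib.le_idealDepth_stalk hF hV I hxV (n : ℕ∞) fun z hz hIz _ => hd z (hs z (by
    haveI : Module.Finite Γ(X, V) Γ(G, V) := (QCoh.isCoh_iff.1 hG).2 ⟨V, hV⟩
    refine (QCoh.mem_support_iff hG.1 hV hz).2 ?_
    have hmem : hV.primeIdealOf ⟨z, hz⟩ ∈ Module.support Γ(X, V) Γ(G, V) := by
      rw [Module.support_eq_zeroLocus]; exact hIz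
    obtain ⟨m, hm⟩ := Module.mem_support_iff'.1 hmem
    exact ⟨m, fun f hf => hm f ((QCoh.mem_basicOpen_iff_notMem hV hz f).1 hf)⟩))
  refine subsingleton_ext_of_le_idealDepth (R := X.presheaf.stalk x) (F.presheaf.stalk x) (G.presheaf.stalk x)
    _ ?_ hle i hi
  refine Ideal.map_le_iff_le_comap.2 fun a ha => Ideal.mem_comap.2 (Module.mem_annihilator.2 fun t => ?_)
  letI := QCoh.stalkAlg (X := X) hxV
  letI := QCoh.stalkModule G hxV
  haveI := QCoh.isScalarTower_stalk G hxV
  haveI := QCoh.isLocalizedModule_germLin hG.1 hV hxV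
  obtain ⟨⟨m, s⟩, hms⟩ := IsLocalizedModule.surj (hV.primeIdealOf ⟨x, hxV⟩).asIdeal.primeCompl
    (QCoh.germLin G hxV) t
  refine (IsLocalizedModule.smul_inj (QCoh.germLin G hxV) s _ _).1 ?_
  rw [smul_zero]
  show s.1 • ((X.presheaf.germ V x hxV).hom a • t) = 0
  rw [smul_comm]
  show (X.presheaf.germ V x hxV).hom a • (s • t) = 0
  rw [hms]
  show (X.presheaf.germ V x hxV).hom a • G.presheaf.germ V x hxV m = 0
  rw [← Mero.germ_smul G V x hxV a m, Module.mem_annihilator.1 ha m]
  exact map_zero _

theorem le_depth_of_isZero_extSh {F G : X.Modules} (hF : Coh.IsCoh F) (hG : Coh.IsCoh G) {n : ℕ}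
    (h : ∀ i : ℕ, i < n → IsZero ((ModSite.extSh (O := X.sheaf) G i).obj F)) {x : X}
    (hx : x ∈ CohB1.support G) :
    (n : ℕ∞) ≤ LocCoh.depth (X.presheaf.stalk x) (F.presheaf.stalk x) := by
  haveI : Module.Finite (X.presheaf.stalk x) (F.presheaf.stalk x) :=
    haveI := hF.2; FDescent.finite_stalk F x
  haveI : Module.Finite (X.presheaf.stalk x) (G.presheaf.stalk x) :=
    haveI := hG.2; FDescent.finite_stalk G x
  refine le_idealDepth_of_ext (R := X.presheaf.stalk x) (F.presheaf.stalk x) (G.presheaf.stalk x) _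
    (le_maximalIdeal fun e => hx (Module.annihilator_eq_top_iff.1 e)) fun i hi => ?_
  exact (isZero_extSh_iff hG F i).1 (h i hi) x

omit [∀ M : X.Modules, ModSite.HasSheafHom (O := X.sheaf) M] [HasInjectiveResolutions (ModSite.Mod X.sheaf)] in
/-- Coherent modules with prescribed closed support on a locally Noetherian scheme. -/
theorem exists_coh_support (C : Closeds X) : ∃ G : X.Modules, Coh.IsCoh G ∧ CohB1.support G = (C : Set X) := by
  have hc := H23.SpClosed.isCoh_push (i := (Scheme.IdealSheafData.vanishingIdeal C).subschemeι)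
  exact ⟨_, hc, ((CohGabLib.support_push_eq _ hc QCoh.isQCoh_structureModule).trans
    (by rw [CohGabLib.support_structure, Set.image_univ])).trans (H23.RedSub.range_vanishingIdeal _)⟩

end Groth.Agent.ExtShX
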