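import Groth.Agent.Lib.PnDualExt
import Mathlib

/-!
# The Yoneda pairing between `Ext^i(G, ω)` and cohomology, into a trace
-/

set_option autoImplicit false
set_option linter.style.haveILetI false
set_option linter.unusedSectionVars false
set_option backward.isDefEq.respectTransparency false
set_option backward.isDefEq.respectTransparency.types false
set_option maxHeartbeats 1600000

universe u

open CategoryTheory CategoryTheory.Limits AlgebraicGeometry TopologicalSpace Opposite
open CategoryTheory.Abelian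
open Groth.Agent.PnCoh Groth.Agent.PnCoh.Finite

noncomputable section

namespace Groth.Agent.ExtShX

variable {k : Type u} [Field k] {X : Scheme.{u}} [X.Over (Spec (CommRingCat.of k))]
  [HasExt.{u} X.Modules] {ω : X.Modules} {N : ℕ}

theorem preservesFiniteColimits_toAb (Y : Scheme.{u}) : PreservesFiniteColimits (QCoh.toAbFunctor Y) :=
  (QCoh.toAbFunctor Y).preservesFiniteColimits_of_preservesHomology

/-- The image of an Ext class among abelian sheaves. -/
def abExt {G H : X.Modules} {i : ℕ} (e : Abelian.Ext.{u} G H i) :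
    Abelian.Ext.{u} (Coh.toAb G) (Coh.toAb H) i :=
  haveI := preservesFiniteColimits_toAb X
  e.mapExactFunctor (QCoh.toAbFunctor X)

theorem abExt_comp {G H K : X.Modules} {a b c : ℕ} (α : Abelian.Ext.{u} G H a) (β : Abelian.Ext.{u} H K b)
    (h : a + b = c) : abExt (α.comp β h) = (abExt α).comp (abExt β) h :=
  haveI := preservesFiniteColimits_toAb X
  Ext.mapExactFunctor_comp (F := QCoh.toAbFunctor X) α β h

theorem abExt_mk₀ {G H : X.Modules} (f : G ⟶ H) :
    abExt (Ext.mk₀ f) = Ext.mk₀ ((QCoh.toAbFunctor X).map f) :=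
  haveI := preservesFiniteColimits_toAb X
  Ext.mapExactFunctor_mk₀ (F := QCoh.toAbFunctor X) f

theorem abExt_add {G H : X.Modules} {i : ℕ} (e e' : Abelian.Ext.{u} G H i) :
    abExt (e + e') = abExt e + abExt e' :=
  haveI := preservesFiniteColimits_toAb X
  by apply Ext.mapExactFunctor_add

theorem toAb_smulMod (M : X.Modules) (a : k) :
    (QCoh.toAbFunctor X).map (Formal.smulMod k M a) =
      Coh.smulAb M (Coh.toGlobal (X ↘ Spec (CommRingCat.of k)) a) := rfl

theorem smulMod_comm {G H : X.Modules} {i : ℕ} (e : Abelian.Ext.{u} G H i) (a : k) :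
    (Ext.mk₀ (Formal.smulMod k G a)).comp e (zero_add i) =
      e.comp (Ext.mk₀ (Formal.smulMod k H a)) (add_zero i) := by
  rw [← KLin.smul_id G a, ← KLin.smul_id H a, Ext.mk₀_smul, Ext.mk₀_smul, Ext.smul_comp, Ext.comp_smul,
    Ext.mk₀_id_comp, Ext.comp_mk₀_id]

variable (t : Coh.HH X ω N →ₗ[k] k)

/-- `y ↦ t (y ∪ e)`. -/
def pair {G : X.Modules} {i q : ℕ} (h : q + i = N) (e : Abelian.Ext.{u} G ω i) :
    Coh.HH X G q →ₗ[k] k where
  toFun y := t (Ext.comp y (abExt e) h)
  map_add' y y' := by rw [Ext.add_comp, map_add]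
  map_smul' a y := by
    refine Eq.trans (congrArg t ?_) (map_smul t a (Ext.comp y (abExt e) h))
    show (Ext.comp y (Ext.mk₀ (Coh.smulAb G (Coh.toGlobal (X ↘ Spec (CommRingCat.of k)) a))) (add_zero q)).comp
        (abExt e) h =
      (Ext.comp y (abExt e) h).comp
        (Ext.mk₀ (Coh.smulAb ω (Coh.toGlobal (X ↘ Spec (CommRingCat.of k)) a))) (add_zero N)
    rw [← toAb_smulMod (k := k), ← toAb_smulMod (k := k), ← abExt_mk₀, ← abExt_mk₀,
      Ext.comp_assoc y _ _ (add_zero q) (zero_add i) (by omega), ← abExt_comp, smulMod_comm e a, abExt_comp,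
      Ext.comp_assoc y _ _ h (add_zero i) (by omega)]

theorem pair_add {G : X.Modules} {i q : ℕ} (h : q + i = N) (e e' : Abelian.Ext.{u} G ω i) :
    pair t h (e + e') = pair t h e + pair t h e' := LinearMap.ext fun y => by
  show t _ = t _ + t _
  rw [abExt_add, Ext.comp_add, map_add]

theorem pair_mk₀_comp {G G' : X.Modules} {i q : ℕ} (h : q + i = N) (f : G ⟶ G')
    (e : Abelian.Ext.{u} G' ω i) (y : Coh.HH X G q) :
    pair t h ((Ext.mk₀ f).comp e (zero_add i)) y = pair t h e (Canon.HHlin k f q y) := by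
  show t (Ext.comp y (abExt ((Ext.mk₀ f).comp e (zero_add i))) h) =
    t ((Ext.comp y (Ext.mk₀ ((QCoh.toAbFunctor X).map f)) (add_zero q)).comp (abExt e) h)
  rw [abExt_comp, abExt_mk₀, Ext.comp_assoc y _ _ (add_zero q) (zero_add i) (by omega)]

theorem pair_mk₀ {G : X.Modules} (φ : G ⟶ ω) :
    pair t (add_zero N) (Ext.mk₀ φ) = Canon.dualityMap k X N ω t G φ := LinearMap.ext fun y => by
  show t (Ext.comp y (abExt (Ext.mk₀ φ)) (add_zero N)) = _
  rw [abExt_mk₀]
  rfl

theorem pair_delta {S : ShortComplex X.Modules} (hS : S.ShortExact) {i q : ℕ} (h : q + 1 + i = N)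
    (h' : q + (i + 1) = N) (e : Abelian.Ext.{u} S.X₁ ω i) (y : Coh.HH X S.X₃ q) :
    pair t h' (hS.extClass.comp e (add_comm 1 i)) y = pair t h e (deltaLin k hS q y) := by
  haveI := preservesFiniteColimits_toAb X
  have hd : abExt hS.extClass = (QCoh.toAb_shortExact hS).extClass :=
    Ext.mapExactFunctor_extClass (F := QCoh.toAbFunctor X) hS
  show t (Ext.comp y (abExt (hS.extClass.comp e (add_comm 1 i))) h') =
    t ((Ext.comp y (QCoh.toAb_shortExact hS).extClass rfl).comp (abExt e) h)
  refine congrArg t ?_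
  rw [abExt_comp, ← hd]
  exact (Ext.comp_assoc y (abExt hS.extClass) (abExt e) rfl (add_comm 1 i) (by omega)).symm

theorem pair_zero {G : X.Modules} {i q : ℕ} (h : q + i = N) : pair t h (0 : Abelian.Ext.{u} G ω i) = 0 := by
  have := pair_add t h (0 : Abelian.Ext.{u} G ω i) 0
  rwa [add_zero, left_eq_add] at this

theorem bijective_pair_zero {G : X.Modules} (hG : Function.Bijective (Canon.dualityMap k X N ω t G)) :
    Function.Bijective (pair t (add_zero N) (G := G)) := by
  refine ⟨fun e e' h => ?_, fun ψ => ?_⟩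
  · obtain ⟨φ, rfl⟩ := (Ext.mk₀_bijective _ _).2 e
    obtain ⟨φ', rfl⟩ := (Ext.mk₀_bijective _ _).2 e'
    rw [pair_mk₀, pair_mk₀] at h
    rw [hG.1 h]
  · obtain ⟨φ, hφ⟩ := hG.2 ψ
    exact ⟨Ext.mk₀ φ, (pair_mk₀ t φ).trans hφ⟩

/-- The pairing is perfect, by induction along presentations. -/
theorem bijective_pair (P : X.Modules → Prop)
    (htop : ∀ F, P F → Function.Bijective (Canon.dualityMap k X N ω t F))
    (hpres : ∀ F, P F → ∃ S : ShortComplex X.Modules, S.X₃ = F ∧ P S.X₁ ∧ PnDual.IsDualPres ω N t S) :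
    ∀ (i q : ℕ) (h : q + i = N) (G : X.Modules), P G → Function.Bijective (pair t h (G := G)) := by
  intro i
  induction i with
  | zero =>
    intro q h G hG
    obtain rfl : q = N := h
    exact bijective_pair_zero t (htop G hG)
  | succ i ih =>
    intro q h G hG
    obtain ⟨S, rfl, hK, hS, hext, hcoh, hDE⟩ := hpres G hG
    have h' : q + 1 + i = N := by omega
    have hb₁ := ih (q + 1) h' S.X₁ hK
    have hb₂ : Function.Surjective (pair t h' (G := S.X₂)) := by
      rcases Nat.eq_zero_or_pos i with rfl | hi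
      · obtain rfl : q + 1 = N := h'
        exact (bijective_pair_zero t hDE).2
      · haveI : Subsingleton (Coh.HH X S.X₂ (q + 1)) := hcoh _ (by omega)
        exact fun ψ => ⟨0, LinearMap.ext fun y => by rw [Subsingleton.elim y 0, map_zero, map_zero]⟩
    have hδ : Function.Injective (deltaLin k hS q) := (injective_iff_map_eq_zero _).2 fun x hx => by
      obtain ⟨y, rfl⟩ := exists_of_deltaLin_eq_zero k hS q hx
      rw [(hcoh q (by omega)).elim y 0, map_zero]
    refine ⟨fun x x' hxx => ?_, fun ψ => ?_⟩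
    · obtain ⟨e, he⟩ := PnDual.extDelta_surjective k hS i (hext (i + 1) (Nat.succ_pos i)) (x - x')
      replace he : hS.extClass.comp e (add_comm 1 i) = x - x' := he
      have h0 : pair t h (x - x') = 0 := by
        have := pair_add t h (x - x') x'
        rw [sub_add_cancel, hxx] at this
        exact right_eq_add.1 this |>.symm ▸ rfl
      have hsub : LinearMap.ker (Canon.HHlin k S.f (q + 1)) ≤ LinearMap.ker (pair t h' e) := fun z hz => by
        obtain ⟨y, rfl⟩ := (PnDual.HHlin_f_eq_zero_iff hS q z).1 (LinearMap.mem_ker.1 hz)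
        rw [LinearMap.mem_ker, ← pair_delta t hS h' h e y, he, h0]
        rfl
      obtain ⟨g, hg⟩ : pair t h' e ∈ LinearMap.range (Canon.HHlin k S.f (q + 1)).dualMap := by
        rw [LinearMap.range_dualMap_eq_dualAnnihilator_ker, Submodule.mem_dualAnnihilator]
        exact fun z hz => hsub hz
      obtain ⟨d, rfl⟩ := hb₂ g
      have hed : e = (Ext.mk₀ S.f).comp d (zero_add i) := hb₁.1 (LinearMap.ext fun z => by
        rw [pair_mk₀_comp, ← hg]
        rfl)
      rw [← sub_eq_zero, ← he, hed, ← Ext.comp_assoc_of_second_deg_zero, hS.extClass_comp, Ext.zero_comp]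
    · obtain ⟨g, hg⟩ := LinearMap.dualMap_surjective_of_injective hδ ψ
      obtain ⟨e, rfl⟩ := hb₁.2 g
      exact ⟨hS.extClass.comp e (add_comm 1 i), LinearMap.ext fun y =>
        (pair_delta t hS h' h e y).trans (LinearMap.congr_fun hg y)⟩

end Groth.Agent.ExtShX
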