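import Groth.Agent.ExtShX.AdjEdge
import Groth.Agent.ExtShX.PushH
import Groth.Agent.ExtShX.Pairing
import Groth.Agent.ExtShX.DualX
import Groth.Agent.ChangeRings.Basic
import Groth.Agent.Lib.PnDualExtPn
import Groth.Agent.Snapper.DimVanish
import Mathlib

/-!
# `Ext^c(ι_* O_X, ω_P)` is a dualizing sheaf of a closed subscheme `X` of projective space
-/

set_option autoImplicit false
set_option linter.style.haveILetI false
set_option linter.unusedSectionVars false
set_option backward.isDefEq.respectTransparency false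
set_option backward.isDefEq.respectTransparency.types false
set_option maxHeartbeats 1600000

universe u

open CategoryTheory CategoryTheory.Limits AlgebraicGeometry TopologicalSpace Opposite Abelian
open scoped ZeroObject

noncomputable section

namespace Groth.Agent.ExtShX

variable {k : Type u} [Field k] {N : ℕ} {X : Scheme.{u}} [X.Over (Spec (CommRingCat.of k))]
  (ι : X ⟶ CohB1.ProjSpace N k) [IsClosedImmersion ι]

local notation "ℙ" => CohB1.ProjSpace N k
local notation "Ω" => Twist.twistProjSpace N k (-((N : ℤ) + 1))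

/-- `H^p(X, M) → H^p(P, ι_* M)`, linearly. -/
def pushLin (hι : ι ≫ CohB1.ProjSpace.toSpec N k = X ↘ Spec (CommRingCat.of k)) (M : X.Modules) (p : ℕ) :
    Coh.HH X M p →ₗ[k] Coh.HH ℙ ((Scheme.Modules.pushforward ι).obj M) p where
  toFun := pushHMap (X := (ℙ).toPresheafedSpace.carrier) ι.isClosedEmbedding (Coh.toAb M) p
  map_add' := map_add _
  map_smul' a x := by
    show pushHMap (X := (ℙ).toPresheafedSpace.carrier) ι.isClosedEmbedding (Coh.toAb M) p
        (Sheaf.H.map (Coh.smulAb M (Coh.toGlobal (X ↘ Spec (CommRingCat.of k)) a)) p x) =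
      Sheaf.H.map (Coh.smulAb ((Coh.push ι).obj M) (Coh.toGlobal (ℙ ↘ Spec (CommRingCat.of k)) a)) p
        (pushHMap (X := (ℙ).toPresheafedSpace.carrier) ι.isClosedEmbedding (Coh.toAb M) p x)
    rw [PnCoh.smulAb_push]
    refine (pushHMap_natural _ _ p x).trans ?_
    rw [← hι]
    rfl

variable (hι : ι ≫ CohB1.ProjSpace.toSpec N k = X ↘ Spec (CommRingCat.of k))

theorem pushLin_bijective (M : X.Modules) (p : ℕ) : Function.Bijective (pushLin ι hι M p) :=
  pushHMap_bijective (X := (ℙ).toPresheafedSpace.carrier) ι.isClosedEmbedding p (Coh.toAb M)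

theorem pushLin_natural {M M' : X.Modules} (φ : M ⟶ M') (p : ℕ) (x : Coh.HH X M p) :
    pushLin ι hι M' p (Canon.HHlin k φ p x) =
      Canon.HHlin k ((Scheme.Modules.pushforward ι).map φ) p (pushLin ι hι M p x) :=
  pushHMap_natural (X := (ℙ).toPresheafedSpace.carrier) ι.isClosedEmbedding
    ((QCoh.toAbFunctor X).map φ) p x

include hι in
/-- The direct image of a module `ω` on `X` being `Ext^c(ι_* O_X, ω_P)`, `ω` represents the dual of `H^n`
on coherent modules, `n + c = N` being such that `dim X ≤ n`. -/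
theorem exists_trace_represents (n c : ℕ) (hc : n + c = N)
    (hdim : topologicalKrullDim ↥X ≤ (n : WithBot ℕ∞))
    [ModSite.HasSheafHom (O := (ℙ).sheaf) ((Scheme.Modules.pushforward ι).obj (Coh.structureModule X))]
    [HasInjectiveResolutions (ModSite.Mod (ℙ).sheaf)]
    {ω : X.Modules}
    (hω : Nonempty ((Scheme.Modules.pushforward ι).obj ω ≅
      (ModSite.extSh (O := (ℙ).sheaf) ((Scheme.Modules.pushforward ι).obj (Coh.structureModule X)) c).obj Ω)) :
    ∃ t : Coh.HH X ω n →ₗ[k] k, ∀ F : X.Modules, Coh.IsCoh F →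
      Function.Bijective (Canon.dualityMap k X n ω t F) := by
  classical
  let O := Coh.structureModule X
  let push : X.Modules ⥤ (ℙ).Modules := Scheme.Modules.pushforward ι
  haveI : EnoughInjectives (ℙ).Modules := IsGrothendieckAbelian.enoughInjectives
  haveI : HasExt.{u} (ℙ).Modules := inferInstance
  haveI := ChangeRings.preservesFiniteColimits_push ι
  haveI : push.PreservesMonomorphisms := inferInstanceAs (Scheme.Modules.pushforward ι).PreservesMonomorphisms
  haveI := ChangeRings.additive_tFun ι O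
  let e : ChangeRings.lFun ι O ≅ push :=
    Functor.isoWhiskerRight (KFlatLib.tensorStructureIso X : SheafHomX.ten O ≅ 𝟭 X.Modules) push ≪≫ push.leftUnitor
  let adj : push ⊣ ChangeRings.tFun ι O := (ChangeRings.tAdj ι O).ofNatIsoLeft e
  -- vanishing below `c`
  haveI := isLocallyNoetherian_pn (k := k) (r := N)
  haveI : IsProper (CohB1.ProjSpace.toSpec N k) := PnCoh.Chow.isProper_toSpec N k
  haveI : IsProper (X ↘ Spec (CommRingCat.of k)) := hι ▸ inferInstance
  haveI : IsLocallyNoetherian X := LocallyOfFiniteType.isLocallyNoetherian (X ↘ Spec (CommRingCat.of k))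
  haveI : CompactSpace ↥X := QuasiCompact.compactSpace_of_compactSpace (X ↘ Spec (CommRingCat.of k))
  haveI : IsNoetherian X := {}
  haveI : X.IsSeparated := ⟨by
    rw [← terminal.comp_from (X ↘ Spec (CommRingCat.of k))]
    infer_instance⟩
  have hvan : ∀ i, i < c → IsZero (((ChangeRings.tFun ι O).rightDerived i).obj Ω) := fun i hi => by
    have h0 : IsZero ((ModSite.extSh (O := (ℙ).sheaf) (push.obj O) i).obj Ω) := by
      refine (negTwist_vanishing_iff_isZero ι (N - i) i (Nat.sub_add_cancel (by omega))).1 ⟨0, fun m _ => ?_⟩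
      refine Snapper.subsingleton_HH_of_dim_lt (N - i) (⊤ : Closeds X) ?_ _ ?_ (Set.subset_univ _) _ le_rfl
      · rw [show topologicalKrullDim ↥((⊤ : Closeds X) : Set X) = topologicalKrullDim ↥X from
          IsHomeomorph.topologicalKrullDim_eq _ (Homeomorph.Set.univ ↥X).isHomeomorph]
        refine hdim.trans_lt ?_
        exact WithBot.coe_lt_coe.2 (ENat.natCast_lt_natCast.2 (by omega))
      · exact QCoh.isQCoh_of_isFP (QCoh.isFP_of_isFinLocFree (KZ.QuasiProj.flf_of_invertible
          (PicClLib.isInvertible_pullback ι (isInvertible_twistPn (k := k) (r := N) _))))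
    obtain ⟨e'⟩ := ChangeRings.nonempty_rightDerived_tFun ι O Ω i 0
      ⟨(push.map_isZero (isZero_zero _)).iso h0⟩
    exact (isZero_zero _).of_iso e'
  obtain ⟨eω⟩ := ChangeRings.nonempty_rightDerived_tFun ι O Ω c ω hω
  obtain ⟨e₀, he₀⟩ := exists_edgeClass adj Ω c hvan eω
  obtain ⟨tP⟩ := PnDual.exists_trace' (m := N) (R := k) (b := -((N : ℤ) + 1)) rfl
  refine ⟨(pair (N := N) tP.toLinearMap hc e₀).comp (pushLin ι hι ω n), fun F hF => ?_⟩
  have hb : Function.Bijective (pair (N := N) tP.toLinearMap hc (G := push.obj F)) :=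
    bijective_pair tP.toLinearMap PnDual.GoodPn (fun G hG => PnDual.bijective_top_pn tP hG)
      (fun G hG => PnDual.exists_dualPres tP hG) c n hc _ (PnDual.goodPn_of_isCoh (S0019.result ι F hF))
  let L := LinearEquiv.ofBijective (pushLin ι hι F n) (pushLin_bijective ι hι F n)
  have hfun : Canon.dualityMap k X n ω ((pair (N := N) tP.toLinearMap hc e₀).comp (pushLin ι hι ω n)) F =
      L.dualMap ∘ (pair (N := N) tP.toLinearMap hc) ∘
        fun φ : F ⟶ ω => (Ext.mk₀ (push.map φ)).comp e₀ (zero_add c) := by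
    funext φ
    refine LinearMap.ext fun x => ?_
    show pair (N := N) tP.toLinearMap hc e₀ (pushLin ι hι ω n (Canon.HHlin k φ n x)) = _
    rw [pushLin_natural]
    exact (pair_mk₀_comp tP.toLinearMap hc (push.map φ) e₀ (pushLin ι hι F n x)).symm
  rw [hfun]
  exact L.dualMap.bijective.comp (hb.comp (he₀ F))

end Groth.Agent.ExtShX
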