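import Groth.Agent.ExtShX.Resolution
import Mathlib

/-!
# The internal Hom into an injective module is flasque
-/

set_option autoImplicit false
set_option linter.style.haveILetI false
set_option maxHeartbeats 800000
set_option backward.isDefEq.respectTransparency false
set_option backward.isDefEq.respectTransparency.types false

universe u

open CategoryTheory CategoryTheory.Limits AlgebraicGeometry TopologicalSpace Opposite

namespace Groth.Agent.ExtShX

variable {X : Scheme.{u}}


/-- The canonical map `j_! O_U ⟶ O_X`. -/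
noncomputable def freeOnToUnit (U : X.Opens) : freeOn U ⟶ Coh.structureModule X :=
  ((KFlatLib.lshAdj U.ι).homEquiv _ _).symm (Scheme.Modules.restrictUnitIso U.ι).inv

theorem homEquiv_freeOnToUnit_comp (U : X.Opens) {M : X.Modules} (b : Coh.structureModule X ⟶ M) :
    ParaFX.homSectionsEquiv (M.restrict U.ι)
        ((KFlatLib.lshAdj U.ι).homEquiv _ _ (freeOnToUnit U ≫ b)) =
      M.presheaf.map (homOfLE (le_top : U.ι ''ᵁ ⊤ ≤ ⊤)).op (ParaFX.homSectionsEquiv M b) := by
  rw [Adjunction.homEquiv_naturality_right, freeOnToUnit, Equiv.apply_symm_apply,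
    ParaFX.homSectionsEquiv_comp]
  show b.app (U.ι ''ᵁ ⊤) ((U.ι.appIso ⊤).inv.hom 1) = _
  rw [map_one]
  exact (congrArg (b.app (U.ι ''ᵁ ⊤))
      (map_one (X.presheaf.map (homOfLE (le_top : U.ι ''ᵁ ⊤ ≤ ⊤)).op).hom).symm).trans
    (ConcreteCategory.congr_hom (b.mapPresheaf.naturality (homOfLE (le_top : U.ι ''ᵁ ⊤ ≤ ⊤)).op) (1 : Γ(X, ⊤)))

theorem isIso_restrict_freeOnToUnit (U : X.Opens) :
    IsIso ((Scheme.Modules.restrictFunctor U.ι).map (freeOnToUnit U)) := by
  have h : (KFlatLib.lshAdj U.ι).unit.app _ ≫ (Scheme.Modules.restrictFunctor U.ι).map (freeOnToUnit U) =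
      (Scheme.Modules.restrictUnitIso U.ι).inv := by
    exact (Adjunction.homEquiv_unit _ _ _ _).symm.trans (Equiv.apply_symm_apply _ _)
  haveI : IsIso ((KFlatLib.lshAdj U.ι).unit.app (Coh.structureModule (↑U : Scheme.{u})) ≫
      (Scheme.Modules.restrictFunctor U.ι).map (freeOnToUnit U)) :=
    h.symm ▸ (inferInstance : IsIso (Scheme.Modules.restrictUnitIso U.ι).inv)
  exact IsIso.of_isIso_comp_left ((KFlatLib.lshAdj U.ι).unit.app (Coh.structureModule (↑U : Scheme.{u}))) _

theorem mono_freeOnToUnit_tensor (U : X.Opens) (F : X.Modules) :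
    Mono ((DCoh.tensorBi.flip.obj F).map (freeOnToUnit U)) := by
  refine HomShX.mono_of_stalk _ fun x => (injective_iff_map_eq_zero _).2 fun z hz => ?_
  obtain ⟨t, rfl⟩ := (RefX2.stalkTmul_bijective (freeOn U) F x).2 z
  by_cases hx : x ∈ Set.range U.ι.base
  · obtain ⟨u, rfl⟩ := hx
    haveI := isIso_restrict_freeOnToUnit U
    have hb := ConcreteCategory.bijective_of_isIso
      ((DerSch.stalkFunctor _ u).map ((Scheme.Modules.restrictFunctor U.ι).map (freeOnToUnit U)))
    let φ := LinearEquiv.ofBijective (RefHull.stalkMapₗ (freeOnToUnit U) (U.ι.base u))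
      ⟨KFlatLib.injective_stalk_of_restrict U.ι _ u hb.1, KFlatLib.surjective_stalk_of_restrict U.ι _ u hb.2⟩
    have h := LinearMap.congr_fun (TensorProduct.ext'
      (g := (RefHull.stalkMapₗ ((DCoh.tensorBi.flip.obj F).map (freeOnToUnit U)) (U.ι.base u)).comp
        (RefX2.stalkTmul (freeOn U) F (U.ι.base u)))
      (h := (RefX2.stalkTmul (Coh.structureModule X) F (U.ι.base u)).comp
        (LinearEquiv.rTensor (F.presheaf.stalk (U.ι.base u)) φ).toLinearMap)
      (fun a v => stalk_tenMap F (freeOnToUnit U) _ a v)) t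
    have h0 : LinearEquiv.rTensor _ φ t = 0 :=
      (RefX2.stalkTmul_bijective (Coh.structureModule X) F _).1 ((h.symm.trans hz).trans (map_zero _).symm)
    rw [show t = 0 from (LinearEquiv.rTensor _ φ).map_eq_zero_iff.1 h0, map_zero]
  · haveI : Subsingleton ((freeOn U).presheaf.stalk x) :=
      ModuleCat.subsingleton_of_isZero (KFlatLib.isZero_stalk_lsh U.ι x hx _)
    rw [Subsingleton.elim t 0, map_zero]

theorem surjective_map_of_extend {M : X.Modules} (U V : X.Opens) (h : U ≤ V)
    (hext : ∀ a : freeOn U ⟶ M, ∃ b : Coh.structureModule X ⟶ M, freeOnToUnit U ≫ b = a) :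
    Function.Surjective (M.presheaf.map (homOfLE h).op) := by
  intro s
  have hW : U.ι ''ᵁ ⊤ = U := U.ι_image_top
  obtain ⟨b, hb⟩ := hext (((KFlatLib.lshAdj U.ι).homEquiv _ _).symm
    ((ParaFX.homSectionsEquiv (M.restrict U.ι)).symm (M.presheaf.map (homOfLE hW.le).op s)))
  have hs : M.presheaf.map (homOfLE hW.le).op s =
      M.presheaf.map (homOfLE (le_top : U.ι ''ᵁ ⊤ ≤ ⊤)).op (ParaFX.homSectionsEquiv M b) := by
    have hs := homEquiv_freeOnToUnit_comp U b
    rw [hb] at hs
    refine Eq.trans ?_ hs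
    exact ((congrArg (ParaFX.homSectionsEquiv (M.restrict U.ι))
      (((KFlatLib.lshAdj U.ι).homEquiv _ _).apply_symm_apply _)).trans (Equiv.apply_symm_apply _ _)).symm
  refine ⟨M.presheaf.map (homOfLE (le_top : V ≤ ⊤)).op (ParaFX.homSectionsEquiv M b), ?_⟩
  rw [res_res' M h le_top, ← res_res' M hW.ge le_top, ← hs]
  exact (res_res' M hW.ge hW.le s).trans (ConcreteCategory.congr_hom (M.presheaf.map_id (op U)) s)

theorem extend_of_injective (F : X.Modules) [ModSite.HasSheafHom (O := X.sheaf) F] (I : X.Modules)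
    [Injective I] (U : X.Opens) (a : freeOn U ⟶ (SH F).obj I) :
    ∃ b : Coh.structureModule X ⟶ (SH F).obj I, freeOnToUnit U ≫ b = a := by
  let τ : (DCoh.tensorBi.obj (freeOn U)).obj F ⟶ (DCoh.tensorBi.obj (Coh.structureModule X)).obj F :=
    (DCoh.tensorBi.map (freeOnToUnit U)).app F
  haveI : Mono τ := mono_freeOnToUnit_tensor U F
  let m : (DCoh.tensorBi.obj (Coh.structureModule X)).obj F ⟶ I := Injective.factorThru (mate a) τ
  refine ⟨mate.symm m, mate.injective ?_⟩
  have e : mate (freeOnToUnit U ≫ mate.symm m) = τ ≫ mate (mate.symm m) :=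
    Adjunction.homEquiv_naturality_left_symm (ModSite.sheafHomAdj (O := X.sheaf) F) (freeOnToUnit U) (mate.symm m)
  rw [e, Equiv.apply_symm_apply]
  exact Injective.comp_factorThru _ _

theorem surjective_map_of_injective (F : X.Modules) [ModSite.HasSheafHom (O := X.sheaf) F] (I : X.Modules)
    [Injective I] (U V : X.Opens) (h : U ≤ V) :
    Function.Surjective (((SH F).obj I).presheaf.map (homOfLE h).op) :=
  surjective_map_of_extend U V h (extend_of_injective F I U)

end Groth.Agent.ExtShX
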