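import Groth.Agent.ExtShX.Compare
import Groth.Agent.ExtShX.Injective
import Groth.Agent.ExtShX.RingExt
import Groth.Agent.SiteBase.DerivedPrecomp
import Groth.Agent.KFlatLib.Scheme.Exact
import Groth.Agent.QCoh.Support
import Mathlib

/-!
# Stalks of the local Ext sheaves
-/

set_option autoImplicit false
set_option linter.style.haveILetI false
set_option backward.isDefEq.respectTransparency false
set_option backward.isDefEq.respectTransparency.types false

universe u

open CategoryTheory CategoryTheory.Limits AlgebraicGeometry TopologicalSpace Opposite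
open scoped TensorProduct

namespace Groth.Agent.ExtShX

open RefHull (stalkMapₗ stalkMapₗ_germ)

variable {X : Scheme.{u}} (F : X.Modules) [ModSite.HasSheafHom (O := X.sheaf) F]

theorem evL_bijective (hF : CohB1.IsFP F) (G : X.Modules) (x : X) : Function.Bijective (evL F G x) := by
  have h : (evL F G x : _ → _) = RefHull.evalStalk F G x ∘ stalkMapₗ (toHomSh F G) x :=
    funext fun θ => (evalStalk_toHomSh F G x θ).symm
  rw [h]
  refine (RefX.evalStalk_bijective hF x).comp ?_
  haveI : IsIso (toHomSh F G) := (iso F G).isIso_hom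
  exact ⟨fun a b e => by
      have h' := congrArg (stalkMapₗ (inv (toHomSh F G)) x) e
      rwa [← LinearMap.comp_apply, ← LinearMap.comp_apply, ← HomShX.stalkMapₗ_comp, IsIso.hom_inv_id,
        HomShX.stalkMapₗ_id] at h',
    fun b => ⟨stalkMapₗ (inv (toHomSh F G)) x b, by
      rw [← LinearMap.comp_apply, ← HomShX.stalkMapₗ_comp, IsIso.inv_hom_id, HomShX.stalkMapₗ_id]; rfl⟩⟩

theorem evL_natural {G G' : X.Modules} (p : G ⟶ G') (x : X) (θ : (shHom F G).presheaf.stalk x) :
    evL F G' x (stalkMapₗ ((ModSite.sheafHom (O := X.sheaf) F).map p) x θ) =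
      (stalkMapₗ p x).comp (evL F G x θ) := by
  refine LinearMap.ext fun v => ?_
  rw [evL_apply, LinearMap.comp_apply, evL_apply, ← stalk_tenMap F ((ModSite.sheafHom (O := X.sheaf) F).map p) x]
  have hnat : ((ModSite.tensorBi X.sheaf).flip.obj F).map ((ModSite.sheafHom (O := X.sheaf) F).map p) ≫ evT F G' =
      evT F G ≫ p := (ModSite.sheafHomAdj (O := X.sheaf) F).counit.naturality p
  refine ((LinearMap.congr_fun (HomShX.stalkMapₗ_comp
    (((ModSite.tensorBi X.sheaf).flip.obj F).map ((ModSite.sheafHom (O := X.sheaf) F).map p)) (evT F G') x) _).symm.trans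
      (congrArg (fun k => stalkMapₗ k x (RefX2.stalkTmul (shHom F G) F x (θ ⊗ₜ v))) hnat)).trans ?_
  exact LinearMap.congr_fun (HomShX.stalkMapₗ_comp (evT F G) p x) _

/-- Stalks of the internal Hom out of a finitely presented module. -/
noncomputable def stalkHomIso (hF : CohB1.IsFP F) (x : X) :
    ((ModSite.sheafHom (O := X.sheaf) F : X.Modules ⥤ X.Modules) ⋙ DerSch.stalkFunctor X x) ≅
      DerSch.stalkFunctor X x ⋙ homL ((DerSch.stalkFunctor X x).obj F) :=
  NatIso.ofComponents
    (fun G => ((LinearEquiv.ofBijective (evL F G x) (evL_bijective F hF G x)).trans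
      (ModuleCat.homLinearEquiv (S := X.presheaf.stalk x) (M := (DerSch.stalkFunctor X x).obj F)
        (N := (DerSch.stalkFunctor X x).obj G)).symm).toModuleIso)
    (fun {G G'} p => ModuleCat.hom_ext (LinearMap.ext fun θ => ModuleCat.hom_ext (evL_natural F p x θ)))

theorem nonempty_stalk_extSh [IsLocallyNoetherian X] [HasInjectiveResolutions (ModSite.Mod X.sheaf)]
    (hF : CohB1.IsFP F) (G : X.Modules) (x : X) (i : ℕ) :
    Nonempty ((DerSch.stalkFunctor X x).obj ((ModSite.extSh (O := X.sheaf) F i).obj G) ≅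
      ModuleCat.of (X.presheaf.stalk x)
        (Abelian.Ext ((DerSch.stalkFunctor X x).obj F) ((DerSch.stalkFunctor X x).obj G) i)) := by
  haveI : HasInjectiveResolutions X.Modules := ‹HasInjectiveResolutions (ModSite.Mod X.sheaf)›
  haveI : EnoughInjectives X.Modules := SpObjSS.enoughInjectives_of_hasInjectiveResolutions (C := ModSite.Mod X.sheaf)
  haveI : (DerSch.stalkFunctor X x).Additive := Functor.additive_of_preserves_binary_products _
  haveI : (DerSch.stalkFunctor X x).PreservesInjectiveObjects := ⟨fun {Q} hQ => @injective_stalk X Q _ hQ x⟩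
  let SH : X.Modules ⥤ X.Modules := ModSite.sheafHom (O := X.sheaf) F
  haveI : SH.Additive := ModSite.sheafHom_additive X.sheaf F
  let e := (SiteBase.rightDerivedCompIso SH (DerSch.stalkFunctor X x) i).symm ≪≫
    SiteBase.rightDerivedCongr (stalkHomIso F hF x) i ≪≫
      SiteBase.rightDerivedPrecompIso (DerSch.stalkFunctor X x) (homL ((DerSch.stalkFunctor X x).obj F)) i
  obtain ⟨f⟩ := nonempty_rightDerived_homL ((DerSch.stalkFunctor X x).obj F) ((DerSch.stalkFunctor X x).obj G) i
  exact ⟨e.app G ≪≫ f.toModuleIso⟩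

end Groth.Agent.ExtShX
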