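import Groth.Agent.ExtShX.ZigZag
import Groth.Agent.ExtShX.StalkClosed
import Groth.Agent.ExtShX.Stalk
import Groth.Agent.KRegLib.WeakReg
import Groth.Agent.RegNear.Basic
import Groth.Agent.H23.ClosedPushLen
import Groth.Agent.H23.UnitSec
import Groth.Agent.Synt29.OmegaStalk
import Groth.Prelude.Def_RegImm
import Mathlib

/-!
# Local data for the fundamental local isomorphism
-/

set_option autoImplicit false
set_option linter.style.haveILetI false
set_option linter.unusedSectionVars false
set_option backward.isDefEq.respectTransparency false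
set_option backward.isDefEq.respectTransparency.types false

universe u

open CategoryTheory CategoryTheory.Limits AlgebraicGeometry TopologicalSpace Opposite
open Groth.Agent.WiebeLib

noncomputable section

namespace Groth.Agent.ExtShX.Fund

/-- Cochains into an injective module on an exact Koszul complex are exact. -/
theorem exists_δ_of_injective {A : Type u} [CommRing A] {r : ℕ} {f : Fin r → A} (hf : IsExact f)
    (M : Type u) [AddCommGroup M] [Module A M] [Module.Injective A M] (k : ℕ) (y : Idx r (k + 1) → M)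
    (hy : ZigZag.δ f (k + 1) y = 0) : ∃ z, ZigZag.δ f k z = y := by
  let φ : Ko A r (k + 1) →ₗ[A] M :=
    { toFun := fun v => ∑ i, v i • y i
      map_add' := fun v w => by simp [add_smul, Finset.sum_add_distrib]
      map_smul' := fun a v => by simp [mul_smul, Finset.smul_sum] }
  have hker : LinearMap.ker (d r f k) ≤ LinearMap.ker φ := fun v hv => by
    obtain ⟨w, rfl⟩ := hf k v hv
    show ∑ i, d r f (k + 1) w i • y i = 0
    rw [ZigZag.sum_coch]
    show ∑ i, w i • ZigZag.δ f (k + 1) y i = 0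
    simp [hy]
  let φ' : LinearMap.range (d r f k) →ₗ[A] M :=
    ((LinearMap.ker (d r f k)).liftQ φ hker) ∘ₗ (d r f k).quotKerEquivRange.symm.toLinearMap
  obtain ⟨ψ, hψ⟩ := Module.Injective.out (R := A) (Q := M) (LinearMap.range (d r f k)).subtype
    (Submodule.injective_subtype _) φ'
  refine ⟨fun l => ψ (Pi.single l 1), funext fun i => ?_⟩
  let v : Ko A r k := d r f k (Pi.single i 1)
  have hv : v = ∑ l, v l • (Pi.single l 1 : Ko A r k) := by
    funext j
    simp [Finset.sum_apply, Pi.single_apply]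
  calc ∑ l, v l • ψ (Pi.single l 1) = ψ v := by
        conv_rhs => rw [hv]
        simp [map_sum, map_smul]
    _ = φ' ⟨v, ⟨_, rfl⟩⟩ := hψ ⟨v, ⟨_, rfl⟩⟩
    _ = φ (Pi.single i 1) := by
        show (LinearMap.ker (d r f k)).liftQ φ hker ((d r f k).quotKerEquivRange.symm ⟨d r f k (Pi.single i 1), _⟩) = _
        rw [LinearMap.quotKerEquivRange_symm_apply_image]
        rfl
    _ = y i := by simp [φ, Pi.single_apply]

variable {P X : Scheme.{u}} (ι : X ⟶ P) [IsClosedImmersion ι]

/-- `ι_* O_X`. -/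
abbrev OX : P.Modules := (Scheme.Modules.pushforward ι).obj (Coh.structureModule X)

/-- The germ of `1`. -/
def one (x : P) : (OX ι).presheaf.stalk x :=
  (OX ι).presheaf.germ ⊤ x trivial (H23.UnitSec.oneG (ι ⁻¹ᵁ ⊤) : Γ(Coh.structureModule X, ι ⁻¹ᵁ ⊤))

theorem stalkPushEquiv_germ (M : X.Modules) (a : X) (U : P.Opens) (hU : ι a ∈ U) (m : Γ(M, ι ⁻¹ᵁ U)) :
    stalkPushEquiv ι M a (((Scheme.Modules.pushforward ι).obj M).presheaf.germ U (ι a) hU m) =
      M.presheaf.germ (ι ⁻¹ᵁ U) a hU m :=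
  TopCat.Presheaf.stalkPushforward_germ_apply Ab.{u} ι.base M.presheaf U a hU m

theorem stalkPushEquiv_one (a : X) :
    stalkPushEquiv ι (Coh.structureModule X) a (one ι (ι a)) = H23.UnitSec.one a :=
  (stalkPushEquiv_germ ι _ a ⊤ trivial _).trans (H23.UnitSec.germ_oneG _ _)

theorem span_one (x : P) : Function.Surjective fun c : P.presheaf.stalk x => c • one ι x := by
  intro v
  by_cases hx : x ∈ Set.range ι
  · obtain ⟨a, rfl⟩ := hx
    obtain ⟨c, hc⟩ := Submodule.mem_span_singleton.1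
      ((H23.UnitSec.span_one a).ge (Submodule.mem_top : stalkPushEquiv ι _ a v ∈ ⊤))
    obtain ⟨c', rfl⟩ := ι.stalkMap_surjective a c
    refine ⟨c', (stalkPushEquiv ι _ a).injective ?_⟩
    show stalkPushEquiv ι (Coh.structureModule X) a (c' • one ι (ι a)) = _
    rw [stalkPushEquiv_smul, stalkPushEquiv_one]
    exact hc
  · haveI := H23.ClosedPushLen.subsingleton_stalk (f := ι) (Coh.structureModule X) hx
    exact ⟨0, Subsingleton.elim _ _⟩

/-- The ideal of `X` in the local ring at `x`. -/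
def Jst (x : P) : Ideal (P.presheaf.stalk x) :=
  LinearMap.ker (LinearMap.toSpanSingleton (P.presheaf.stalk x) ((OX ι).presheaf.stalk x) (one ι x))

theorem mem_Jst {x : P} {c : P.presheaf.stalk x} : c ∈ Jst ι x ↔ c • one ι x = 0 := Iff.rfl

theorem Jst_eq_ker (a : X) : Jst ι (ι a) = RingHom.ker (ι.stalkMap a).hom := by
  ext c
  rw [mem_Jst, RingHom.mem_ker, ← (stalkPushEquiv ι (Coh.structureModule X) a).map_eq_zero_iff,
    stalkPushEquiv_smul, stalkPushEquiv_one]
  exact ⟨H23.UnitSec.eq_zero_of_smul_one _, fun h => by rw [h, zero_smul]⟩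

theorem Jst_eq_top {x : P} (hx : x ∉ Set.range ι) : Jst ι x = ⊤ := by
  haveI := H23.ClosedPushLen.subsingleton_stalk (f := ι) (Coh.structureModule X) hx
  exact eq_top_iff.2 fun c _ => (mem_Jst ι).2 (Subsingleton.elim _ _)

/-- A chart on which `X` is cut out by a regular sequence. -/
structure Chart (r : ℕ) where
  U : P.Opens
  hU : IsAffineOpen U
  f : Fin r → Γ(P, U)
  exact₀ : IsExact f
  exact' : ∀ (x : P) (hx : x ∈ U), IsExact fun i => P.presheaf.germ U x hx (f i)
  span : ∀ (x : P) (hx : x ∈ U), Jst ι x = Ideal.span (Set.range fun i => P.presheaf.germ U x hx (f i))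
  app_eq : ∀ i, ι.app U (f i) = 0

theorem exists_chart {r : ℕ} (hι : RegImm.IsRegularImmersionOfCodim RegImm.Kind.regular r ι) (a : X) :
    ∃ c : Chart ι r, ι a ∈ c.U := by
  classical
  obtain ⟨-, h⟩ := hι
  obtain ⟨U, hxU, -, rs, hlen, hrs, hker⟩ := h a
  let f : Fin r → Γ(P, U.1) := fun i => rs.get (Fin.cast hlen.symm i)
  have hof : List.ofFn f = rs := by
    subst hlen
    exact List.ofFn_getElem
  have hrange : Set.range f = {y | y ∈ rs} := Set.ext fun y => by
    rw [Set.mem_range, ← List.mem_ofFn, hof]; rfl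
  have hker' : RingHom.ker (ι.app U.1).hom = Ideal.span (Set.range f) := by rw [hker, hrange]
  have hex : IsExact f := KRegLib.isExact_of_isWeaklyRegular f (hof ▸ hrs.toIsWeaklyRegular)
  refine ⟨⟨U.1, U.2, f, hex, fun x hx => ?_, fun x hx => ?_, fun i => ?_⟩, hxU⟩
  · letI : Algebra Γ(P, U.1) (P.presheaf.stalk x) := P.presheaf.algebra_section_stalk ⟨x, hx⟩
    haveI := U.2.isLocalization_stalk ⟨x, hx⟩
    haveI : Module.Flat Γ(P, U.1) (P.presheaf.stalk x) :=
      IsLocalization.flat _ (U.2.primeIdealOf ⟨x, hx⟩).asIdeal.primeCompl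
    exact isExact_map hex
  · rw [show (Set.range fun i => P.presheaf.germ U.1 x hx (f i)) = (P.presheaf.germ U.1 x hx).hom '' Set.range f from
      Set.range_comp _ f, ← Ideal.map_span, ← hker']
    by_cases hr : x ∈ Set.range ι
    · obtain ⟨b, rfl⟩ := hr
      rw [Jst_eq_ker, RegNear.ker_stalkMap ι b U.2 hx]
    · rw [Jst_eq_top ι hr, eq_comm, Ideal.eq_top_iff_one]
      let V : P.Opens := U.1 ⊓ ⟨(Set.range ι)ᶜ, ι.isClosedEmbedding.isClosed_range.isOpen_compl⟩
      obtain ⟨g, hgV, hxg⟩ := U.2.exists_basicOpen_le (V := V) ⟨x, hx, hr⟩ hx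
      have h0 : X.basicOpen (ι.app U.1 g) = ⊥ := by
        rw [← Scheme.preimage_basicOpen]
        exact eq_bot_iff.2 fun b hb => (hgV hb).2 ⟨b, rfl⟩
      obtain ⟨m, hm⟩ := (Scheme.isNilpotent_iff_basicOpen_eq_bot_of_isCompact (U.2.preimage ι).isCompact _).2 h0
      have hu : IsUnit (P.presheaf.germ U.1 x hx g) := (P.mem_basicOpen g x hx).1 hxg
      have hmem : P.presheaf.germ U.1 x hx (g ^ m) ∈ (RingHom.ker (ι.app U.1).hom).map (P.presheaf.germ U.1 x hx).hom :=
        Ideal.mem_map_of_mem _ (RingHom.mem_ker.2 (by rw [map_pow]; exact hm))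
      rw [map_pow] at hmem
      exact (Ideal.eq_top_iff_one _).1 (Ideal.eq_top_of_isUnit_mem _ hmem (hu.pow m))
  · exact RingHom.mem_ker.1 (hker'.ge (Ideal.subset_span ⟨i, rfl⟩))

end Groth.Agent.ExtShX.Fund
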