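import Groth.Agent.ExtShX.FundStalk
import Mathlib

/-!
# Spreading Koszul zigzags from a stalk to a neighbourhood
-/

set_option autoImplicit false
set_option linter.style.haveILetI false
set_option linter.unusedSectionVars false
set_option backward.isDefEq.respectTransparency false
set_option backward.isDefEq.respectTransparency.types false

universe u

open CategoryTheory CategoryTheory.Limits AlgebraicGeometry TopologicalSpace Opposite
open Groth.Agent.WiebeLib
open RefHull (stalkMapₗ stalkMapₗ_germ)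

noncomputable section

namespace Groth.Agent.ExtShX.Fund

variable {P : Scheme.{u}}

/-- A morphism on sections, linearly. -/
def appₗ {M N : P.Modules} (p : M ⟶ N) (W : P.Opens) : Γ(M, W) →ₗ[Γ(P, W)] Γ(N, W) where
  toFun := p.app W
  map_add' := map_add _
  map_smul' a m := Scheme.Modules.Hom.app_smul p a m

/-- The germ, semilinearly. -/
def germₛ (M : P.Modules) (W : P.Opens) (x : P) (hx : x ∈ W) :
    Γ(M, W) →ₛₗ[(P.presheaf.germ W x hx).hom] M.presheaf.stalk x where
  toFun := M.presheaf.germ W x hx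
  map_add' := map_add _
  map_smul' a m := QCoh.germ_smul' M hx a m

/-- Restriction, semilinearly. -/
def resₛ (M : P.Modules) {W W' : P.Opens} (h : W' ≤ W) :
    Γ(M, W) →ₛₗ[AModX.resR h] Γ(M, W') where
  toFun := AModX.res M h
  map_add' := map_add (M.presheaf.map (homOfLE h).op).hom
  map_smul' a m := AModX.res_smul h a m

theorem exists_common {M : P.Modules} {x : P} {J : Type*} [Fintype J] {W : P.Opens} (hx : x ∈ W)
    (v : J → M.presheaf.stalk x) :
    ∃ (W' : P.Opens) (_ : W' ≤ W) (hx' : x ∈ W') (s : J → Γ(M, W')), ∀ j, M.presheaf.germ W' x hx' (s j) = v j := by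
  classical
  choose V hV s hs using fun j => TopCat.Presheaf.exists_germ_eq M.presheaf (v j)
  let W' : P.Opens := W ⊓ Finset.univ.inf V
  have hx' : x ∈ W' := ⟨hx, by
    show x ∈ ((Finset.univ.inf V : P.Opens) : Set P)
    simp [TopologicalSpace.Opens.coe_finset_inf, hV]⟩
  have hle : ∀ j, W' ≤ V j := fun j => inf_le_right.trans (Finset.inf_le (Finset.mem_univ j))
  exact ⟨W', inf_le_left, hx', fun j => AModX.res M (hle j) (s j), fun j => by rw [RefX.germ_res, hs]⟩

theorem exists_res_eq {M : P.Modules} {x : P} {J : Type*} [Fintype J] {W : P.Opens} (hx : x ∈ W)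
    (a b : J → Γ(M, W)) (h : ∀ j, M.presheaf.germ W x hx (a j) = M.presheaf.germ W x hx (b j)) :
    ∃ (W' : P.Opens) (hle : W' ≤ W) (_ : x ∈ W'), ∀ j, AModX.res M hle (a j) = AModX.res M hle (b j) := by
  classical
  choose V hV i i' he using fun j => TopCat.Presheaf.germ_eq (C := AddCommGrpCat.{u}) M.presheaf x hx hx _ _ (h j)
  let W' : P.Opens := W ⊓ Finset.univ.inf V
  have hx' : x ∈ W' := ⟨hx, by
    show x ∈ ((Finset.univ.inf V : P.Opens) : Set P)
    simp [TopologicalSpace.Opens.coe_finset_inf, hV]⟩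
  have hle : ∀ j, W' ≤ V j := fun j => inf_le_right.trans (Finset.inf_le (Finset.mem_univ j))
  refine ⟨W', inf_le_left, hx', fun j => ?_⟩
  have h' := congrArg (AModX.res M (hle j)) (show AModX.res M (i j).le (a j) = AModX.res M (i' j).le (b j) from he j)
  rwa [AModX.res_res, AModX.res_res] at h'

variable {F : P.Modules} (I : InjectiveResolution F)

/-- The augmentation. -/
abbrev εh : F ⟶ I.cocomplex.X 0 := I.ι.f 0

/-- The differentials on stalks. -/
abbrev di (x : P) (j : ℕ) :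
    (I.cocomplex.X j).presheaf.stalk x →ₗ[P.presheaf.stalk x] (I.cocomplex.X (j + 1)).presheaf.stalk x :=
  stalkMapₗ (I.cocomplex.d j (j + 1)) x

theorem εh_injective (x : P) : Function.Injective (stalkMapₗ (εh I) x) :=
  stalk_injective_of_mono _ x

theorem di_εh (x : P) (m : F.presheaf.stalk x) : di I x 0 (stalkMapₗ (εh I) x m) = 0 :=
  stalk_comp_zero (εh I) _ I.ι_f_zero_comp_complex_d x m

theorem di_di (x : P) (j : ℕ) (v : (I.cocomplex.X j).presheaf.stalk x) : di I x (j + 1) (di I x j v) = 0 :=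
  stalk_comp_zero _ _ (I.cocomplex.d_comp_d j (j + 1) (j + 2)) x v

theorem exists_εh (x : P) (v : (I.cocomplex.X 0).presheaf.stalk x) (hv : di I x 0 v = 0) :
    ∃ m, stalkMapₗ (εh I) x m = v :=
  stalk_exact_elem (ShortComplex.exact_of_f_is_kernel
    (ShortComplex.mk (εh I) (I.cocomplex.d 0 1) I.ι_f_zero_comp_complex_d) I.isLimitKernelFork) x v hv

theorem exists_di (x : P) (j : ℕ) (v : (I.cocomplex.X (j + 1)).presheaf.stalk x) (hv : di I x (j + 1) v = 0) :
    ∃ z, di I x j z = v :=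
  stalk_exact_elem (I.exact_succ j) x v hv

theorem column {U : P.Opens} (hU : IsAffineOpen U) {x : P} (hx : x ∈ U) {r : ℕ} {f : Fin r → Γ(P, U)}
    (hf : IsExact f) (j k : ℕ) (y : Idx r (k + 1) → (I.cocomplex.X j).presheaf.stalk x)
    (hy : ZigZag.δ (fun i => P.presheaf.germ U x hx (f i)) (k + 1) y = 0) :
    ∃ z, ZigZag.δ (fun i => P.presheaf.germ U x hx (f i)) k z = y := by
  let M := I.cocomplex.X j
  haveI : Injective M := I.injective j
  obtain ⟨W₁, h₁, hx₁, s₁, hs₁⟩ := exists_common (M := M) hx y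
  let f₁ : Fin r → Γ(P, W₁) := fun i => AModX.resR h₁ (f i)
  have hf₁ : (fun i => P.presheaf.germ W₁ x hx₁ (f₁ i)) = fun i => P.presheaf.germ U x hx (f i) :=
    funext fun i => RefX.germ_resR _ hx₁ (f i)
  obtain ⟨W₂, h₂, hx₂, he⟩ := exists_res_eq (M := M) hx₁ (ZigZag.δ f₁ (k + 1) s₁) 0 (fun i => by
    have h0 := congrFun hy i
    refine (((ZigZag.δ_map (f := f₁) (germₛ M W₁ x hx₁) (k + 1) s₁ i).symm.trans ?_).trans h0).trans
      (map_zero _).symm
    exact congrArg₂ (fun g y => ZigZag.δ g (k + 1) y i) hf₁ (funext hs₁))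
  obtain ⟨g, hg, hxg⟩ := hU.exists_basicOpen_le (V := W₂) ⟨x, hx₂⟩ hx
  replace hxg : x ∈ P.basicOpen g := hxg
  letI : Algebra Γ(P, U) Γ(P, P.basicOpen g) := (AModX.resR (P.basicOpen_le g)).toAlgebra
  haveI : IsLocalization.Away g Γ(P, P.basicOpen g) := hU.isLocalization_basicOpen g
  haveI : Module.Flat Γ(P, U) Γ(P, P.basicOpen g) := IsLocalization.flat _ (Submonoid.powers g)
  haveI := injective_sections (G := M) (hU.basicOpen g)
  let fg : Fin r → Γ(P, P.basicOpen g) := fun i => AModX.resR (P.basicOpen_le g) (f i)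
  have hfg : IsExact fg := isExact_map hf
  let s : Idx r (k + 1) → Γ(M, P.basicOpen g) := fun i => AModX.res M (hg.trans h₂) (s₁ i)
  have hs : ZigZag.δ fg (k + 1) s = 0 := funext fun i => by
    have h1 : AModX.res M (hg.trans h₂) (ZigZag.δ f₁ (k + 1) s₁ i) = 0 := by
      rw [← AModX.res_res h₂ hg, he i]
      show M.presheaf.map (homOfLE hg).op (M.presheaf.map (homOfLE h₂).op 0) = 0
      rw [map_zero, map_zero]
    refine Eq.trans ?_ h1
    refine Eq.trans ?_ (ZigZag.δ_map (f := f₁) (resₛ M (hg.trans h₂)) (k + 1) s₁ i)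
    exact congrArg (fun q => ZigZag.δ q (k + 1) s i) (funext fun t => (AModX.resR_resR _ _ (f t)).symm)
  obtain ⟨z, hz⟩ := exists_δ_of_injective hfg _ k s hs
  refine ⟨fun i => M.presheaf.germ (P.basicOpen g) x hxg (z i), funext fun i => ?_⟩
  rw [← hs₁ i]
  refine Eq.trans ?_ (RefX.germ_res M (hg.trans h₂) hxg (s₁ i))
  show _ = M.presheaf.germ (P.basicOpen g) x hxg (s i)
  rw [← hz]
  refine Eq.trans ?_ (ZigZag.δ_map (f := fg) (germₛ M (P.basicOpen g) x hxg) k z i)
  exact congrArg (fun q => ZigZag.δ q k _ i) (funext fun t => (RefX.germ_resR (P.basicOpen_le g) hxg (f t)).symm)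

variable {r : ℕ}

/-- Sections lifting a zigzag of germs. -/
theorem spread (x : P) : ∀ (j k : ℕ), k + j = r → ∀ (W : P.Opens) (hx : x ∈ W) (f : Fin r → Γ(P, W))
    (xs : Idx r k → Γ(I.cocomplex.X j, W)) (W₀ : ∀ k, Idx r k → F.presheaf.stalk x),
    ZigZag.Lift (fun i => P.presheaf.germ W x hx (f i)) (di I x) (stalkMapₗ (εh I) x) j k
      (fun i => (I.cocomplex.X j).presheaf.germ W x hx (xs i)) W₀ →
    ∃ (W' : P.Opens) (h : W' ≤ W) (hx' : x ∈ W') (Ws : ∀ k, Idx r k → Γ(F, W')),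
      ZigZag.Lift (fun i => AModX.resR h (f i)) (fun j => appₗ (I.cocomplex.d j (j + 1)) W') (appₗ (εh I) W') j k
          (fun i => AModX.res (I.cocomplex.X j) h (xs i)) Ws ∧
        F.presheaf.germ W' x hx' (Ws r (ZigZag.top r)) = W₀ r (ZigZag.top r)
  | 0, k, hk, W, hx, f, xs, W₀, hl => by
    obtain rfl : k = r := by omega
    obtain ⟨W₁, h₁, hx₁, w, hw⟩ := exists_common hx (W₀ k)
    obtain ⟨W₂, h₂, hx₂, he⟩ := exists_res_eq hx₁ (fun i => AModX.res (I.cocomplex.X 0) h₁ (xs i))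
      (fun i => appₗ (εh I) W₁ (w i)) (fun i => by
        rw [RefX.germ_res]
        refine (hl i).trans ?_
        rw [← hw i]
        exact stalkMapₗ_germ (εh I) x hx₁ (w i))
    refine ⟨W₂, h₂.trans h₁, hx₂, Function.update 0 k (fun i => AModX.res F h₂ (w i)), fun i => ?_, ?_⟩
    · show AModX.res (I.cocomplex.X 0) (h₂.trans h₁) (xs i) = _
      rw [Function.update_self, ← AModX.res_res h₁ h₂, he i]
      exact (AModX.app_res (εh I) h₂ (w i)).symm
    · rw [Function.update_self, RefX.germ_res, hw]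
  | j + 1, k, hk, W, hx, f, xs, W₀, ⟨z, hz, hl⟩ => by
    obtain ⟨W₁, h₁, hx₁, zs, hzs⟩ := exists_common hx z
    obtain ⟨W₂, h₂, hx₂, he⟩ := exists_res_eq hx₁ (fun i => AModX.res (I.cocomplex.X (j + 1)) h₁ (xs i))
      (fun i => appₗ (I.cocomplex.d j (j + 1)) W₁ (zs i)) (fun i => by
        rw [RefX.germ_res]
        refine (hz i).symm.trans ?_
        rw [← hzs i]
        exact stalkMapₗ_germ (I.cocomplex.d j (j + 1)) x hx₁ (zs i))
    let f₂ : Fin r → Γ(P, W₂) := fun i => AModX.resR (h₂.trans h₁) (f i)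
    let z₂ : Idx r k → Γ(I.cocomplex.X j, W₂) := fun i => AModX.res (I.cocomplex.X j) h₂ (zs i)
    have hgerm : ∀ i, (I.cocomplex.X j).presheaf.germ W₂ x hx₂ (ZigZag.δ f₂ k z₂ i) =
        ZigZag.δ (fun i => P.presheaf.germ W x hx (f i)) k z i := fun i => by
      refine Eq.trans (ZigZag.δ_map (f := f₂) (germₛ (I.cocomplex.X j) W₂ x hx₂) k z₂ i).symm ?_
      refine congrArg₂ (fun g y => ZigZag.δ g k y i) (funext fun t => ?_) (funext fun t => ?_)
      · exact RefX.germ_resR _ hx₂ (f t)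
      · exact (RefX.germ_res (I.cocomplex.X j) h₂ hx₂ (zs t)).trans (hzs t)
    have hf₂ : (fun i => P.presheaf.germ W₂ x hx₂ (f₂ i)) = fun i => P.presheaf.germ W x hx (f i) :=
      funext fun t => RefX.germ_resR _ hx₂ (f t)
    obtain ⟨W₃, h₃, hx₃, Ws, hlift, hWs⟩ := spread x j (k + 1) (by omega) W₂ hx₂ f₂ (ZigZag.δ f₂ k z₂) W₀
      (by rw [hf₂, funext hgerm]; exact hl)
    refine ⟨W₃, h₃.trans (h₂.trans h₁), hx₃, Ws, ⟨fun i => AModX.res (I.cocomplex.X j) h₃ (z₂ i), fun i => ?_, ?_⟩, hWs⟩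
    · refine (AModX.app_res (I.cocomplex.d j (j + 1)) h₃ (z₂ i)).trans ?_
      show _ = AModX.res (I.cocomplex.X (j + 1)) (h₃.trans (h₂.trans h₁)) (xs i)
      rw [← AModX.res_res (h₂.trans h₁) h₃, ← AModX.res_res h₁ h₂, he i]
      refine congrArg _ ?_
      exact AModX.app_res (I.cocomplex.d j (j + 1)) h₂ (zs i)
    · have hfeq : (fun i => AModX.resR h₃ (f₂ i)) = fun i => AModX.resR (h₃.trans (h₂.trans h₁)) (f i) :=
        funext fun t => AModX.resR_resR _ _ _
      rw [hfeq] at hlift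
      refine Eq.mp (congrArg (fun y => ZigZag.Lift _ _ _ j (k + 1) y Ws) (funext fun i => ?_)) hlift
      refine (ZigZag.δ_map (f := f₂) (resₛ (I.cocomplex.X j) h₃) k z₂ i).symm.trans ?_
      exact congrArg (fun g => ZigZag.δ g k _ i) hfeq

end Groth.Agent.ExtShX.Fund
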