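import Groth.Agent.ExtShX.Affine
import Groth.Agent.ExtShX.StalkClosed
import Groth.Agent.PerfGen7.KoszulExt
import Groth.Agent.CAlgGlobalDim.RegSeq
import Groth.Agent.ConsPropLib.FibreLocFreeRank
import Groth.Agent.KZ.ClosedDev
import Groth.Agent.ZClosLib.CohDescent
import Groth.Agent.S2312
import Groth.Agent.S5159
import Mathlib

/-!
# The dualizing Ext sheaf at the generic points of a generically reduced closed subscheme
-/

set_option autoImplicit false
set_option linter.style.haveILetI false
set_option backward.isDefEq.respectTransparency false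
set_option backward.isDefEq.respectTransparency.types false
set_option maxHeartbeats 1000000

universe u

open CategoryTheory CategoryTheory.Limits AlgebraicGeometry TopologicalSpace Opposite IsLocalRing

namespace Groth.Agent.ExtShX

/-- `Ext^c(k, R) = k` for a regular local ring of dimension `c`. -/
theorem nonempty_ext_residue (A : Type u) [CommRing A] [IsRegularLocalRing A] (n : ℕ) (hn : ringKrullDim A = n) :
    Nonempty (Abelian.Ext (ModuleCat.of A (A ⧸ maximalIdeal A)) (ModuleCat.of A A) n ≃ₗ[A] A ⧸ maximalIdeal A) := by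
  classical
  have hk : (maximalIdeal A).spanFinrank = n := Groth.Agent.CAlgGlobalDim.spanFinrank_eq_of_dim A n hn
  have hfg := (maximalIdeal A).fg_of_isNoetherianRing
  let rs : List A := (Submodule.FG.finite_generators hfg).toFinset.toList
  have hlen : rs.length = n := by
    rw [Finset.length_toList, ← Set.ncard_eq_toFinset_card _ (Submodule.FG.finite_generators hfg),
      Submodule.FG.generators_ncard hfg, hk]
  have hspan : Ideal.ofList rs = maximalIdeal A := by
    conv_rhs => rw [← (maximalIdeal A).span_generators]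
    exact congrArg Ideal.span (Set.ext fun z => by simp [rs])
  have hreg := Groth.Agent.CAlgGlobalDim.isWeaklyRegular_of_generators n A rs hlen hspan hk.ge
  obtain ⟨-, ⟨e⟩⟩ := Groth.Agent.PerfGen7.KoszulExt.ext_top rs hreg (ModuleCat.of A A)
  rw [hlen] at e
  let c : ModuleCat.of A (A ⧸ maximalIdeal A) ≅ ModuleCat.of A (A ⧸ Ideal.ofList rs) :=
    (Submodule.quotEquivOfEq _ _ hspan.symm).toModuleIso
  exact ⟨(S5159.extCongr c _ n).symm.trans (e.trans (Submodule.quotEquivOfEq _ (maximalIdeal A)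
    (by rw [hspan, smul_eq_mul, Ideal.mul_top])))⟩

theorem isField_of_subsingleton_spec (A : Type u) [CommRing A] [IsLocalRing A] [_root_.IsReduced A]
    (h : Subsingleton (PrimeSpectrum A)) : IsField A := by
  refine IsLocalRing.isField_iff_maximalIdeal_eq.2 ((Submodule.eq_bot_iff _).2 fun a ha => ?_)
  refine IsReduced.eq_zero a (nilpotent_iff_mem_prime.2 fun J hJ => ?_)
  have : (⟨J, hJ⟩ : PrimeSpectrum A) = ⟨maximalIdeal A, inferInstance⟩ := Subsingleton.elim _ _
  rw [PrimeSpectrum.ext_iff] at this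
  have h2 : J = maximalIdeal A := this
  rw [h2]; exact ha

variable {P X : Scheme.{u}} (ι : X ⟶ P) [IsClosedImmersion ι]

/-- The stalk of `ι_* O_X` at a reduced generic point is the residue field. -/
theorem nonempty_stalk_push_structure (x : X) (hfield : IsField (X.presheaf.stalk x)) :
    Nonempty (((Scheme.Modules.pushforward ι).obj (Coh.structureModule X)).presheaf.stalk (ι.base x)
      ≃ₗ[P.presheaf.stalk (ι.base x)] P.presheaf.stalk (ι.base x) ⧸ maximalIdeal (P.presheaf.stalk (ι.base x))) := by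
  let φ := (ι.stalkMap x).hom
  have hsurj : Function.Surjective φ := ι.stalkMap_surjective x
  letI := hfield.toField
  have hker : RingHom.ker φ = maximalIdeal (P.presheaf.stalk (ι.base x)) :=
    IsLocalRing.eq_maximalIdeal (RingHom.ker_isMaximal_of_surjective φ hsurj)
  let q : (P.presheaf.stalk (ι.base x) ⧸ maximalIdeal (P.presheaf.stalk (ι.base x))) ≃+* X.presheaf.stalk x :=
    (Ideal.quotEquivOfEq hker.symm).trans (RingHom.quotientKerEquivOfSurjective hsurj)
  have hq : ∀ r, q (Ideal.Quotient.mk _ r) = φ r := fun r => by simp [q]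
  let e₀ := (stalkPushEquiv ι (Coh.structureModule X) x).trans (RefX.unitStalk x).symm.toAddEquiv
  refine ⟨{ e₀.trans q.symm.toAddEquiv with map_smul' := fun r v => ?_ }⟩
  apply q.injective
  show q (q.symm (e₀ (r • v))) = q (Ideal.Quotient.mk _ r * q.symm (e₀ v))
  rw [map_mul, hq, RingEquiv.apply_symm_apply, RingEquiv.apply_symm_apply]
  show (RefX.unitStalk x).symm (stalkPushEquiv ι (Coh.structureModule X) x (r • v)) = _
  rw [stalkPushEquiv_smul, map_smul, smul_eq_mul]
  rfl

/-- A module on `X` whose pushforward has residue-field stalk is free of rank one at the point. -/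
theorem nonempty_stalk_of_push (ω : X.Modules) (x : X) (hfield : IsField (X.presheaf.stalk x))
    (θ : ((Scheme.Modules.pushforward ι).obj ω).presheaf.stalk (ι.base x)
      ≃ₗ[P.presheaf.stalk (ι.base x)] P.presheaf.stalk (ι.base x) ⧸ maximalIdeal (P.presheaf.stalk (ι.base x))) :
    Nonempty (X.presheaf.stalk x ≃ₗ[X.presheaf.stalk x] ω.presheaf.stalk x) := by
  let φ := (ι.stalkMap x).hom
  have hsurj : Function.Surjective φ := ι.stalkMap_surjective x
  letI := hfield.toField
  have hker : RingHom.ker φ = maximalIdeal (P.presheaf.stalk (ι.base x)) :=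
    IsLocalRing.eq_maximalIdeal (RingHom.ker_isMaximal_of_surjective φ hsurj)
  let s := stalkPushEquiv ι ω x
  let v₀ : ω.presheaf.stalk x := s (θ.symm 1)
  have key : ∀ r, φ r • v₀ = s (θ.symm (Ideal.Quotient.mk _ r)) := fun r => by
    rw [← stalkPushEquiv_smul, ← map_smul]
    exact congrArg (fun t => s (θ.symm t)) (by rw [Algebra.smul_def, mul_one]; rfl)
  refine ⟨LinearEquiv.ofBijective (LinearMap.toSpanSingleton _ _ v₀) ⟨?_, ?_⟩⟩
  · refine (injective_iff_map_eq_zero _).2 fun a ha => ?_
    obtain ⟨r, rfl⟩ := hsurj a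
    rw [LinearMap.toSpanSingleton_apply, key, AddEquiv.map_eq_zero_iff, LinearEquiv.map_eq_zero_iff,
      Ideal.Quotient.eq_zero_iff_mem, ← hker] at ha
    exact ha
  · intro w
    obtain ⟨r, hr⟩ := Ideal.Quotient.mk_surjective (θ (s.symm w))
    refine ⟨φ r, ?_⟩
    rw [LinearMap.toSpanSingleton_apply, key, hr, LinearEquiv.symm_apply_apply, AddEquiv.apply_symm_apply]

theorem exists_open_rank_one {F : X.Modules} (hF : CohB1.IsFP F) (x : X)
    (e : X.presheaf.stalk x ≃ₗ[X.presheaf.stalk x] F.presheaf.stalk x) :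
    ∃ U : X.Opens, x ∈ U ∧ Nonempty (F.restrict U.ι ≅ FlatMod.freeMod (U : Scheme.{u}) 1) := by
  haveI : Module.Free (X.presheaf.stalk x) (F.presheaf.stalk x) := Module.Free.of_equiv e
  obtain ⟨U, n, hx, ⟨i⟩⟩ := QCoh.exists_free_nhd_of_free_stalk hF x
  obtain ⟨_, ⟨V, hV, rfl⟩, hxV, hle⟩ :=
    X.isBasis_affineOpens.exists_subset_of_mem_open (show x ∈ U from hx) U.2
  obtain ⟨l⟩ := QCoh.exists_linearEquiv_of_freeIso (QCoh.freeChart hV hle i)
  have h := QCoh.finrank_stalk_of_freeChart hV (QCoh.isQCoh_of_isFP hF) ((QCoh.chartEquiv hV F).trans l) hxV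
  rw [← e.finrank_eq, Module.finrank_self] at h
  subst h
  exact ⟨U, hx, ⟨i⟩⟩

theorem isFinLocFreeOfRank_restrict_of_nhds {F : X.Modules} (U : X.Opens)
    (h : ∀ x ∈ U, ∃ W : X.Opens, x ∈ W ∧ Nonempty (F.restrict W.ι ≅ FlatMod.freeMod (W : Scheme.{u}) 1)) :
    FlatMod.IsFinLocFreeOfRank 1 (F.restrict U.ι) := fun z => by
  obtain ⟨W, hx, ⟨i⟩⟩ := h (U.ι z) z.2
  refine ⟨U.ι ⁻¹ᵁ W, hx, ⟨QCoh.restrictRestrict F _ U.ι ≪≫
    (Scheme.Modules.restrictFunctorCongr (morphismRestrict_ι U.ι W).symm).app F ≪≫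
    (QCoh.restrictRestrict F _ W.ι).symm ≪≫ (Scheme.Modules.restrictFunctor _).mapIso i ≪≫
    QCoh.freeModRestrict _ 1⟩⟩

end Groth.Agent.ExtShX
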