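import Groth.Agent.ExtShX.Asymp
import Groth.Agent.ExtShX.Stalk
import Groth.Agent.AmpleX.Generated
import Groth.Agent.CurveCohLib.Proper
import Groth.Agent.H23.InvStalk
import Groth.Agent.ModTensor.SheafHom
import Groth.Agent.Lib.PnDualExtPn
import Groth.Agent.Lib.PnDualTwistAdj
import Mathlib

/-!
# Vanishing of the cohomology of negative twists on projective space
-/

set_option autoImplicit false
set_option linter.style.haveILetI false
set_option linter.unusedSectionVars false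
set_option backward.isDefEq.respectTransparency false
set_option backward.isDefEq.respectTransparency.types false
set_option maxHeartbeats 1000000

universe u

open CategoryTheory CategoryTheory.Limits AlgebraicGeometry TopologicalSpace Opposite Abelian

noncomputable section

namespace Groth.Agent.ExtShX

open Groth.Agent.PnDual

section General

variable {X : Scheme.{u}}

/-- A coherent sheaf all of whose high twists have no section is zero. -/
theorem subsingleton_stalk_of_sections [CompactSpace X] [X.IsSeparated] {L : X.Modules} (hL : CohB1.IsAmple L)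
    {M : X.Modules} (hM : Coh.IsCoh M) {n₀ : ℕ}
    (h : ∀ n, n₀ ≤ n → Subsingleton (Coh.HH X (CohB1.tensorMod M (CohB1.tensorPow L n)) 0)) (x : X) :
    Subsingleton (M.presheaf.stalk x) := by
  obtain ⟨n₁, h₁⟩ := AmpleX.eventually_generated hL hM.1 hM.2
  obtain ⟨G, e, ι, s, hs⟩ := h₁ (max n₀ n₁) (le_max_right _ _)
  haveI : Subsingleton Γ(G, ⊤) :=
    haveI := QCoh.subsingleton_HH_of_iso e.symm 0 (h _ (le_max_left _ _))
    (Sheaf.H.equiv₀ (Coh.toAb G) isTerminalTop).toEquiv.symm.subsingleton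
  haveI hG : Subsingleton ((DerSch.stalkFunctor X x).obj G : Type u) := by
    have h0 : ⊤ = (⊥ : Submodule (X.presheaf.stalk x) (G.presheaf.stalk x)) := by
      rw [← hs x, Submodule.span_eq_bot]
      rintro _ ⟨i, rfl⟩
      show (G.presheaf.germ ⊤ x trivial).hom (s i) = 0
      rw [Subsingleton.elim (s i) 0, map_zero]
    exact ⟨fun a b => by
      have ha : (a : G.presheaf.stalk x) ∈ (⊥ : Submodule (X.presheaf.stalk x) _) := h0 ▸ Submodule.mem_top
      have hb : (b : G.presheaf.stalk x) ∈ (⊥ : Submodule (X.presheaf.stalk x) _) := h0 ▸ Submodule.mem_top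
      exact ((Submodule.mem_bot _).1 ha).trans ((Submodule.mem_bot _).1 hb).symm⟩
  obtain ⟨p⟩ := H23.InvStalk.exists_stalk_equiv_pow hL.1 x (max n₀ n₁)
  let t := (((DerSch.stalkFunctor X x).mapIso e).toLinearEquiv.trans
    (KFlatLib.stalkTensorIso x M (CohB1.tensorPow L (max n₀ n₁))).toLinearEquiv.symm).trans
      ((TensorProduct.congr (LinearEquiv.refl _ _) p).trans (TensorProduct.rid _ _))
  exact t.toEquiv.symm.subsingleton

end General

variable {k : Type u} [Field k] {r : ℕ}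

local notation "ℙ" => CohB1.ProjSpace r k
local notation "Ω" => Twist.twistProjSpace r k (-((r : ℤ) + 1))
local notation "𝒪(" d ")" => Twist.twistProjSpace r k d

theorem isInvertible_twistPn (d : ℤ) : PicF.IsInvertible (𝒪(d)) :=
  PnCoh.Finite.isInvertible_twist _ coordsR_mem coordsR_cover d

theorem nonempty_twistPn_pow (d : ℕ) : Nonempty (𝒪((d : ℤ)) ≅ CohB1.tensorPow (𝒪(1)) d) :=
  PnCoh.Finite.twist_tensorPow_iso _ coordsR_mem coordsR_cover d

theorem isProper_pn : IsProper (ℙ ↘ Spec (CommRingCat.of k)) := PnCoh.Chow.isProper_toSpec r k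

theorem isLocallyNoetherian_pn : IsLocallyNoetherian ℙ :=
  haveI := isProper_pn (k := k) (r := r)
  LocallyOfFiniteType.isLocallyNoetherian (ℙ ↘ Spec (CommRingCat.of k))

theorem isSeparated_pn : (ℙ).IsSeparated :=
  ⟨by
    haveI := isProper_pn (k := k) (r := r)
    have := (inferInstance : IsSeparated ((ℙ ↘ Spec (CommRingCat.of k)) ≫ terminal.from _))
    rwa [terminal.comp_from] at this⟩

theorem compactSpace_pn : CompactSpace ℙ :=
  haveI := isProper_pn (k := k) (r := r)
  QuasiCompact.compactSpace_of_compactSpace (ℙ ↘ Spec (CommRingCat.of k))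

theorem isAmple_twistPn_one : CohB1.IsAmple (𝒪(1)) :=
  AmpleX.isAmple_of_iso ((Scheme.Modules.pullbackId ℙ).app _) (ample_twist_pullback r (𝟙 ℙ)).1

theorem isCoh_twistPn (d : ℤ) : Coh.IsCoh (𝒪(d)) :=
  have := QCoh.isFP_of_isFinLocFree (KZ.QuasiProj.flf_of_invertible (isInvertible_twistPn (k := k) (r := r) d))
  ⟨QCoh.isQCoh_of_isFP this, QCoh.isFT_of_isFP this⟩

theorem isCoh_twistByPn {F : (ℙ).Modules} (hF : Coh.IsCoh F) (d : ℤ) :
    Coh.IsCoh (Twist.twistBy (CohB1.polyGrading r k) F d) :=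
  haveI : IsLocallyNoetherian (Proj (CohB1.polyGrading r k)) := isLocallyNoetherian_pn (k := k) (r := r)
  AmpleVan.isCoh_tensor hF (isCoh_twistPn d)

/-- `Ext^j(F(-d), G) = Ext^j(F, G(d))`. -/
theorem nonempty_ext_twistBy [HasExt.{u} (ℙ).Modules] (F G : (ℙ).Modules) (d : ℤ) (j : ℕ) :
    Nonempty (Abelian.Ext.{u} (Twist.twistBy (CohB1.polyGrading r k) F (-d)) G j ≃+
      Abelian.Ext.{u} F (CohB1.tensorMod G (𝒪(d))) j) := by
  let T := twistEquivalence (𝒜 := CohB1.polyGrading r k) _ coordsR_mem coordsR_cover (-d) d (neg_add_cancel _)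
  haveI : T.functor.IsEquivalence := T.isEquivalence_functor
  haveI : T.inverse.IsEquivalence := T.isEquivalence_inverse
  haveI : T.inverse.Additive := Functor.additive_of_preserves_binary_products _
  haveI : EnoughInjectives (Proj (CohB1.polyGrading r k)).Modules :=
    inferInstanceAs (EnoughInjectives (SheafOfModules _))
  haveI : HasExt.{u} (Proj (CohB1.polyGrading r k)).Modules := ‹HasExt.{u} (ℙ).Modules›
  exact SiteBase.nonempty_ext_addEquiv_of_adjunction T.toAdjunction (Iso.refl _) j G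

/-- The dual Ext sheaf has zero stalk iff the local Ext vanishes. -/
theorem subsingleton_stalk_extSh_dual {F : (ℙ).Modules} (hF : Coh.IsCoh F) (j : ℕ) (x : ℙ)
    [ModSite.HasSheafHom (O := (ℙ).sheaf) F] [HasInjectiveResolutions (ModSite.Mod (ℙ).sheaf)] :
    Subsingleton ((DerSch.stalkFunctor ℙ x).obj ((ModSite.extSh (O := (ℙ).sheaf) F j).obj Ω) : Type u) ↔
      Subsingleton (Abelian.Ext (ModuleCat.of ((ℙ).presheaf.stalk x) (F.presheaf.stalk x))
        (ModuleCat.of ((ℙ).presheaf.stalk x) ((ℙ).presheaf.stalk x)) j) := by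
  haveI := isLocallyNoetherian_pn (k := k) (r := r)
  obtain ⟨e⟩ := nonempty_stalk_extSh F (KZ.LFRes.isFP_of_isCoh hF) Ω x j
  obtain ⟨p⟩ := H23.InvStalk.exists_stalk_equiv (isInvertible_twistPn (k := k) (r := r) (-((r : ℤ) + 1))) x
  let q := ((Abelian.extFunctorObj ((DerSch.stalkFunctor ℙ x).obj F) j).mapIso p.toModuleIso).addCommGroupIsoToAddEquiv
  exact e.toLinearEquiv.toEquiv.subsingleton_congr.trans q.toEquiv.subsingleton_congr

/-- `H^i(P, F(-d))` vanishes iff `Ext^j(F, ω)(d)` has no section, for `i + j = r` and `d ≫ 0`. -/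
theorem twist_HH_iff_sections {F : (ℙ).Modules} (hF : Coh.IsCoh F) (i j : ℕ) (hij : i + j = r)
    [ModSite.HasSheafHom (O := (ℙ).sheaf) F] [HasInjectiveResolutions (ModSite.Mod (ℙ).sheaf)] :
    ∃ d₁ : ℕ, ∀ d : ℕ, d₁ ≤ d →
      (Subsingleton (Coh.HH ℙ (Twist.twistBy (CohB1.polyGrading r k) F (-(d : ℤ))) i) ↔
        Subsingleton (Coh.HH ℙ (CohB1.tensorMod ((ModSite.extSh (O := (ℙ).sheaf) F j).obj Ω)
          (CohB1.tensorPow (𝒪(1)) d)) 0)) := by
  haveI : HasExt.{u} (ℙ).Modules := IsGrothendieckAbelian.hasExt _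
  haveI := isProper_pn (k := k) (r := r)
  obtain ⟨d₁, hd₁⟩ := exists_twist_ext (A := k) (isAmple_twistPn_one (k := k) (r := r)) F Ω hF (isCoh_twistPn _) j
  refine ⟨d₁, fun d hd => ?_⟩
  obtain ⟨e₁⟩ := nonempty_ext_twistBy F Ω (d : ℤ) j
  obtain ⟨e₂⟩ := (serre_duality (goodPn_of_isCoh (isCoh_twistByPn hF (-(d : ℤ)))) j).1 (by omega)
  obtain ⟨e₃⟩ := (hd₁ d hd _ (nonempty_twistPn_pow d)).2
  have hi : r - j = i := by omega
  rw [hi] at e₂
  obtain ⟨t⟩ := nonempty_extSh_tensor_right F Ω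
    (KZ.QuasiProj.flf_of_invertible (isInvertible_twistPn (k := k) (r := r) (d : ℤ))) j
  obtain ⟨w⟩ := nonempty_twistPn_pow (k := k) (r := r) d
  let E : (ℙ).Modules := (ModSite.extSh (O := (ℙ).sheaf) F j).obj Ω
  let w' := (DCoh.tensorBi.obj E).mapIso w
  let t' : ((ModSite.extSh (O := (ℙ).sheaf) F j).obj (CohB1.tensorMod Ω (𝒪((d : ℤ)))) : (ℙ).Modules) ≅
      CohB1.tensorMod E (𝒪((d : ℤ))) := t
  let u : ((ModSite.extSh (O := (ℙ).sheaf) F j).obj (CohB1.tensorMod Ω (𝒪((d : ℤ)))) : (ℙ).Modules) ≅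
      CohB1.tensorMod E (CohB1.tensorPow (𝒪(1)) d) := t' ≪≫ w'
  haveI : Module.Free k (Coh.HH ℙ (Twist.twistBy (CohB1.polyGrading r k) F (-(d : ℤ))) i) :=
    Module.Free.of_divisionRing _ _
  have a1 : Subsingleton (Abelian.Ext.{u} (Twist.twistBy (CohB1.polyGrading r k) F (-(d : ℤ))) Ω j) ↔
      Subsingleton (Coh.HH ℙ (Twist.twistBy (CohB1.polyGrading r k) F (-(d : ℤ))) i) :=
    e₂.toEquiv.subsingleton_congr.trans (Module.subsingleton_dual_iff k)
  refine (a1.symm.trans (e₁.toEquiv.subsingleton_congr.trans e₃.toEquiv.subsingleton_congr)).trans ?_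
  exact ⟨fun h => QCoh.subsingleton_HH_of_iso u 0 h, fun h => QCoh.subsingleton_HH_of_iso u.symm 0 h⟩

/-- `H^i(P, F(-m)) = 0` for `m ≫ 0` iff `Ext^j(F_x, O_x) = 0` at every point, where `i + j = r`. -/
theorem twist_vanishing_iff {F : (ℙ).Modules} (hF : Coh.IsCoh F) (i j : ℕ) (hij : i + j = r) :
    (∃ m₀ : ℤ, ∀ m : ℤ, m₀ ≤ m →
      Subsingleton (Coh.HH ℙ (Twist.twistBy (CohB1.polyGrading r k) F (-m)) i)) ↔
    ∀ x : ℙ, Subsingleton (Abelian.Ext (ModuleCat.of ((ℙ).presheaf.stalk x) (F.presheaf.stalk x))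
        (ModuleCat.of ((ℙ).presheaf.stalk x) ((ℙ).presheaf.stalk x)) j) := by
  haveI : ModSite.HasSheafHom (O := (ℙ).sheaf) F := ModTensor.hasSheafHom _
  haveI : HasInjectiveResolutions (ModSite.Mod (ℙ).sheaf) := hasInjRes ℙ
  haveI := isLocallyNoetherian_pn (k := k) (r := r)
  haveI := isSeparated_pn (k := k) (r := r)
  haveI := compactSpace_pn (k := k) (r := r)
  obtain ⟨d₁, key⟩ := twist_HH_iff_sections hF i j hij
  constructor
  · rintro ⟨m₀, hm⟩ x
    refine (subsingleton_stalk_extSh_dual hF j x).1 (subsingleton_stalk_of_sections (n₀ := max d₁ m₀.toNat)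
      isAmple_twistPn_one (isCoh_extSh hF (isCoh_twistPn _) j) (fun n hn => ?_) x)
    exact (key n (le_trans (le_max_left _ _) hn)).1
      (hm n (le_trans (Int.self_le_toNat m₀) (by exact_mod_cast le_trans (le_max_right _ _) hn)))
  · intro h
    have h0 : IsZero ((ModSite.extSh (O := (ℙ).sheaf) F j).obj Ω : (ℙ).Modules) :=
      CurveCohLib.isZero_of_subsingleton_stalks fun x => (subsingleton_stalk_extSh_dual hF j x).2 (h x)
    refine ⟨(d₁ : ℤ), fun m hm => ?_⟩
    lift m to ℕ using (le_trans (Int.natCast_nonneg _) hm) with d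
    refine (key d (by exact_mod_cast hm)).2 ?_
    exact Euler.subsingleton_HH_of_isZero ((DCoh.tensorBi.flip.obj (CohB1.tensorPow _ d)).map_isZero h0) 0

end Groth.Agent.ExtShX
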