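import Groth.Agent.ExtShX.SmFrame
import Groth.Agent.ExtShX.ExtPowTop
import Groth.Agent.H23.PnChart
import Groth.Agent.ProjUPX.TwistFrame
import Groth.Agent.PnCoh.TwistTriv
import Groth.Agent.PnPic.Twist
import Groth.Agent.TorsPic.Iso
import Mathlib

/-!
# The top forms of projective space over a field
-/

set_option autoImplicit false
set_option linter.style.haveILetI false
set_option linter.unusedSectionVars false
set_option backward.isDefEq.respectTransparency false
set_option backward.isDefEq.respectTransparency.types false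

universe u

open CategoryTheory CategoryTheory.Limits AlgebraicGeometry TopologicalSpace Opposite
open HomogeneousLocalization (Away)

noncomputable section

namespace Groth.Agent.ExtShX.PnOmega

open Groth.Agent.AModX

variable (N : ℕ) (k : Type u) [Field k]

local notation "Gr" => CohB1.polyGrading N k
local notation "T" => (MvPolynomial.X : Fin (N + 1) → MvPolynomial (Fin (N + 1)) k)

/-- The chart `D₊(T_i)`. -/
abbrev DD (i : Fin (N + 1)) : (CohB1.ProjSpace N k).Opens := Proj.basicOpen Gr (T i)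

/-- The function `T_j / T_i`. -/
def a (i j : Fin (N + 1)) : Γ(CohB1.ProjSpace N k, DD N k i) :=
  (Proj.awayToSection Gr (T i)).hom (ZetaLib.coord N k i j)

theorem a_self (i : Fin (N + 1)) : a N k i i = 1 := by
  rw [a, H23.PnChart.coord_self, map_one]

theorem appLE_toSpec (i : Fin (N + 1)) (c : Γ(Spec (CommRingCat.of k), ⊤)) :
    (CohB1.ProjSpace.toSpec N k).appLE ⊤ (DD N k i) le_top c =
      (Proj.awayToSection Gr (T i)).hom (ZetaLib.base N k i ((Scheme.ΓSpecIso (CommRingCat.of k)).hom c)) := by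
  have h1 : (DD N k i).ι ≫ CohB1.ProjSpace.toSpec N k =
      Proj.basicOpenToSpec Gr (T i) ≫ Spec.map (CommRingCat.ofHom (ZetaLib.base N k i)) := by
    rw [← ZetaLib.chart_toSpec]
    show _ = _ ≫ Proj.awayι Gr (T i) _ _ ≫ _
    rw [Proj.awayι, ← Proj.basicOpenIsoSpec_hom Gr (T i) (ZetaLib.X_mem_one N k i) Nat.one_pos]
    simp only [Category.assoc, Iso.hom_inv_id_assoc]
  have h2 := congrArg (fun φ => (Scheme.Hom.appLE φ ⊤ ⊤ le_top ≫ (DD N k i).topIso.hom).hom c) h1
  simp only [Scheme.Hom.comp_appLE, Scheme.Opens.ι_appLE, Scheme.Opens.topIso_hom] at h2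
  simp [Scheme.Hom.appLE, Proj.basicOpenToSpec_app_top, ← Functor.map_comp, ← Functor.map_comp_assoc] at h2 ⊢
  exact h2

theorem isFrame_sec (i : Fin (N + 1)) :
    InvX.IsFrame (res (Twist.twist Gr 1) (le_top : DD N k i ≤ ⊤) (ProjUPX.sec Gr (ZetaLib.X_mem_one N k i))) :=
  ProjUPX.isFrame_sec Gr (ZetaLib.X_mem_one N k i)

theorem a_trans (i l j : Fin (N + 1)) {W : (CohB1.ProjSpace N k).Opens} (hi : W ≤ DD N k i) (hl : W ≤ DD N k l) :
    resR hl (a N k l j) = resR hl (a N k l i) * resR hi (a N k i j) := by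
  have key : ∀ (p q : Fin (N + 1)) (hp : W ≤ DD N k p),
      res (Twist.twist Gr 1) (le_top : W ≤ ⊤) (ProjUPX.sec Gr (ZetaLib.X_mem_one N k q)) =
        resR hp (a N k p q) • res (Twist.twist Gr 1) (le_top : W ≤ ⊤) (ProjUPX.sec Gr (ZetaLib.X_mem_one N k p)) := by
    intro p q hp
    have h := congrArg (res (Twist.twist Gr 1) hp)
      (ProjUPX.sec_eq_smul Gr (ZetaLib.X_mem_one N k q) (ZetaLib.X_mem_one N k p))
    rw [res_smul, res_res, res_res] at h
    exact h
  refine (isFrame_sec N k l).coord_unique hl ?_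
  rw [res_res, ← key l j hl, key i j hi, key l i hl, smul_smul, mul_comm]

theorem isUnit_a (i l : Fin (N + 1)) {W : (CohB1.ProjSpace N k).Opens} (hi : W ≤ DD N k i) (hl : W ≤ DD N k l) :
    IsUnit (resR hl (a N k l i)) := by
  refine IsUnit.of_mul_eq_one (resR hi (a N k i l)) ?_
  rw [← a_trans N k i l l hi hl, a_self, map_one]

/-- The coordinates other than the `i`-th. -/
def idxEquiv (i : Fin (N + 1)) : H23.PnChart.Idx.{u} N i ≃ Fin N :=
  Equiv.ulift.trans (finSuccAboveEquiv i).symm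

theorem isFrame_da [QuasiSeparated (CohB1.ProjSpace.toSpec N k)] (i : Fin (N + 1)) :
    H23.Frame.IsFrame (Omega.sheaf (CohB1.ProjSpace.toSpec N k))
      (fun r : Fin N => (OmegaSh.dOmega (CohB1.ProjSpace.toSpec N k)).app (DD N k i) (a N k i (i.succAbove r))) := by
  let f := CohB1.ProjSpace.toSpec N k
  let U := DD N k i
  have hU : IsAffineOpen U := Proj.isAffineOpen_basicOpen Gr (T i) (ZetaLib.X_mem_one N k i) Nat.one_pos
  let A := Γ(Spec (CommRingCat.of k), ⊤)
  letI : Algebra A Γ(CohB1.ProjSpace N k, U) := (f.appLE ⊤ U le_top).hom.toAlgebra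
  let P := MvPolynomial (Fin N) A
  let v : Fin N → Γ(CohB1.ProjSpace N k, U) := fun r => a N k i (i.succAbove r)
  let ψ : P →ₐ[A] Γ(CohB1.ProjSpace N k, U) := MvPolynomial.aeval v
  let e1 : P ≃+* MvPolynomial (H23.PnChart.Idx.{u} N i) k :=
    (MvPolynomial.renameEquiv A (idxEquiv N i).symm).toRingEquiv.trans
      (MvPolynomial.mapEquiv _ (Scheme.ΓSpecIso (CommRingCat.of k)).commRingCatIsoToRingEquiv)
  let e2 := RingEquiv.ofBijective (H23.PnChart.fromChart N k i)
    ⟨H23.PnChart.fromChart_injective N k i, H23.PnChart.fromChart_surjective N k i⟩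
  let e3 := (Proj.basicOpenIsoAway Gr (T i) (ZetaLib.X_mem_one N k i) Nat.one_pos).commRingCatIsoToRingEquiv
  have hψ : ψ.toRingHom = ((e1.trans e2).trans e3).toRingHom := by
    refine MvPolynomial.ringHom_ext (fun c => ?_) fun r => ?_
    · refine (ψ.commutes c).trans ((appLE_toSpec N k i c).trans ?_)
      show _ = e3 (e2 (MvPolynomial.map _ (MvPolynomial.rename (idxEquiv N i).symm (MvPolynomial.C c))))
      rw [MvPolynomial.rename_C, MvPolynomial.map_C]
      show _ = e3 (H23.PnChart.fromChart N k i (MvPolynomial.C _))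
      rw [H23.PnChart.fromChart, MvPolynomial.eval₂Hom_C]
      rfl
    · refine (MvPolynomial.aeval_X (R := A) v r).trans ?_
      show _ = e3 (e2 (MvPolynomial.map _ (MvPolynomial.rename (idxEquiv N i).symm (MvPolynomial.X r))))
      rw [MvPolynomial.rename_X, MvPolynomial.map_X]
      show _ = e3 (H23.PnChart.fromChart N k i (MvPolynomial.X _))
      rw [H23.PnChart.fromChart, MvPolynomial.eval₂Hom_X']
      rfl
  letI : Algebra P Γ(CohB1.ProjSpace N k, U) := ψ.toRingHom.toAlgebra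
  haveI : IsScalarTower A P Γ(CohB1.ProjSpace N k, U) := IsScalarTower.of_algebraMap_eq fun c => (ψ.commutes c).symm
  haveI : Algebra.Etale P Γ(CohB1.ProjSpace N k, U) := by
    have h : ψ.toRingHom.Etale := by
      rw [hψ]
      exact RingHom.Etale.of_bijective ((e1.trans e2).trans e3).bijective
    exact h
  let γ : Module.Basis (Fin N) Γ(CohB1.ProjSpace N k, U)
      (TensorProduct P Γ(CohB1.ProjSpace N k, U) Ω[P⁄A]) :=
    (KaehlerDifferential.mvPolynomialBasis A (Fin N)).baseChange _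
  refine SmFrame.isFrame_dOmega f hU (isAffineOpen_top _) le_top v
    (γ.map (KaehlerDifferential.tensorKaehlerEquivOfFormallyEtale A P Γ(CohB1.ProjSpace N k, U))) fun r => ?_
  rw [Module.Basis.map_apply]
  show KaehlerDifferential.mapBaseChange A P Γ(CohB1.ProjSpace N k, U) (γ r) = _
  rw [Module.Basis.baseChange_apply, KaehlerDifferential.mvPolynomialBasis_apply]
  refine (KaehlerDifferential.mapBaseChange_tmul A P Γ(CohB1.ProjSpace N k, U) 1 _).trans ?_
  rw [one_smul, KaehlerDifferential.map_D]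
  exact congrArg _ (MvPolynomial.aeval_X (R := A) v r)

/-- The frame of `O(d)` given by `T_i ^ d`. -/
def pw (d : ℤ) (i : Fin (N + 1)) : Γ(Twist.twistProjSpace N k d, DD N k i) :=
  PnCoh.twPow (ZetaLib.X_mem_one N k i) d (fun x => x.2)

theorem isFrame_pw (d : ℤ) (i : Fin (N + 1)) : InvX.IsFrame (pw N k d i) := by
  intro V hV
  have hU : PnCoh.NonVan (𝒜 := Gr) (T i) V := fun x => hV x.2
  exact PnCoh.trivMap_bijective (ZetaLib.X_mem_one N k i) d hU

theorem res_pw (i l : Fin (N + 1)) {W : (CohB1.ProjSpace N k).Opens} (hi : W ≤ DD N k i) (hl : W ≤ DD N k l) :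
    res _ hl (pw N k (-((N : ℤ) + 1)) l) =
      resR hl (a N k l i) ^ (N + 1) • res _ hi (pw N k (-((N : ℤ) + 1)) i) := by
  refine Subtype.ext (funext fun x => Subtype.ext ?_)
  refine Eq.trans ?_ (Twist.coe_smul_val _ x.1 _ _).symm
  have hv : ∀ (q : Fin (N + 1)) (hq : W ≤ DD N k q) (r : Γ(CohB1.ProjSpace N k, DD N k q)),
      ((show Twist.O (𝒜 := Gr) (op W) from resR hq r).1 x).val =
        ((show Twist.O (𝒜 := Gr) (op (DD N k q)) from r).1 ⟨x.1, hq x.2⟩).val := fun _ _ _ => rfl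
  show (Localization.mk (T l ^ (-((N : ℤ) + 1)).toNat) ⟨T l ^ (-(-((N : ℤ) + 1))).toNat, _⟩ : Twist.Loc Gr x.1) =
    ((show Twist.O (𝒜 := Gr) (op W) from resR hl (a N k l i) ^ (N + 1)).1 x).val *
      Localization.mk (T i ^ (-((N : ℤ) + 1)).toNat) ⟨T i ^ (-(-((N : ℤ) + 1))).toNat, _⟩
  have hpow : ((show Twist.O (𝒜 := Gr) (op W) from resR hl (a N k l i) ^ (N + 1)).1 x).val =
      (Localization.mk (T i) ⟨T l, (hl x.2)⟩ : Twist.Loc Gr x.1) ^ (N + 1) := by
    show (((show Twist.O (𝒜 := Gr) (op W) from resR hl (a N k l i)) ^ (N + 1)).1 x).val = _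
    have h0 : ((show Twist.O (𝒜 := Gr) (op W) from resR hl (a N k l i)).1 x).val =
        (Localization.mk (T i) ⟨T l, (hl x.2)⟩ : Twist.Loc Gr x.1) := by
      rw [hv l hl, a]
      erw [ProjectiveSpectrum.Proj.awayToSection_apply]
      rw [ZetaLib.coord, Away.val_mk, Localization.mk_eq_mk' (M := Submonoid.powers (T l)), IsLocalization.map_mk',
        ← Localization.mk_eq_mk', Localization.mk_eq_mk_iff, Localization.r_iff_exists]
      exact ⟨1, by simp⟩
    rw [← h0, ← HomogeneousLocalization.val_pow]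
    rfl
  rw [hpow, Localization.mk_pow, Localization.mk_mul, Localization.mk_eq_mk_iff, Localization.r_iff_exists]
  refine ⟨1, ?_⟩
  simp only [show (-((N : ℤ) + 1)).toNat = 0 by omega, show (-(-((N : ℤ) + 1))).toNat = N + 1 by omega,
    SubmonoidClass.coe_pow, Submonoid.coe_mul, OneMemClass.coe_one, one_mul, pow_zero, mul_one]

variable {N k}

/-- The transition determinant of the differentials of the coordinates. -/
theorem wedge_da_trans [QuasiSeparated (CohB1.ProjSpace.toSpec N k)] {L : (CohB1.ProjSpace N k).Modules}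
    (φ : ∀ U : (CohB1.ProjSpace N k).affineOpens, (L.val.obj (op U.1)) ≃ₗ[Γ(CohB1.ProjSpace N k, U.1)]
      ↥(⋀[Γ(CohB1.ProjSpace N k, U.1)]^N ((Omega.sheaf (CohB1.ProjSpace.toSpec N k)).val.obj (op U.1))))
    (i l : Fin (N + 1)) (Q : (CohB1.ProjSpace N k).affineOpens) (hi : Q.1 ≤ DD N k i) (hl : Q.1 ≤ DD N k l) :
    SmFrame.wedge φ Q (fun r => res _ hl
        ((OmegaSh.dOmega (CohB1.ProjSpace.toSpec N k)).app (DD N k l) (a N k l (l.succAbove r)))) =
      ((-1) ^ (l + i : ℕ) * resR hl (a N k l i) ^ (N + 1)) • SmFrame.wedge φ Q (fun r => res _ hi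
        ((OmegaSh.dOmega (CohB1.ProjSpace.toSpec N k)).app (DD N k i) (a N k i (i.succAbove r)))) := by
  classical
  let X := CohB1.ProjSpace N k
  let f := CohB1.ProjSpace.toSpec N k
  let d := OmegaSh.dOmega f
  let R := Γ(X, Q.1)
  let α : Fin (N + 1) → R := fun j => resR hi (a N k i j)
  let α' : Fin (N + 1) → R := fun j => resR hl (a N k l j)
  let b : R := α' i
  have hb : IsUnit b := isUnit_a N k i l hi hl
  have hα' : ∀ j, α' j = b * α j := fun j => a_trans N k i l j hi hl
  have hαi : α i = 1 := by simp [α, a_self]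
  have hd1 : ∀ x : X.Opens, d.app x 1 = 0 := fun x => by
    have h := Synt29.OmegaStalk.app_mul _ d x 1 1
    rw [mul_one, one_smul] at h
    exact left_eq_add.1 h
  have hres : ∀ (p : Fin (N + 1)) (hp : Q.1 ≤ DD N k p) (j : Fin (N + 1)),
      res (Omega.sheaf f) hp (d.app (DD N k p) (a N k p j)) = d.app Q.1 (resR hp (a N k p j)) := fun p hp j =>
    (Synt29.OmegaStalk.app_res _ _ (homOfLE hp) _).symm
  let v : Fin N → Γ(Omega.sheaf f, Q.1) := fun r => d.app Q.1 (α (i.succAbove r))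
  have hbas : Function.Bijective fun c : Fin N → R => ∑ r, c r • v r := by
    refine (congrArg Function.Bijective (funext fun c => ?_)).mp (isFrame_da N k i Q.1 hi)
    exact Finset.sum_congr rfl fun r _ => congrArg (c r • ·) (hres i hi _)
  obtain ⟨cc, hcc⟩ := hbas.2 (d.app Q.1 b)
  let c : Fin (N + 1) → R := i.insertNth (-∑ r, cc r * α (i.succAbove r)) cc
  have hcα : ∑ j, c j * α j = 0 := by
    rw [Fin.sum_univ_succAbove _ i]
    simp [c, hαi]
  have hdb : ∑ j, c j • d.app Q.1 (α j) = d.app Q.1 b := by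
    rw [Fin.sum_univ_succAbove _ i, hαi, hd1, smul_zero, zero_add]
    simp only [c, Fin.insertNth_apply_succAbove]
    exact hcc
  let M : Matrix (Fin (N + 1)) (Fin (N + 1)) R :=
    b • (1 : Matrix (Fin (N + 1)) (Fin (N + 1)) R) + Matrix.replicateCol Unit α * Matrix.replicateRow Unit c
  have hM : ∀ r j, M r j = (if r = j then b else 0) + α r * c j := fun r j => by
    simp [M, Matrix.mul_apply, Matrix.one_apply]
  have hMd : ∀ r, d.app Q.1 (α' r) = ∑ j, M r j • d.app Q.1 (α j) := fun r => by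
    simp only [hM, add_smul, Finset.sum_add_distrib, ite_smul, zero_smul, Finset.sum_ite_eq, Finset.mem_univ,
      if_true, mul_smul, ← Finset.smul_sum, hdb]
    rw [hα', Synt29.OmegaStalk.app_mul]
  have hrow : M l = Pi.single i 1 := by
    have h0 : d.app Q.1 (α' l) = 0 := by simp [α', a_self, hd1]
    rw [hMd, Fin.sum_univ_succAbove _ i, hαi, hd1, smul_zero, zero_add] at h0
    have hz : ∀ r, M l (i.succAbove r) = 0 := fun r => congrFun (hbas.1
      (a₁ := fun r => M l (i.succAbove r)) (a₂ := 0) (h0.trans (by simp))) r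
    have h1 : ∑ j, M l j * α j = 1 := by
      simp only [hM, add_mul, Finset.sum_add_distrib, ite_mul, zero_mul, Finset.sum_ite_eq, Finset.mem_univ,
        if_true, mul_assoc, ← Finset.mul_sum, hcα, mul_zero, add_zero]
      rw [← hα']
      simp [α', a_self]
    rw [Fin.sum_univ_succAbove _ i, hαi, mul_one, Finset.sum_eq_zero (fun r _ => by rw [hz, zero_mul]), add_zero] at h1
    funext j
    refine Fin.succAboveCases i ?_ (fun r => ?_) j
    · simp [h1]
    · simp [hz, Fin.succAbove_ne]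
  have hdet : M.det = b ^ (N + 1) := by
    obtain ⟨w, hw⟩ := hb
    have hMw : M = b • (1 + Matrix.replicateCol Unit ((↑w⁻¹ : R) • α) * Matrix.replicateRow Unit c) := by
      ext r j
      rw [hM]
      simp [Matrix.mul_apply, Matrix.one_apply, ← hw, mul_add, mul_assoc]
    rw [hMw, Matrix.det_smul, Matrix.det_one_add_replicateCol_mul_replicateRow, dotProduct_smul,
      show c ⬝ᵥ α = 0 from hcα, smul_zero, add_zero, mul_one, Fintype.card_fin]
  let T' : Matrix (Fin N) (Fin N) R := M.submatrix l.succAbove i.succAbove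
  have hT : T'.det = (-1) ^ (l + i : ℕ) * b ^ (N + 1) := by
    rw [← hdet, M.det_succ_row l, Finset.sum_eq_single i (fun j _ hj => by rw [hrow, Pi.single_eq_of_ne hj]; ring)
      (by simp), hrow, Pi.single_eq_same, mul_one, ← mul_assoc, ← mul_pow]
    simp [T']
  rw [SmFrame.wedge_matrix φ Q (fun r => res _ hi (d.app (DD N k i) (a N k i (i.succAbove r)))) _ T' fun r => ?_, hT]
  rw [hres, hMd, Fin.sum_univ_succAbove _ i, hαi, hd1, smul_zero, zero_add]
  exact Finset.sum_congr rfl fun s _ => congrArg (M (l.succAbove r) (i.succAbove s) • ·) (hres i hi _).symm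

/-- The top forms of projective space are `O(-N-1)`. -/
theorem nonempty_topForms_iso [QuasiSeparated (CohB1.ProjSpace.toSpec N k)] {L : (CohB1.ProjSpace N k).Modules}
    (hL : ExtPow.IsExtPow N (Omega.sheaf (CohB1.ProjSpace.toSpec N k)) L) :
    Nonempty (L ≅ Twist.twistProjSpace N k (-((N : ℤ) + 1))) := by
  obtain ⟨φ, hφ⟩ := hL
  let Aff : Fin (N + 1) → (CohB1.ProjSpace N k).affineOpens := fun i =>
    ⟨DD N k i, Proj.isAffineOpen_basicOpen Gr (T i) (ZetaLib.X_mem_one N k i) Nat.one_pos⟩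
  let w : ∀ i, Γ(L, DD N k i) := fun i => SmFrame.wedge φ (Aff i) fun r =>
    (OmegaSh.dOmega (CohB1.ProjSpace.toSpec N k)).app (DD N k i) (a N k i (i.succAbove r))
  have hw : ∀ i, InvX.IsFrame (w i) := fun i => SmFrame.isFrame_wedge φ hφ (Aff i) _ (isFrame_da N k i)
  refine TorsPic.nonempty_iso_of_frames (ι := ULift.{u} (Fin (N + 1))) (fun i => DD N k i.down) (fun x => ?_)
    (fun i => ((-1) ^ (i.down : ℕ) : Γ(CohB1.ProjSpace N k, DD N k i.down)) • w i.down)
    (fun i => (hw i.down).isUnit_smul ((IsUnit.neg isUnit_one).pow _))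
    (fun i => pw N k (-((N : ℤ) + 1)) i.down) (fun i => isFrame_pw N k _ i.down) ?_
  · obtain ⟨j, hj⟩ := PnCoh.Chow.cov_coord _ x
    exact ⟨j, hj⟩
  rintro ⟨i⟩ ⟨l⟩ W hi hl g hg
  rw [res_pw N k i l hi hl]
  congr 1
  symm
  refine eq_of_locally (M := Coh.structureModule (CohB1.ProjSpace N k)) _ _ fun p hp => ?_
  obtain ⟨_, ⟨Q, hQ, rfl⟩, hpQ, hQW⟩ :=
    (CohB1.ProjSpace N k).isBasis_affineOpens.exists_subset_of_mem_open hp W.2
  refine ⟨Q, hQW, hpQ, ?_⟩
  show resR (hQW : Q ≤ W) g = resR (hQW : Q ≤ W) (resR hl (a N k l i) ^ (N + 1))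
  rw [map_pow, resR_resR]
  refine ((hw i).isUnit_smul ((IsUnit.neg isUnit_one).pow (i : ℕ))).coord_unique ((hQW : Q ≤ W).trans hi) ?_
  have h := congrArg (res L (hQW : Q ≤ W)) hg
  simp only [res_smul, res_res] at h ⊢
  refine h.symm.trans ?_
  have hwl : res L ((hQW : Q ≤ W).trans hl) (w l) = ((-1) ^ (l + i : ℕ) *
      resR ((hQW : Q ≤ W).trans hl) (a N k l i) ^ (N + 1)) • res L ((hQW : Q ≤ W).trans hi) (w i) := by
    rw [SmFrame.res_wedge φ hφ (Aff l) ⟨Q, hQ⟩, SmFrame.res_wedge φ hφ (Aff i) ⟨Q, hQ⟩]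
    exact wedge_da_trans φ i l ⟨Q, hQ⟩ _ _
  rw [hwl, smul_smul, smul_smul]
  congr 1
  simp only [map_pow, map_neg, map_one]
  have h2 : ((-1 : Γ(CohB1.ProjSpace N k, Q)) ^ (l : ℕ)) * (-1) ^ (l : ℕ) = 1 := by
    rw [← mul_pow]; simp
  rw [pow_add]
  linear_combination (resR ((hQW : Q ≤ W).trans hl) (a N k l i) ^ (N + 1) * (-1) ^ (i : ℕ)) * h2

end Groth.Agent.ExtShX.PnOmega
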