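import Groth.Agent.ExtShX.SmFrame
import Groth.Agent.ExtShX.ExtPowTop
import Groth.Agent.PruferCoh.Chart
import Groth.Agent.ProjUPX.TwistFrame
import Groth.Agent.InvX.GenLocusPull
import Groth.Agent.PnCoh.TwistTriv
import Groth.Agent.PnCoh.Chow.Proper
import Groth.Agent.PnPic.Twist
import Groth.Agent.TorsPic.Iso
import Mathlib

/-!
# The top forms of projective space over a scheme
-/

set_option autoImplicit false
set_option linter.style.haveILetI false
set_option linter.unusedSectionVars false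
set_option backward.isDefEq.respectTransparency false
set_option backward.isDefEq.respectTransparency.types false

universe u

open CategoryTheory CategoryTheory.Limits AlgebraicGeometry TopologicalSpace Opposite
open HomogeneousLocalization (Away)

noncomputable section

namespace Groth.Agent.ExtShX.PnOmegaOver

open Groth.Agent.AModX

section Proj

variable (N : ℕ) (k : Type u) [CommRing k]

local notation "Gr" => CohB1.polyGrading N k
local notation "T" => (MvPolynomial.X : Fin (N + 1) → MvPolynomial (Fin (N + 1)) k)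

/-- The chart `D₊(T_i)`. -/
abbrev DD (i : Fin (N + 1)) : (CohB1.ProjSpace N k).Opens := Proj.basicOpen Gr (T i)

/-- The function `T_j / T_i`. -/
def a (i j : Fin (N + 1)) : Γ(CohB1.ProjSpace N k, DD N k i) :=
  (Proj.awayToSection Gr (T i)).hom (PruferCoh.coord N k i j)

theorem a_self (i : Fin (N + 1)) : a N k i i = 1 := by
  rw [a, PruferCoh.coord_self, map_one]

theorem isFrame_sec (i : Fin (N + 1)) :
    InvX.IsFrame (res (Twist.twist Gr 1) (le_top : DD N k i ≤ ⊤) (ProjUPX.sec Gr (PruferCoh.X_mem_one N k i))) :=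
  ProjUPX.isFrame_sec Gr (PruferCoh.X_mem_one N k i)

theorem isAffineOpen_DD (i : Fin (N + 1)) : IsAffineOpen (DD N k i) :=
  Proj.isAffineOpen_basicOpen Gr (T i) (PruferCoh.X_mem_one N k i) Nat.one_pos

/-- The coordinates of a chart. -/
def chartEquiv (i : Fin (N + 1)) : MvPolynomial (Fin N) k ≃+* Γ(CohB1.ProjSpace N k, DD N k i) :=
  (RingEquiv.ofBijective (PruferCoh.fromChart N k i) (PruferCoh.fromChart_bijective N k i)).trans
    (Proj.basicOpenIsoAway Gr (T i) (PruferCoh.X_mem_one N k i) Nat.one_pos).commRingCatIsoToRingEquiv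

theorem chartEquiv_X (i : Fin (N + 1)) (r : Fin N) :
    chartEquiv N k i (MvPolynomial.X r) = a N k i (i.succAbove r) := by
  show (Proj.awayToSection Gr (T i)).hom (PruferCoh.fromChart N k i (MvPolynomial.X r)) = _
  rw [PruferCoh.fromChart, MvPolynomial.eval₂Hom_X']
  rfl

theorem a_trans (i l j : Fin (N + 1)) {W : (CohB1.ProjSpace N k).Opens} (hi : W ≤ DD N k i) (hl : W ≤ DD N k l) :
    resR hl (a N k l j) = resR hl (a N k l i) * resR hi (a N k i j) := by
  have key : ∀ (p q : Fin (N + 1)) (hp : W ≤ DD N k p),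
      res (Twist.twist Gr 1) (le_top : W ≤ ⊤) (ProjUPX.sec Gr (PruferCoh.X_mem_one N k q)) =
        resR hp (a N k p q) • res (Twist.twist Gr 1) (le_top : W ≤ ⊤) (ProjUPX.sec Gr (PruferCoh.X_mem_one N k p)) := by
    intro p q hp
    have h := congrArg (res (Twist.twist Gr 1) hp)
      (ProjUPX.sec_eq_smul Gr (PruferCoh.X_mem_one N k q) (PruferCoh.X_mem_one N k p))
    rw [res_smul, res_res, res_res] at h
    exact h
  refine (isFrame_sec N k l).coord_unique hl ?_
  rw [res_res, ← key l j hl, key i j hi, key l i hl, smul_smul, mul_comm]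

theorem isUnit_a (i l : Fin (N + 1)) {W : (CohB1.ProjSpace N k).Opens} (hi : W ≤ DD N k i) (hl : W ≤ DD N k l) :
    IsUnit (resR hl (a N k l i)) := by
  refine IsUnit.of_mul_eq_one (resR hi (a N k i l)) ?_
  rw [← a_trans N k i l l hi hl, a_self, map_one]

/-- The frame of `O(d)` given by `T_i ^ d`. -/
def pw (d : ℤ) (i : Fin (N + 1)) : Γ(Twist.twistProjSpace N k d, DD N k i) :=
  PnCoh.twPow (PruferCoh.X_mem_one N k i) d (fun x => x.2)

theorem isFrame_pw (d : ℤ) (i : Fin (N + 1)) : InvX.IsFrame (pw N k d i) := by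
  intro V hV
  have hU : PnCoh.NonVan (𝒜 := Gr) (T i) V := fun x => hV x.2
  exact PnCoh.trivMap_bijective (PruferCoh.X_mem_one N k i) d hU

theorem res_pw (i l : Fin (N + 1)) {W : (CohB1.ProjSpace N k).Opens} (hi : W ≤ DD N k i) (hl : W ≤ DD N k l) :
    res _ hl (pw N k (-((N : ℤ) + 1)) l) =
      resR hl (a N k l i) ^ (N + 1) • res _ hi (pw N k (-((N : ℤ) + 1)) i) := by
  refine Subtype.ext (funext fun x => Subtype.ext ?_)
  refine Eq.trans ?_ (Twist.coe_smul_val _ x.1 _ _).symm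
  have hv : ∀ (q : Fin (N + 1)) (hq : W ≤ DD N k q) (r : Γ(CohB1.ProjSpace N k, DD N k q)),
      ((show Twist.O (𝒜 := Gr) (op W) from resR hq r).1 x).val =
        ((show Twist.O (𝒜 := Gr) (op (DD N k q)) from r).1 ⟨x.1, hq x.2⟩).val := fun _ _ _ => rfl
  show (Localization.mk (T l ^ (-((N : ℤ) + 1)).toNat) ⟨T l ^ (-(-((N : ℤ) + 1))).toNat, _⟩ : Twist.Loc Gr x.1) =
    ((show Twist.O (𝒜 := Gr) (op W) from resR hl (a N k l i) ^ (N + 1)).1 x).val *
      Localization.mk (T i ^ (-((N : ℤ) + 1)).toNat) ⟨T i ^ (-(-((N : ℤ) + 1))).toNat, _⟩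
  have hpow : ((show Twist.O (𝒜 := Gr) (op W) from resR hl (a N k l i) ^ (N + 1)).1 x).val =
      (Localization.mk (T i) ⟨T l, (hl x.2)⟩ : Twist.Loc Gr x.1) ^ (N + 1) := by
    show (((show Twist.O (𝒜 := Gr) (op W) from resR hl (a N k l i)) ^ (N + 1)).1 x).val = _
    have h0 : ((show Twist.O (𝒜 := Gr) (op W) from resR hl (a N k l i)).1 x).val =
        (Localization.mk (T i) ⟨T l, (hl x.2)⟩ : Twist.Loc Gr x.1) := by
      rw [hv l hl, a]
      erw [ProjectiveSpectrum.Proj.awayToSection_apply]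
      rw [PruferCoh.coord, Away.val_mk, Localization.mk_eq_mk' (M := Submonoid.powers (T l)), IsLocalization.map_mk',
        ← Localization.mk_eq_mk', Localization.mk_eq_mk_iff, Localization.r_iff_exists]
      exact ⟨1, by simp⟩
    rw [← h0, ← HomogeneousLocalization.val_pow]
    rfl
  rw [hpow, Localization.mk_pow, Localization.mk_mul, Localization.mk_eq_mk_iff, Localization.r_iff_exists]
  refine ⟨1, ?_⟩
  simp only [show (-((N : ℤ) + 1)).toNat = 0 by omega, show (-(-((N : ℤ) + 1))).toNat = N + 1 by omega,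
    SubmonoidClass.coe_pow, Submonoid.coe_mul, OneMemClass.coe_one, one_mul, pow_zero, mul_one]

end Proj

/-- Transition of wedges of differentials of homogeneous coordinates. -/
theorem wedge_trans {X Y : Scheme.{u}} (f : X ⟶ Y) [QuasiSeparated f] {N : ℕ} {L : X.Modules}
    (φ : ∀ U : X.affineOpens, (L.val.obj (op U.1)) ≃ₗ[Γ(X, U.1)]
      ↥(⋀[Γ(X, U.1)]^N ((Omega.sheaf f).val.obj (op U.1))))
    (Q : X.affineOpens) (α α' : Fin (N + 1) → Γ(X, Q.1)) (i l : Fin (N + 1)) (hαi : α i = 1) (hα'l : α' l = 1)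
    (hb : IsUnit (α' i)) (hα' : ∀ j, α' j = α' i * α j)
    (hbas : Function.Bijective fun c : Fin N → Γ(X, Q.1) =>
      ∑ r, c r • (OmegaSh.dOmega f).app Q.1 (α (i.succAbove r))) :
    SmFrame.wedge φ Q (fun r => (OmegaSh.dOmega f).app Q.1 (α' (l.succAbove r))) =
      ((-1) ^ (l + i : ℕ) * α' i ^ (N + 1)) •
        SmFrame.wedge φ Q (fun r => (OmegaSh.dOmega f).app Q.1 (α (i.succAbove r))) := by
  classical
  let d := OmegaSh.dOmega f
  let R := Γ(X, Q.1)
  let b : R := α' i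
  have hd1 : ∀ x : X.Opens, d.app x 1 = 0 := fun x => by
    have h := Synt29.OmegaStalk.app_mul _ d x 1 1
    rw [mul_one, one_smul] at h
    exact left_eq_add.1 h
  obtain ⟨cc, hcc⟩ := hbas.2 (d.app Q.1 b)
  let c : Fin (N + 1) → R := i.insertNth (-∑ r, cc r * α (i.succAbove r)) cc
  have hcα : ∑ j, c j * α j = 0 := by
    rw [Fin.sum_univ_succAbove _ i]
    simp [c, hαi]
  have hdb : ∑ j, c j • d.app Q.1 (α j) = d.app Q.1 b := by
    rw [Fin.sum_univ_succAbove _ i, hαi, hd1, smul_zero, zero_add]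
    simp only [c, Fin.insertNth_apply_succAbove]
    exact hcc
  let M : Matrix (Fin (N + 1)) (Fin (N + 1)) R :=
    b • (1 : Matrix (Fin (N + 1)) (Fin (N + 1)) R) + Matrix.replicateCol Unit α * Matrix.replicateRow Unit c
  have hM : ∀ r j, M r j = (if r = j then b else 0) + α r * c j := fun r j => by
    simp [M, Matrix.mul_apply, Matrix.one_apply]
  have hMd : ∀ r, d.app Q.1 (α' r) = ∑ j, M r j • d.app Q.1 (α j) := fun r => by
    simp only [hM, add_smul, Finset.sum_add_distrib, ite_smul, zero_smul, Finset.sum_ite_eq, Finset.mem_univ,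
      if_true, mul_smul, ← Finset.smul_sum, hdb]
    rw [hα', Synt29.OmegaStalk.app_mul]
  have hrow : M l = Pi.single i 1 := by
    have h0 : d.app Q.1 (α' l) = 0 := by simp [hα'l, hd1]
    rw [hMd, Fin.sum_univ_succAbove _ i, hαi, hd1, smul_zero, zero_add] at h0
    have hz : ∀ r, M l (i.succAbove r) = 0 := fun r => congrFun (hbas.1
      (a₁ := fun r => M l (i.succAbove r)) (a₂ := 0) (h0.trans (by simp))) r
    have h1 : ∑ j, M l j * α j = 1 := by
      simp only [hM, add_mul, Finset.sum_add_distrib, ite_mul, zero_mul, Finset.sum_ite_eq, Finset.mem_univ,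
        if_true, mul_assoc, ← Finset.mul_sum, hcα, mul_zero, add_zero]
      rw [← hα']
      simp [hα'l]
    rw [Fin.sum_univ_succAbove _ i, hαi, mul_one, Finset.sum_eq_zero (fun r _ => by rw [hz, zero_mul]), add_zero] at h1
    funext j
    refine Fin.succAboveCases i ?_ (fun r => ?_) j
    · simp [h1]
    · simp [hz, Fin.succAbove_ne]
  have hdet : M.det = b ^ (N + 1) := by
    obtain ⟨w, hw'⟩ := hb
    have hw : (↑w : R) = b := hw'
    have hMw : M = b • (1 + Matrix.replicateCol Unit ((↑w⁻¹ : R) • α) * Matrix.replicateRow Unit c) := by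
      ext r j
      rw [hM]
      simp [Matrix.mul_apply, Matrix.one_apply, ← hw, mul_add, mul_assoc]
    rw [hMw, Matrix.det_smul, Matrix.det_one_add_replicateCol_mul_replicateRow, dotProduct_smul,
      show c ⬝ᵥ α = 0 from hcα, smul_zero, add_zero, mul_one, Fintype.card_fin]
  let T' : Matrix (Fin N) (Fin N) R := M.submatrix l.succAbove i.succAbove
  have hT : T'.det = (-1) ^ (l + i : ℕ) * b ^ (N + 1) := by
    rw [← hdet, M.det_succ_row l, Finset.sum_eq_single i (fun j _ hj => by rw [hrow, Pi.single_eq_of_ne hj]; ring)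
      (by simp), hrow, Pi.single_eq_same, mul_one, ← mul_assoc, ← mul_pow]
    simp [T']
  rw [SmFrame.wedge_matrix φ Q (fun r => d.app Q.1 (α (i.succAbove r))) _ T' fun r => ?_, hT]
  show d.app Q.1 (α' (l.succAbove r)) = _
  rw [hMd, Fin.sum_univ_succAbove _ i, hαi, hd1, smul_zero, zero_add]
  rfl

variable (N : ℕ) (Y : Scheme.{u})

/-- The base ring. -/
abbrev R₀ : Type u := ULift.{u} ℤ
/-- Relative projective space. -/
abbrev PY : Scheme.{u} := CohB1.ProjSpaceOver N Y

/-- The projection to the absolute projective space. -/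
abbrev pr : CohB1.ProjSpaceOver N Y ⟶ CohB1.ProjSpace N R₀.{u} :=
  pullback.fst (CohB1.ProjSpace.toSpec N R₀.{u}) (specULiftZIsTerminal.from Y)

/-- The chart over an affine open of the base. -/
abbrev UU (i : Fin (N + 1)) (V : Y.Opens) : (PY N Y).Opens :=
  pr N Y ⁻¹ᵁ DD N R₀.{u} i ⊓ CohB1.ProjSpaceOver.toBase N Y ⁻¹ᵁ V

theorem isPullback_base : IsPullback (pr N Y) (CohB1.ProjSpaceOver.toBase N Y)
    (CohB1.ProjSpace.toSpec N R₀.{u}) (specULiftZIsTerminal.from Y) :=
  IsPullback.of_hasPullback _ _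

theorem isAffineOpen_UU (i : Fin (N + 1)) (V : Y.affineOpens) : IsAffineOpen (UU N Y i V.1) := by
  haveI : IsAffine _ := isAffineOpen_DD N R₀.{u} i
  haveI : IsAffine _ := V.2
  haveI : IsAffine ((⊤ : (Spec (CommRingCat.of R₀.{u})).Opens) : Scheme.{u}) := isAffineOpen_top _
  exact .of_isIso (Scheme.Hom.isPullback_resLE (isPullback_base N Y) (US := ⊤) (UT := V.1)
    (UX := DD N R₀.{u} i) le_top le_top rfl).isoPullback.hom

/-- A coordinate function on a chart. -/
def a' (i j : Fin (N + 1)) : Γ((PY N Y), pr N Y ⁻¹ᵁ DD N R₀.{u} i) := (pr N Y).app _ (a N R₀.{u} i j)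

theorem isPushout_chart (i : Fin (N + 1)) (V : Y.affineOpens) :
    IsPushout ((CohB1.ProjSpace.toSpec N R₀.{u}).appLE ⊤ (DD N R₀.{u} i) le_top)
      ((specULiftZIsTerminal.from Y).appLE ⊤ V.1 le_top)
      ((pr N Y).appLE (DD N R₀.{u} i) (UU N Y i V.1) inf_le_left)
      ((CohB1.ProjSpaceOver.toBase N Y).appLE V.1 (UU N Y i V.1) inf_le_right) :=
  (isIso_pushoutSection_iff (isPullback_base N Y) (UT := V.1) (UX := DD N R₀.{u} i) le_top le_top rfl).1
    (isIso_pushoutSection_of_isAffineOpen (isPullback_base N Y) le_top le_top rfl (isAffineOpen_top _) V.2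
      (isAffineOpen_DD N R₀.{u} i))

instance subsingleton_R₀ {S : Type*} [CommRing S] : Subsingleton (R₀.{u} →+* S) := by
  refine ⟨fun g g' => RingHom.ext fun x => ?_⟩
  obtain ⟨m⟩ := x
  rw [show (ULift.up m : R₀.{u}) = (m : R₀.{u}) from ULift.ext _ _ (by simp), map_intCast, map_intCast]

instance subsingleton_ringHom {S : Type*} [CommRing S] :
    Subsingleton ((Γ(Spec (CommRingCat.of R₀.{u}), ⊤) : CommRingCat.{u}) →+* S) := by
  let e : Γ(Spec (CommRingCat.of R₀.{u}), ⊤) ≃+* R₀.{u} :=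
    (Scheme.ΓSpecIso (CommRingCat.of R₀.{u})).commRingCatIsoToRingEquiv
  refine ⟨fun g g' => RingHom.ext fun x => ?_⟩
  have h : g (e.symm (e x)) = g' (e.symm (e x)) :=
    RingHom.congr_fun (Subsingleton.elim (g.comp e.symm.toRingHom) (g'.comp e.symm.toRingHom)) (e x)
  rwa [e.symm_apply_apply] at h

/-- The coordinates make a chart affine space over the base. -/
theorem aeval_bijective (i : Fin (N + 1)) (V : Y.affineOpens) :
    letI := ((CohB1.ProjSpaceOver.toBase N Y).appLE V.1 (UU N Y i V.1) inf_le_right).hom.toAlgebra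
    Function.Bijective (MvPolynomial.aeval (R := Γ(Y, V.1))
      fun r : Fin N => (pr N Y).appLE (DD N R₀.{u} i) (UU N Y i V.1) inf_le_left (a N R₀.{u} i (i.succAbove r))) := by
  letI := ((CohB1.ProjSpaceOver.toBase N Y).appLE V.1 (UU N Y i V.1) inf_le_right).hom.toAlgebra
  let A := MvPolynomial (Fin N) Γ(Y, V.1)
  let e := chartEquiv N R₀.{u} i
  let φ₁ : Γ(CohB1.ProjSpace N R₀.{u}, DD N R₀.{u} i) →+* A :=
    (MvPolynomial.map ((Int.castRingHom Γ(Y, V.1)).comp (ULift.ringEquiv : R₀.{u} ≃+* ℤ).toRingHom)).comp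
      e.symm.toRingHom
  have h := isPushout_chart N Y i V
  let k := h.desc (CommRingCat.ofHom φ₁) (CommRingCat.ofHom (MvPolynomial.C : Γ(Y, V.1) →+* A))
    (CommRingCat.hom_ext (Subsingleton.elim _ _))
  have hl : ∀ x, k.hom ((pr N Y).appLE (DD N R₀.{u} i) (UU N Y i V.1) inf_le_left x) = φ₁ x := fun x =>
    congr($(h.inl_desc _ _ _) x)
  have hr : ∀ x, k.hom ((CohB1.ProjSpaceOver.toBase N Y).appLE V.1 (UU N Y i V.1) inf_le_right x) =
      MvPolynomial.C x := fun x => congr($(h.inr_desc _ _ _) x)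
  let ψ := MvPolynomial.aeval (R := Γ(Y, V.1))
    fun r : Fin N => (pr N Y).appLE (DD N R₀.{u} i) (UU N Y i V.1) inf_le_left (a N R₀.{u} i (i.succAbove r))
  have h1 : k.hom.comp ψ.toRingHom = RingHom.id A := by
    refine MvPolynomial.ringHom_ext (fun c => ?_) fun r => ?_
    · show k.hom (ψ (MvPolynomial.C c)) = _
      rw [MvPolynomial.aeval_C]
      exact hr c
    · show k.hom (ψ (MvPolynomial.X r)) = _
      rw [MvPolynomial.aeval_X, hl, ← chartEquiv_X]
      show MvPolynomial.map _ (e.symm (e (MvPolynomial.X r))) = _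
      rw [e.symm_apply_apply, MvPolynomial.map_X]
      rfl
  have h2 : k ≫ CommRingCat.ofHom ψ.toRingHom = 𝟙 _ := by
    refine h.hom_ext ?_ ?_
    · rw [h.inl_desc_assoc, Category.comp_id]
      refine CommRingCat.hom_ext ?_
      show ψ.toRingHom.comp φ₁ = _
      suffices hh : (ψ.toRingHom.comp φ₁).comp e.toRingHom =
          ((pr N Y).appLE (DD N R₀.{u} i) (UU N Y i V.1) inf_le_left).hom.comp e.toRingHom from
        RingHom.ext fun x => by simpa using congr($hh (e.symm x))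
      refine MvPolynomial.ringHom_ext (fun c => ?_) fun r => ?_
      · exact RingHom.congr_fun (Subsingleton.elim
          (((ψ.toRingHom.comp φ₁).comp e.toRingHom).comp MvPolynomial.C)
          ((((pr N Y).appLE (DD N R₀.{u} i) (UU N Y i V.1) inf_le_left).hom.comp e.toRingHom).comp MvPolynomial.C)) c
      · show ψ (MvPolynomial.map _ (e.symm (e (MvPolynomial.X r)))) = _
        rw [e.symm_apply_apply, MvPolynomial.map_X, MvPolynomial.aeval_X]
        show _ = (pr N Y).appLE _ _ _ (e (MvPolynomial.X r))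
        rw [chartEquiv_X]
    · rw [h.inr_desc_assoc, Category.comp_id]
      refine CommRingCat.hom_ext (RingHom.ext fun c => ?_)
      exact ψ.commutes c
  exact ⟨fun x y hxy => by simpa using (congr($h1 x)).symm.trans ((congrArg k.hom hxy).trans congr($h1 y)),
    fun z => ⟨k.hom z, congr($h2 z)⟩⟩

instance : QuasiSeparated (CohB1.ProjSpaceOver.toBase N Y) := by
  haveI : IsProper (CohB1.ProjSpace.toSpec N R₀.{u}) := PnCoh.Chow.isProper_toSpec N R₀.{u}
  haveI : IsProper (CohB1.ProjSpaceOver.toBase N Y) :=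
    MorphismProperty.of_isPullback (P := @IsProper) (isPullback_base N Y) inferInstance
  infer_instance

/-- The coordinate differentials form a frame. -/
theorem isFrame_da' (i : Fin (N + 1)) (V : Y.affineOpens) :
    H23.Frame.IsFrame (Omega.sheaf (CohB1.ProjSpaceOver.toBase N Y))
      fun r : Fin N => (OmegaSh.dOmega (CohB1.ProjSpaceOver.toBase N Y)).app (UU N Y i V.1)
        ((pr N Y).appLE (DD N R₀.{u} i) (UU N Y i V.1) inf_le_left (a N R₀.{u} i (i.succAbove r))) := by
  let f := CohB1.ProjSpaceOver.toBase N Y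
  let U := UU N Y i V.1
  let A := Γ(Y, V.1)
  letI : Algebra A Γ((PY N Y), U) := (f.appLE V.1 U inf_le_right).hom.toAlgebra
  let P := MvPolynomial (Fin N) A
  let v : Fin N → Γ((PY N Y), U) := fun r => (pr N Y).appLE (DD N R₀.{u} i) U inf_le_left (a N R₀.{u} i (i.succAbove r))
  let ψ : P →ₐ[A] Γ((PY N Y), U) := MvPolynomial.aeval v
  letI : Algebra P Γ((PY N Y), U) := ψ.toRingHom.toAlgebra
  haveI : IsScalarTower A P Γ((PY N Y), U) := IsScalarTower.of_algebraMap_eq fun c => (ψ.commutes c).symm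
  haveI : Algebra.Etale P Γ((PY N Y), U) := by
    have h : ψ.toRingHom.Etale := RingHom.Etale.of_bijective (aeval_bijective N Y i V)
    exact h
  let γ : Module.Basis (Fin N) Γ((PY N Y), U) (TensorProduct P Γ((PY N Y), U) Ω[P⁄A]) :=
    (KaehlerDifferential.mvPolynomialBasis A (Fin N)).baseChange _
  refine SmFrame.isFrame_dOmega f (isAffineOpen_UU N Y i V) V.2 inf_le_right v
    (γ.map (KaehlerDifferential.tensorKaehlerEquivOfFormallyEtale A P Γ((PY N Y), U))) fun r => ?_
  rw [Module.Basis.map_apply]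
  show KaehlerDifferential.mapBaseChange A P Γ((PY N Y), U) (γ r) = _
  rw [Module.Basis.baseChange_apply, KaehlerDifferential.mvPolynomialBasis_apply]
  refine (KaehlerDifferential.mapBaseChange_tmul A P Γ((PY N Y), U) 1 _).trans ?_
  rw [one_smul, KaehlerDifferential.map_D]
  exact congrArg _ (MvPolynomial.aeval_X (R := A) v r)

/-- The top forms of relative projective space are `O(-N-1)`. -/
theorem nonempty_topForms_iso {L : (CohB1.ProjSpaceOver N Y).Modules}
    (hL : ExtPow.IsExtPow N (Omega.sheaf (CohB1.ProjSpaceOver.toBase N Y)) L) :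
    Nonempty (L ≅ Twist.twistOver N Y (-((N : ℤ) + 1))) := by
  obtain ⟨φ, hφ⟩ := hL
  let f := CohB1.ProjSpaceOver.toBase N Y
  let d := OmegaSh.dOmega f
  let U : Fin (N + 1) × Y.affineOpens → (PY N Y).Opens := fun p => UU N Y p.1 p.2.1
  let c : ∀ p, Fin (N + 1) → Γ((PY N Y), U p) := fun p j =>
    (pr N Y).appLE (DD N R₀.{u} p.1) (U p) inf_le_left (a N R₀.{u} p.1 j)
  let Aff : Fin (N + 1) × Y.affineOpens → (PY N Y).affineOpens := fun p => ⟨U p, isAffineOpen_UU N Y p.1 p.2⟩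
  let w : ∀ p, Γ(L, U p) := fun p => SmFrame.wedge φ (Aff p) fun r => d.app (U p) (c p (p.1.succAbove r))
  have hw : ∀ p, InvX.IsFrame (w p) := fun p => SmFrame.isFrame_wedge φ hφ (Aff p) _ (isFrame_da' N Y p.1 p.2)
  let O := Twist.twistProjSpace N R₀.{u} (-((N : ℤ) + 1))
  let n : ∀ p, Γ(Twist.twistOver N Y (-((N : ℤ) + 1)), U p) := fun p =>
    res ((Scheme.Modules.pullback (pr N Y)).obj O) (inf_le_left : U p ≤ _)
      (InvX.pullElt (pr N Y) (pw N R₀.{u} (-((N : ℤ) + 1)) p.1))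
  refine TorsPic.nonempty_iso_of_frames (ι := ULift.{u} (Fin (N + 1) × Y.affineOpens)) (fun p => U p.down)
    (fun x => ?_)
    (fun p => ((-1) ^ (p.down.1 : ℕ) : Γ((PY N Y), U p.down)) • w p.down)
    (fun p => (hw p.down).isUnit_smul ((IsUnit.neg isUnit_one).pow _))
    (fun p => n p.down) (fun p => (InvX.isFrame_pullElt (pr N Y) (isFrame_pw N R₀.{u} _ p.down.1)).res inf_le_left) ?_
  · obtain ⟨j, hj⟩ := PnCoh.Chow.cov_coord _ (pr N Y x)
    obtain ⟨_, ⟨V, hV, rfl⟩, hxV, -⟩ := Y.isBasis_affineOpens.exists_subset_of_mem_open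
      (Set.mem_univ (f x)) isOpen_univ
    exact ⟨⟨(j.down, ⟨V, hV⟩)⟩, hj, hxV⟩
  rintro ⟨p⟩ ⟨q⟩ W hi hl g hg
  let W₀ := DD N R₀.{u} p.1 ⊓ DD N R₀.{u} q.1
  have hW₀ : W ≤ pr N Y ⁻¹ᵁ W₀ := le_inf (hi.trans inf_le_left) (hl.trans inf_le_left)
  let τ := ((pr N Y).appLE W₀ W hW₀).hom
  have hτ : ∀ (s : Fin (N + 1) × Y.affineOpens) (hs : W ≤ U s) (hs' : W₀ ≤ DD N R₀.{u} s.1) (j),
      resR hs (c s j) = τ (resR hs' (a N R₀.{u} s.1 j)) := fun s hs hs' j => by
    show ((pr N Y).appLE (DD N R₀.{u} s.1) (U s) inf_le_left ≫ (PY N Y).presheaf.map (homOfLE hs).op).hom _ =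
      ((CohB1.ProjSpace N R₀.{u}).presheaf.map (homOfLE hs').op ≫ (pr N Y).appLE W₀ W hW₀).hom _
    rw [Scheme.Hom.appLE_map, Scheme.Hom.map_appLE]
  have hn : res ((Scheme.Modules.pullback (pr N Y)).obj O) hl (n q) =
      resR hl (c q p.1) ^ (N + 1) • res ((Scheme.Modules.pullback (pr N Y)).obj O) hi (n p) := by
    have key : ∀ (s : Fin (N + 1) × Y.affineOpens) (hs : W ≤ U s) (hs' : W₀ ≤ DD N R₀.{u} s.1),
        res ((Scheme.Modules.pullback (pr N Y)).obj O) hs (n s) =
          res ((Scheme.Modules.pullback (pr N Y)).obj O) hW₀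
            (InvX.pullElt (pr N Y) (res O hs' (pw N R₀.{u} (-((N : ℤ) + 1)) s.1))) := fun s hs hs' => by
      rw [← InvX.res_pullElt (pr N Y) hs' (pw N R₀.{u} (-((N : ℤ) + 1)) s.1), res_res]
      exact (res_res _ _ _).symm
    rw [key q hl inf_le_right, key p hi inf_le_left, hτ q hl inf_le_right, ← map_pow,
      res_pw N R₀.{u} p.1 q.1 (inf_le_left : W₀ ≤ DD N R₀.{u} p.1) (inf_le_right : W₀ ≤ DD N R₀.{u} q.1),
      InvX.pullElt_smul, res_smul]
    rfl
  refine hn.trans ?_
  congr 1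
  symm
  refine eq_of_locally (M := Coh.structureModule (PY N Y)) _ _ fun x hx => ?_
  obtain ⟨_, ⟨Q, hQ, rfl⟩, hxQ, hQW⟩ := (PY N Y).isBasis_affineOpens.exists_subset_of_mem_open hx W.2
  refine ⟨Q, hQW, hxQ, ?_⟩
  show resR (hQW : Q ≤ W) g = resR (hQW : Q ≤ W) (resR hl (c q p.1) ^ (N + 1))
  rw [map_pow, resR_resR]
  refine ((hw p).isUnit_smul ((IsUnit.neg isUnit_one).pow (p.1 : ℕ))).coord_unique ((hQW : Q ≤ W).trans hi) ?_
  have h := congrArg (res L (hQW : Q ≤ W)) hg
  simp only [res_smul, res_res, resR_resR] at h ⊢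
  refine h.symm.trans ?_
  have hQp := (hQW : Q ≤ W).trans hi
  have hQq := (hQW : Q ≤ W).trans hl
  have hcomp : ∀ j, resR hQq (c q j) = resR hQq (c q p.1) * resR hQp (c p j) := fun j => by
    rw [← resR_resR hl (hQW : Q ≤ W) (c q j), ← resR_resR hl (hQW : Q ≤ W) (c q p.1),
      ← resR_resR hi (hQW : Q ≤ W) (c p j), hτ q hl inf_le_right, hτ q hl inf_le_right, hτ p hi inf_le_left,
      ← map_mul, ← map_mul, ← a_trans]
  have hu : IsUnit (resR hQq (c q p.1)) := by
    rw [← resR_resR hl (hQW : Q ≤ W) (c q p.1), hτ q hl inf_le_right]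
    exact (isUnit_a N R₀.{u} p.1 q.1 (inf_le_left : W₀ ≤ DD N R₀.{u} p.1)
      (inf_le_right : W₀ ≤ DD N R₀.{u} q.1)).map ((resR (hQW : Q ≤ W)).comp τ)
  have hres : ∀ (s : Fin (N + 1) × Y.affineOpens) (hs : Q ≤ U s) (j),
      res (Omega.sheaf f) hs (d.app (U s) (c s j)) = d.app Q (resR hs (c s j)) := fun s hs j =>
    (Synt29.OmegaStalk.app_res _ _ (homOfLE hs) _).symm
  have hwl : res L hQq (w q) = ((-1) ^ (q.1 + p.1 : ℕ) * resR hQq (c q p.1) ^ (N + 1)) • res L hQp (w p) := by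
    rw [SmFrame.res_wedge φ hφ (Aff q) ⟨Q, hQ⟩, SmFrame.res_wedge φ hφ (Aff p) ⟨Q, hQ⟩]
    refine ((congrArg (SmFrame.wedge φ ⟨Q, hQ⟩) (funext fun j => hres q hQq _)).trans ?_).trans
      (congrArg (_ • ·) (congrArg (SmFrame.wedge φ ⟨Q, hQ⟩) (funext fun j => (hres p hQp _).symm)))
    refine wedge_trans f φ ⟨Q, hQ⟩ (fun j => resR hQp (c p j)) (fun j => resR hQq (c q j)) p.1 q.1 ?_ ?_ hu hcomp ?_
    · simp [c, a_self]
    · simp [c, a_self]
    · refine (congrArg Function.Bijective (funext fun v => ?_)).mp (isFrame_da' N Y p.1 p.2 Q hQp)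
      exact Finset.sum_congr rfl fun r _ => congrArg (v r • ·) (hres p hQp _)
  rw [hwl, smul_smul, smul_smul]
  congr 1
  simp only [map_pow, map_neg, map_one]
  have h2 : ((-1 : Γ((PY N Y), Q)) ^ (q.1 : ℕ)) * (-1) ^ (q.1 : ℕ) = 1 := by
    rw [← mul_pow]; simp
  rw [pow_add]
  linear_combination (resR hQq (c q p.1) ^ (N + 1) * (-1) ^ (p.1 : ℕ)) * h2

end Groth.Agent.ExtShX.PnOmegaOver
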