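import Groth.Agent.ExtShX.TensorFree
import Groth.Agent.KFlatLib.Scheme.ExtZero
import Groth.Prelude.Def_ExtSupp
import Groth.Agent.ParaFX.Closed
import Groth.Agent.SiteBase.Horseshoe
import Groth.Agent.SiteBase.UnivDelta
import Mathlib

/-!
# Local Ext sheaves from locally free resolutions
-/

set_option autoImplicit false
set_option linter.style.haveILetI false
set_option backward.isDefEq.respectTransparency false
set_option backward.isDefEq.respectTransparency.types false

universe u

open CategoryTheory CategoryTheory.Limits AlgebraicGeometry TopologicalSpace Opposite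

namespace Groth.Agent.ExtShX

variable {X : Scheme.{u}} {A A' : X.Modules} [ModSite.HasSheafHom (O := X.sheaf) A]
  [ModSite.HasSheafHom (O := X.sheaf) A']

/-- The internal Hom with a fixed first variable, on schemes. -/
noncomputable abbrev SH (A : X.Modules) [ModSite.HasSheafHom (O := X.sheaf) A] : X.Modules ⥤ X.Modules :=
  ModSite.sheafHom (O := X.sheaf) A

/-- `- ⊗ A`. -/
noncomputable abbrev TF (A : X.Modules) : X.Modules ⥤ X.Modules := (ModSite.tensorBi X.sheaf).flip.obj A

/-- The mate. -/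
noncomputable def mate {Z G : X.Modules} : (Z ⟶ (SH A).obj G) ≃ ((DCoh.tensorBi.obj Z).obj A ⟶ G) :=
  ((ModSite.sheafHomAdj (O := X.sheaf) A).homEquiv Z G).symm

/-- Contravariance of the internal Hom. -/
noncomputable abbrev shMap (g : A' ⟶ A) : SH A ⟶ SH A' := ExtSupp.sheafHomMap (O := X.sheaf) g

theorem mate_shMap (g : A' ⟶ A) {Z G : X.Modules} (a : Z ⟶ (SH A).obj G) :
    mate (a ≫ (shMap g).app G) = (DCoh.tensorBi.obj Z).map g ≫ mate a := by
  let aA : TF A ⊣ SH A := ModSite.sheafHomAdj (O := X.sheaf) A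
  let aA' : TF A' ⊣ SH A' := ModSite.sheafHomAdj (O := X.sheaf) A'
  let τ : TF A' ⟶ TF A := (ModSite.tensorBi X.sheaf).flip.map g
  show (aA'.homEquiv Z G).symm (a ≫ (conjugateEquiv aA aA' τ).app G) = τ.app Z ≫ (aA.homEquiv Z G).symm a
  rw [Adjunction.homEquiv_counit, Adjunction.homEquiv_counit, Functor.map_comp, Category.assoc,
    conjugateEquiv_counit, ← Category.assoc, τ.naturality, Category.assoc]

theorem mate_zero {Z G : X.Modules} : mate (0 : Z ⟶ (SH A).obj G) = 0 := by
  let aA : TF A ⊣ SH A := ModSite.sheafHomAdj (O := X.sheaf) A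
  show (aA.homEquiv Z G).symm 0 = 0
  haveI : (SH A).Additive := ModSite.sheafHom_additive X.sheaf A
  haveI : (TF A).Additive := aA.left_adjoint_additive
  rw [Adjunction.homEquiv_counit, Functor.map_zero, zero_comp]

theorem shMap_comp {A'' : X.Modules} [ModSite.HasSheafHom (O := X.sheaf) A''] (f : A'' ⟶ A') (g : A' ⟶ A)
    (G : X.Modules) : (shMap (f ≫ g)).app G = (shMap g).app G ≫ (shMap f).app G := by
  apply mate.injective
  rw [mate_shMap]
  have h := mate_shMap (f ≫ g) (𝟙 ((SH A).obj G))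
  have h' := mate_shMap g (𝟙 ((SH A).obj G))
  rw [Category.id_comp] at h h'
  rw [h, h', Functor.map_comp, Category.assoc]

theorem shMap_zero (G : X.Modules) : (shMap (0 : A' ⟶ A)).app G = 0 := by
  apply mate.injective
  have h := mate_shMap (0 : A' ⟶ A) (𝟙 ((SH A).obj G))
  rw [Category.id_comp] at h
  rw [h, Functor.map_zero, zero_comp, mate_zero]

variable (E : ChainComplex X.Modules ℕ) [∀ j, ModSite.HasSheafHom (O := X.sheaf) (E.X j)]

/-- `Hom(E, G)`. -/
noncomputable def homCx (G : X.Modules) : CochainComplex X.Modules ℕ :=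
  CochainComplex.of (fun j => (SH (E.X j)).obj G) (fun j => (shMap (E.d (j + 1) j)).app G) fun j => by
    rw [← shMap_comp, E.d_comp_d, shMap_zero]

theorem homCx_d (G : X.Modules) (j : ℕ) : (homCx E G).d j (j + 1) = (shMap (E.d (j + 1) j)).app G :=
  by simp [homCx, CochainComplex.of]

/-- `G ↦ Hom(E, G)`. -/
noncomputable def homCxFunctor : X.Modules ⥤ CochainComplex X.Modules ℕ where
  obj := homCx E
  map {G G'} p :=
    { f := fun j => (SH (E.X j)).map p
      comm' := fun i j hij => by
        obtain rfl : i + 1 = j := hij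
        rw [homCx_d, homCx_d]
        exact (shMap (E.d (i + 1) i)).naturality p }
  map_id G := HomologicalComplex.hom_ext _ _ fun j => (SH (E.X j)).map_id G
  map_comp p q := HomologicalComplex.hom_ext _ _ fun j => (SH (E.X j)).map_comp p q

/-- The free module generated over an open. -/
noncomputable abbrev freeOn (U : X.Opens) : X.Modules :=
  (KFlatLib.lsh U.ι).obj (Coh.structureModule (↑U : Scheme.{u}))

/-- Tensoring on the right, in two presentations. -/
noncomputable def flipRightIso (Y : Scheme.{u}) (M : Y.Modules) :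
    (DCoh.tensorBi (X := Y)).flip.obj M ≅ DCoh.tensorRightMod M :=
  NatIso.ofComponents (fun _ => Iso.refl _) (fun f => (Category.comp_id _).trans (Category.id_comp _).symm)

/-- `O ⊗ -` is the identity. -/
noncomputable def unitLeftIso (Y : Scheme.{u}) :
    (DCoh.tensorBi (X := Y)).obj (Coh.structureModule Y) ≅ 𝟭 Y.Modules :=
  ((KFlatLib.tensorBiFlipIso Y).app (Coh.structureModule Y)).symm ≪≫ flipRightIso Y _ ≪≫
    KFlatLib.tensorStructureIso Y

/-- `freeOn U ⊗ -` is restriction followed by extension by zero. -/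
noncomputable def freeOnTensorIso (U : X.Opens) :
    (DCoh.tensorBi (X := X)).obj (freeOn U) ≅ Scheme.Modules.restrictFunctor U.ι ⋙ KFlatLib.lsh U.ι :=
  ((KFlatLib.projIso U.ι).app (Coh.structureModule (↑U : Scheme.{u}))).symm ≪≫
    Functor.isoWhiskerLeft (Scheme.Modules.restrictFunctor U.ι)
      (Functor.isoWhiskerRight (unitLeftIso (↑U : Scheme.{u})) (KFlatLib.lsh U.ι))

theorem exact_freeOn (U : X.Opens) {S : ShortComplex X.Modules} (hS : S.Exact) :
    (S.map ((DCoh.tensorBi (X := X)).obj (freeOn U))).Exact := by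
  let R := Scheme.Modules.restrictFunctor U.ι
  haveI : R.Additive := (Scheme.Modules.restrictAdjunction U.ι).left_adjoint_additive
  haveI : PreservesFiniteLimits R := by
    have : PreservesLimitsOfSize.{0, 0} R := (KFlatLib.lshAdj U.ι).rightAdjoint_preservesLimits
    exact ⟨fun _ => inferInstance⟩
  haveI : PreservesFiniteColimits R := by
    have : PreservesColimitsOfSize.{0, 0} R := (Scheme.Modules.restrictAdjunction U.ι).leftAdjoint_preservesColimits
    exact ⟨fun _ => inferInstance⟩
  exact (ShortComplex.exact_iff_of_iso (S.mapNatIso (freeOnTensorIso U))).2 (hS.map (R ⋙ KFlatLib.lsh U.ι))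

/-- Epimorphisms are detected by the modules `freeOn U`. -/
theorem epi_of_freeOn {M N : X.Modules} (g : M ⟶ N)
    (h : ∀ (U : X.Opens) (a : freeOn U ⟶ N), ∃ b, b ≫ g = a) : Epi g := by
  refine HomShX.epi_of_stalk g fun x θ => ?_
  obtain ⟨U₀, hxU, s, rfl⟩ := TopCat.Presheaf.exists_germ_eq N.presheaf θ
  let U : X.Opens := U₀
  have hW : x ∈ U.ι ''ᵁ ⊤ := by rw [Scheme.Opens.ι_image_top]; exact hxU
  have hWU : U.ι ''ᵁ ⊤ ≤ U := U.ι_image_top.le
  let e := ParaFX.homSectionsEquiv (N.restrict U.ι)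
  let s' : Γ(N, U.ι ''ᵁ ⊤) := N.presheaf.map (homOfLE hWU).op s
  let φ : Coh.structureModule (↑U : Scheme.{u}) ⟶ N.restrict U.ι := e.symm s'
  obtain ⟨b, hb⟩ := h U (((KFlatLib.lshAdj U.ι).homEquiv _ _).symm φ)
  let ψ : Coh.structureModule (↑U : Scheme.{u}) ⟶ M.restrict U.ι := (KFlatLib.lshAdj U.ι).homEquiv _ _ b
  have hψ : ψ ≫ (Scheme.Modules.restrictFunctor U.ι).map g = φ := by
    show (KFlatLib.lshAdj U.ι).homEquiv _ _ b ≫ _ = φ
    rw [← Adjunction.homEquiv_naturality_right, hb, Equiv.apply_symm_apply]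
  let t : Γ(M, U.ι ''ᵁ ⊤) := ParaFX.homSectionsEquiv (M.restrict U.ι) ψ
  refine ⟨M.presheaf.germ (U.ι ''ᵁ ⊤) x hW t, ?_⟩
  rw [RefHull.stalkMapₗ_germ g x hW t]
  have ht : g.app (U.ι ''ᵁ ⊤) t = s' := by
    refine (ParaFX.homSectionsEquiv_comp ψ ((Scheme.Modules.restrictFunctor U.ι).map g)).symm.trans ?_
    rw [hψ]
    exact e.apply_symm_apply s'
  rw [ht]
  exact TopCat.Presheaf.germ_res_apply N.presheaf (homOfLE hWU) x hW s

theorem exactAt_homCx_injective (hex : ∀ j : ℕ, E.ExactAt (j + 1)) (G : X.Modules) [Injective G] (j : ℕ) :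
    (homCx E G).ExactAt (j + 1) := by
  rw [HomologicalComplex.exactAt_iff' _ j (j + 1) (j + 2) (by simp) (by simp)]
  rw [ShortComplex.exact_iff_epi_toCycles]
  let S := (homCx E G).sc' j (j + 1) (j + 2)
  refine epi_of_freeOn S.toCycles fun U a => ?_
  have ha : (a ≫ S.iCycles) ≫ (shMap (E.d (j + 1 + 1) (j + 1))).app G = 0 := by
    rw [← homCx_d]
    exact (Category.assoc _ _ _).trans ((congrArg (a ≫ ·) S.iCycles_g).trans comp_zero)
  have hm := mate_shMap (E.d (j + 1 + 1) (j + 1)) (a ≫ S.iCycles)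
  rw [ha, mate_zero] at hm
  have hEj := hex j
  rw [HomologicalComplex.exactAt_iff' _ (j + 1 + 1) (j + 1) j (by simp) (by simp)] at hEj
  have hT := exact_freeOn U hEj
  let a₁ : freeOn U ⟶ (SH (E.X (j + 1))).obj G := a ≫ S.iCycles
  let m₁ : (DCoh.tensorBi.obj (freeOn U)).obj (E.X (j + 1)) ⟶ G := mate a₁
  let b : freeOn U ⟶ (SH (E.X j)).obj G := mate.symm (hT.descToInjective m₁ hm.symm)
  refine ⟨b, ?_⟩
  rw [← cancel_mono S.iCycles, Category.assoc, S.toCycles_i]
  apply mate.injective
  show mate (_ ≫ (homCx E G).d j (j + 1)) = _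
  rw [homCx_d, mate_shMap, Equiv.apply_symm_apply]
  exact hT.comp_descToInjective _ _

instance additive_homCxFunctor : (homCxFunctor E).Additive where
  map_add {G G' p q} := HomologicalComplex.hom_ext _ _ fun j => by
    haveI : (SH (E.X j)).Additive := ModSite.sheafHom_additive X.sheaf (E.X j)
    exact (SH (E.X j)).map_add

theorem shortExact_homCx (hE : ∀ j, FlatMod.IsFinLocFree (E.X j)) {S : ShortComplex X.Modules} (hS : S.ShortExact) :
    (S.map (homCxFunctor E)).ShortExact := by
  refine HomologicalComplex.shortExact_of_degreewise_shortExact _ fun j => ?_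
  haveI : (SH (E.X j)).Additive := ModSite.sheafHom_additive X.sheaf (E.X j)
  haveI : PreservesFiniteLimits (SH (E.X j)) := by
    have : PreservesLimitsOfSize.{0, 0} (SH (E.X j)) :=
      (ModSite.sheafHomAdj (O := X.sheaf) (E.X j)).rightAdjoint_preservesLimits
    exact ⟨fun _ => inferInstance⟩
  haveI : (SH (E.X j)).PreservesEpimorphisms := preservesEpimorphisms_sheafHom (hE j)
  haveI : (SH (E.X j)).PreservesHomology := Functor.preservesHomology_of_preservesEpis_and_kernels _
  haveI : PreservesFiniteColimits (SH (E.X j)) := Functor.preservesFiniteColimits_of_preservesHomology _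
  exact hS.map_of_exact (SH (E.X j))

variable {F : X.Modules} [ModSite.HasSheafHom (O := X.sheaf) F] (π : E.X 0 ⟶ F) (hπ : E.d 1 0 ≫ π = 0)

/-- The augmentation into the zero cycles. -/
noncomputable def toCyclesZero (G : X.Modules) : (SH F).obj G ⟶ (homCx E G).cycles 0 :=
  (homCx E G).liftCycles ((shMap π).app G) 1 (by simp) (by rw [homCx_d]; rw [← shMap_comp, hπ, shMap_zero])

theorem isIso_toCyclesZero [Epi π] (hex0 : (ShortComplex.mk (E.d 1 0) π hπ).Exact) (G : X.Modules) :
    IsIso (toCyclesZero E π hπ G) := by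
  have hT : ∀ Z : X.Modules, ((ShortComplex.mk (E.d 1 0) π hπ).map ((DCoh.tensorBi (X := X)).obj Z)).Exact ∧
      Epi (((DCoh.tensorBi (X := X)).obj Z).map π) := fun Z => by
    haveI : PreservesColimitsOfSize.{u, u} ((DCoh.tensorBi (X := X)).obj Z) :=
      ⟨fun {K} _ => preservesColimitsOfShape_of_natIso ((KFlatLib.tensorBiFlipIso X).app Z)⟩
    haveI : PreservesFiniteColimits ((DCoh.tensorBi (X := X)).obj Z) :=
      PreservesColimitsOfSize.preservesFiniteColimits _
    exact ⟨hex0.map_of_epi_of_preservesCokernel _ ‹Epi π› inferInstance,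
      ((DCoh.tensorBi (X := X)).obj Z).map_epi π⟩
  have hmono : Mono ((shMap π).app G) := Preadditive.mono_of_cancel_zero _ fun {Z} a ha => by
    haveI := (hT Z).2
    have h := mate_shMap π a
    rw [ha, mate_zero] at h
    exact mate.injective (((cancel_epi (((DCoh.tensorBi (X := X)).obj Z).map π)).1
      (h.symm.trans comp_zero.symm)).trans mate_zero.symm)
  haveI : Mono (toCyclesZero E π hπ G ≫ (homCx E G).iCycles 0) := by
    rw [toCyclesZero, HomologicalComplex.liftCycles_i]; exact hmono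
  haveI : Mono (toCyclesZero E π hπ G) := mono_of_mono _ ((homCx E G).iCycles 0)
  let Z := (homCx E G).cycles 0
  let c : Z ⟶ (SH (E.X 0)).obj G := (homCx E G).iCycles 0
  have hc : c ≫ (shMap (E.d 1 0)).app G = 0 := by
    rw [← homCx_d E G 0]; exact (homCx E G).iCycles_d 0 1
  have h := mate_shMap (E.d 1 0) c
  rw [hc, mate_zero] at h
  haveI : Epi ((ShortComplex.mk (E.d 1 0) π hπ).map ((DCoh.tensorBi (X := X)).obj Z)).g := (hT Z).2
  let k : (DCoh.tensorBi.obj Z).obj F ⟶ G := (hT Z).1.desc (mate c) h.symm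
  let b : Z ⟶ (SH F).obj G := mate.symm k
  have hb : b ≫ toCyclesZero E π hπ G = 𝟙 Z := by
    rw [← cancel_mono ((homCx E G).iCycles 0), Category.assoc, toCyclesZero, HomologicalComplex.liftCycles_i,
      Category.id_comp]
    apply mate.injective
    rw [mate_shMap, Equiv.apply_symm_apply]
    exact (hT Z).1.g_desc _ _
  haveI : IsSplitEpi (toCyclesZero E π hπ G) := IsSplitEpi.mk' ⟨b, hb⟩
  exact isIso_of_mono_of_isSplitEpi _

theorem toCyclesZero_natural {G G' : X.Modules} (p : G ⟶ G') :
    toCyclesZero E π hπ G ≫ HomologicalComplex.cyclesMap ((homCxFunctor E).map p) 0 =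
      (SH F).map p ≫ toCyclesZero E π hπ G' := by
  rw [← cancel_mono ((homCx E G').iCycles 0), Category.assoc, Category.assoc]
  erw [HomologicalComplex.cyclesMap_i]
  rw [toCyclesZero, toCyclesZero]
  erw [HomologicalComplex.liftCycles_i_assoc, HomologicalComplex.liftCycles_i]
  exact ((shMap π).naturality p).symm

/-- Degree zero. -/
noncomputable def zeroIso [Epi π] (hex0 : (ShortComplex.mk (E.d 1 0) π hπ).Exact) :
    SH F ≅ homCxFunctor E ⋙ HomologicalComplex.homologyFunctor _ _ 0 :=
  NatIso.ofComponents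
    (fun G => haveI := isIso_toCyclesZero E π hπ hex0 G
      asIso (toCyclesZero E π hπ G) ≪≫ (homCx E G).isoHomologyπ₀)
    (fun {G G'} p => by
      simp only [Iso.trans_hom, asIso_hom]
      rw [← Category.assoc, ← toCyclesZero_natural E π hπ p, Category.assoc, Category.assoc]
      exact congrArg (fun t => toCyclesZero E π hπ G ≫ t)
        (HomologicalComplex.homologyπ_naturality ((homCxFunctor E).map p) 0).symm)

include hπ in
theorem nonempty_homology_homCx [Epi π] (hex0 : (ShortComplex.mk (E.d 1 0) π hπ).Exact)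
    (hex : ∀ j : ℕ, E.ExactAt (j + 1)) (hE : ∀ j, FlatMod.IsFinLocFree (E.X j))
    [HasInjectiveResolutions (ModSite.Mod X.sheaf)] (q : ℕ) :
    ∀ G : X.Modules, Nonempty ((homCx E G).homology q ≅ (ModSite.extSh (O := X.sheaf) F q).obj G) := by
  haveI : HasInjectiveResolutions X.Modules := ‹HasInjectiveResolutions (ModSite.Mod X.sheaf)›
  haveI : EnoughInjectives X.Modules :=
    SpObjSS.enoughInjectives_of_hasInjectiveResolutions (C := ModSite.Mod X.sheaf)
  haveI : (SH F).Additive := ModSite.sheafHom_additive X.sheaf F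
  haveI : PreservesFiniteLimits (SH F) := by
    have : PreservesLimitsOfSize.{0, 0} (SH F) :=
      (ModSite.sheafHomAdj (O := X.sheaf) F).rightAdjoint_preservesLimits
    exact ⟨fun _ => inferInstance⟩
  let L := SESResLib.derivedLES (SH F)
  let z : (SH F).rightDerived 0 ≅ homCxFunctor E ⋙ HomologicalComplex.homologyFunctor _ _ 0 :=
    (SH F).rightDerivedZeroIsoSelf ≪≫ zeroIso E π hπ hex0
  induction q with
  | zero => exact fun G => ⟨(z.app G).symm⟩
  | succ q ih =>
    intro G
    let S := SiteBase.effSES G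
    have hS : S.ShortExact := SiteBase.effSES_shortExact G
    haveI : Injective S.X₂ := SiteBase.injective_effSES G
    have hC := shortExact_homCx E hE hS
    have hI : ∀ j, IsZero ((homCx E S.X₂).homology (j + 1)) := fun j =>
      (exactAt_homCx_injective E hex S.X₂ j).isZero_homology
    have hI' : ∀ j, IsZero (((SH F).rightDerived (j + 1)).obj S.X₂) := fun j =>
      (SH F).isZero_rightDerived_obj_injective_succ j _
    haveI : Epi (hC.δ q (q + 1) rfl) := hC.epi_δ q (q + 1) rfl (hI q)
    haveI : Epi (L.δ S hS q (q + 1) rfl) :=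
      (L.exact₁ S hS q (q + 1) rfl).epi_f ((hI' q).eq_of_tgt _ _)
    have k₁ := (hC.homology_exact₃ q (q + 1) rfl).gIsCokernel
    have k₂ := (L.exact₃ S hS q (q + 1) rfl).gIsCokernel
    rcases q with _ | q
    · refine ⟨k₁.coconePointsIsoOfNatIso k₂ (parallelPair.ext (z.app S.X₂).symm (z.app S.X₃).symm ?_ ?_)⟩
      · exact z.inv.naturality S.g
      · exact zero_comp.trans comp_zero.symm
    · obtain ⟨e⟩ := ih S.X₃
      haveI : IsIso (L.δ S hS (q + 1) (q + 1 + 1) rfl) := by
        haveI : Mono (L.δ S hS (q + 1) (q + 1 + 1) rfl) :=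
          (L.exact₃ S hS (q + 1) (q + 1 + 1) rfl).mono_g ((hI' q).eq_of_src _ _)
        exact isIso_of_mono_of_epi _
      exact ⟨(hC.δIso (q + 1) (q + 1 + 1) rfl (hI q) (hI (q + 1))).symm ≪≫ e ≪≫
        asIso (L.δ S hS (q + 1) (q + 1 + 1) rfl)⟩

end Groth.Agent.ExtShX
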