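import Groth.Agent.ExtShX.AdaptAlg
import Groth.Agent.ExtShX.SmFrame
import Groth.Agent.Synt29.KoszulSyntomic
import Groth.Prelude.Def_RegImm
import Mathlib

/-!
# Adapted charts of a closed immersion of smooth schemes
-/

set_option autoImplicit false
set_option maxHeartbeats 1600000
set_option linter.style.haveILetI false
set_option backward.isDefEq.respectTransparency false
set_option backward.isDefEq.respectTransparency.types false

universe u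

open CategoryTheory CategoryTheory.Limits AlgebraicGeometry TopologicalSpace Opposite

noncomputable section

namespace Groth.Agent.ExtShX.SmFrame

variable {S X Y : Scheme.{u}} (f : X ⟶ S) (g : Y ⟶ S) (n m : ℕ) [SmoothOfRelativeDimension n f]
  [SmoothOfRelativeDimension m g] [QuasiSeparated f] [QuasiSeparated g] (i : Y ⟶ X) [IsClosedImmersion i]

/-- Near every point of `Y` there are coordinates of `X` the first of which cut out `Y`. -/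
theorem exists_adapted_chart (hi : i ≫ f = g) (y : Y) :
    ∃ (U : X.affineOpens) (r : ℕ) (t : Fin r → Γ(X, U.1)) (s : Fin m → Γ(X, U.1)),
      i y ∈ U.1 ∧ r + m = n ∧ RingTheory.Sequence.IsRegular Γ(X, U.1) (List.ofFn t) ∧
      RingHom.ker (i.app U.1).hom = Ideal.span (Set.range t) ∧
      H23.Frame.IsFrame (Omega.sheaf f) (fun j : Fin (r + m) => (OmegaSh.dOmega f).app U.1 (Fin.append t s j)) ∧
      H23.Frame.IsFrame (Omega.sheaf g) (fun k => (OmegaSh.dOmega g).app (i ⁻¹ᵁ U.1) (i.app U.1 (s k))) := by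
  classical
  subst hi
  haveI : Smooth f := SmoothOfRelativeDimension.smooth (n := n) f
  haveI : Smooth (i ≫ f) := SmoothOfRelativeDimension.smooth (n := m) (i ≫ f)
  obtain ⟨_, ⟨V, hV, rfl⟩, hyV, -⟩ :=
    S.isBasis_affineOpens.exists_subset_of_mem_open (Set.mem_univ (f (i y))) isOpen_univ
  obtain ⟨_, ⟨U₀, hU₀, rfl⟩, hyU₀, hU₀V⟩ :=
    X.isBasis_affineOpens.exists_subset_of_mem_open (show i y ∈ f ⁻¹ᵁ V from hyV) (f ⁻¹ᵁ V).2
  have e₀ : U₀ ≤ f ⁻¹ᵁ V := hU₀V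
  have hiU₀ : IsAffineOpen (i ⁻¹ᵁ U₀) := hU₀.preimage i
  have e₁ : i ⁻¹ᵁ U₀ ≤ (i ≫ f) ⁻¹ᵁ V := fun z hz => e₀ hz
  letI aB : Algebra Γ(S, V) Γ(X, U₀) := (f.appLE V U₀ e₀).hom.toAlgebra
  letI aC : Algebra Γ(S, V) Γ(Y, i ⁻¹ᵁ U₀) := ((i ≫ f).appLE V (i ⁻¹ᵁ U₀) e₁).hom.toAlgebra
  letI aBC : Algebra Γ(X, U₀) Γ(Y, i ⁻¹ᵁ U₀) := (i.app U₀).hom.toAlgebra
  haveI : IsScalarTower Γ(S, V) Γ(X, U₀) Γ(Y, i ⁻¹ᵁ U₀) := IsScalarTower.of_algebraMap_eq' (by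
    show ((i ≫ f).appLE V (i ⁻¹ᵁ U₀) e₁).hom = (i.app U₀).hom.comp (f.appLE V U₀ e₀).hom
    rw [← CommRingCat.hom_comp, Scheme.Hom.app_eq_appLE, Scheme.Hom.appLE_comp_appLE])
  haveI : Algebra.Smooth Γ(S, V) Γ(X, U₀) := f.smooth_appLE hV hU₀ e₀
  haveI : Algebra.Smooth Γ(S, V) Γ(Y, i ⁻¹ᵁ U₀) := (i ≫ f).smooth_appLE hV hiU₀ e₁
  haveI hci : IsClosedImmersion (i ∣_ U₀) := IsZariskiLocalAtTarget.restrict (P := @IsClosedImmersion) inferInstance _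
  have hsurj := (Synt29.surjective_app_of_isClosedImmersion_restrict i U₀ hU₀).2
  let q := (hU₀.primeIdealOf ⟨i y, hyU₀⟩).asIdeal
  have hJq : RingHom.ker (algebraMap Γ(X, U₀) Γ(Y, i ⁻¹ᵁ U₀)) ≤ q := by
    intro b hb
    by_contra hbq
    have h1 : i y ∈ X.basicOpen b := (QCoh.mem_basicOpen_iff_notMem hU₀ hyU₀ b).2 hbq
    have h2 : y ∈ i ⁻¹ᵁ X.basicOpen b := h1
    rw [Scheme.preimage_basicOpen, show i.app U₀ b = 0 from hb, Scheme.basicOpen_zero] at h2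
    exact h2
  obtain ⟨h, hh, hC⟩ := Adapt.exists_adapted_of_surjective (A := Γ(S, V)) (D := Γ(Y, i ⁻¹ᵁ U₀)) hsurj q hJq
  let U : X.affineOpens := ⟨X.basicOpen h, hU₀.basicOpen h⟩
  have hyU : i y ∈ U.1 := (QCoh.mem_basicOpen_iff_notMem hU₀ hyU₀ h).2 hh
  have eU : U.1 ≤ U₀ := X.basicOpen_le h
  have e₂ : U.1 ≤ f ⁻¹ᵁ V := eU.trans e₀
  letI aU : Algebra Γ(S, V) Γ(X, U.1) := (f.appLE V U.1 e₂).hom.toAlgebra
  letI : Algebra Γ(X, U₀) Γ(X, U.1) := (X.presheaf.map (homOfLE eU).op).hom.toAlgebra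
  haveI : IsScalarTower Γ(S, V) Γ(X, U₀) Γ(X, U.1) := IsScalarTower.of_algebraMap_eq' (by
    show (f.appLE V U.1 e₂).hom = (X.presheaf.map (homOfLE eU).op).hom.comp (f.appLE V U₀ e₀).hom
    rw [← CommRingCat.hom_comp, Scheme.Hom.appLE_map])
  haveI : IsLocalization.Away h Γ(X, U.1) := hU₀.isLocalization_basicOpen h
  obtain ⟨r, m', t, s, hreg, hspan, β, hβ⟩ := hC Γ(X, U.1)
  have hker : RingHom.ker (i.app U.1).hom = Ideal.span (Set.range t) := by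
    have h1 := i.ker.map_ideal (U := U) (V := ⟨U₀, hU₀⟩) eU
    rw [Scheme.Hom.ker_apply, Scheme.Hom.ker_apply] at h1
    rw [← hspan]
    exact h1.symm
  let β' := β.reindex finSumFinEquiv
  have hβ' : ∀ j, β' j = KaehlerDifferential.D Γ(S, V) Γ(X, U.1) (Fin.append t s j) := fun j => by
    show β.reindex finSumFinEquiv j = _
    rw [Module.Basis.reindex_apply, hβ]
    refine congrArg _ ?_
    refine Fin.addCases (fun a => ?_) (fun a => ?_) j <;> simp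
  have hFX : H23.Frame.IsFrame (Omega.sheaf f)
      (fun j : Fin (r + m') => (OmegaSh.dOmega f).app U.1 (Fin.append t s j)) :=
    isFrame_dOmega f U.2 hV e₂ (Fin.append t s) β' hβ'
  have e₃ : i ⁻¹ᵁ U.1 ≤ (i ≫ f) ⁻¹ᵁ V := fun z hz => e₂ hz
  letI : Algebra Γ(S, V) Γ(Y, i ⁻¹ᵁ U.1) := ((i ≫ f).appLE V (i ⁻¹ᵁ U.1) e₃).hom.toAlgebra
  letI : Algebra Γ(X, U.1) Γ(Y, i ⁻¹ᵁ U.1) := (i.app U.1).hom.toAlgebra
  haveI : IsScalarTower Γ(S, V) Γ(X, U.1) Γ(Y, i ⁻¹ᵁ U.1) := IsScalarTower.of_algebraMap_eq' (by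
    show ((i ≫ f).appLE V (i ⁻¹ᵁ U.1) e₃).hom = (i.app U.1).hom.comp (f.appLE V U.1 e₂).hom
    rw [← CommRingCat.hom_comp, Scheme.Hom.app_eq_appLE, Scheme.Hom.appLE_comp_appLE])
  haveI : IsClosedImmersion (i ∣_ U.1) := IsZariskiLocalAtTarget.restrict (P := @IsClosedImmersion) inferInstance _
  have hsurjU := Synt29.surjective_app_of_isClosedImmersion_restrict i U.1 U.2
  obtain ⟨γ, hγ⟩ := Adapt.exists_basis_quot (A := Γ(S, V)) (C := Γ(X, U.1)) (D := Γ(Y, i ⁻¹ᵁ U.1))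
    hsurjU.2 t s hker β hβ
  have hFY : H23.Frame.IsFrame (Omega.sheaf (i ≫ f))
      (fun k => (OmegaSh.dOmega (i ≫ f)).app (i ⁻¹ᵁ U.1) (i.app U.1 (s k))) :=
    isFrame_dOmega (i ≫ f) hsurjU.1 hV e₃ (fun k => i.app U.1 (s k)) γ hγ
  obtain ⟨UX, hxUX, sX, hsX⟩ := exists_frame_relDim f n (i y)
  obtain ⟨UY, hyUY, sY, hsY⟩ := exists_frame_relDim (i ≫ f) m y
  have hn : r + m' = n := eq_of_frames hFX hsX (i y) hyU hxUX
  have hm : m' = m := eq_of_frames hFY hsY y hyU hyUY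
  subst hm
  refine ⟨U, r, t, s, hyU, hn, ⟨hreg, ?_⟩, hker, hFX, hFY⟩
  rw [smul_eq_mul, Ideal.mul_top, ne_comm]
  intro htop
  haveI : Nonempty (i ⁻¹ᵁ U.1) := ⟨⟨y, hyU⟩⟩
  have h1 : (1 : Γ(X, U.1)) ∈ RingHom.ker (i.app U.1).hom := by
    rw [hker, ← show Ideal.ofList (List.ofFn t) = Ideal.span (Set.range t) from
      congrArg Ideal.span (Set.ext fun z => by simp [List.mem_ofFn, Set.mem_range]), htop]
    trivial
  rw [RingHom.mem_ker, map_one] at h1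
  exact one_ne_zero h1

end Groth.Agent.ExtShX.SmFrame
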