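import Groth.Agent.ExtShX.PnOmega
import Groth.Agent.ExtShX.Dualizing
import Groth.Agent.S11906
import Groth.Agent.S10829
import Groth.Agent.CurveEmbed.Conic
import Groth.Agent.SmoothCrit.Sch
import Groth.Agent.OmegaUniv.Unram
import Groth.Agent.AlgSpDec.FibreDimSp
import Groth.Agent.S2768
import Groth.Agent.Lib.Euler

/-!
# The top forms of a smooth closed subscheme of projective space are dualizing
-/

set_option autoImplicit false
set_option linter.style.haveILetI false
set_option backward.isDefEq.respectTransparency false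
set_option backward.isDefEq.respectTransparency.types false

universe u

open CategoryTheory CategoryTheory.Limits AlgebraicGeometry TopologicalSpace Opposite

noncomputable section

namespace Groth.Agent.ExtShX.SmDual

variable {k : Type u} [Field k] {n r : ℕ} {X : Scheme.{u}} [X.Over (Spec (CommRingCat.of k))]
  (ι : X ⟶ CohB1.ProjSpace n k) [IsClosedImmersion ι]

theorem dim_le [SmoothOfRelativeDimension r (X ↘ Spec (CommRingCat.of k))] :
    topologicalKrullDim ↥X ≤ (r : WithBot ℕ∞) := by
  haveI : Smooth (X ↘ Spec (CommRingCat.of k)) := SmoothOfRelativeDimension.smooth (n := r) _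
  haveI : Subsingleton ↥(Spec (CommRingCat.of k)) := inferInstanceAs (Subsingleton (PrimeSpectrum k))
  exact (AlgSpDec.FibreDimSp.krullDim_le_iff_fibreDimAt (X ↘ Spec (CommRingCat.of k)) r).2
    fun x => (S2768.result r _ x).le

include ι in
theorem rel_dim_le [Nonempty ↥X] [SmoothOfRelativeDimension r (X ↘ Spec (CommRingCat.of k))] : r ≤ n := by
  haveI : Smooth (X ↘ Spec (CommRingCat.of k)) := SmoothOfRelativeDimension.smooth (n := r) _
  haveI : Subsingleton ↥(Spec (CommRingCat.of k)) := inferInstanceAs (Subsingleton (PrimeSpectrum k))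
  obtain ⟨x⟩ := ‹Nonempty ↥X›
  have h : topologicalKrullDim ↥X ≤ (n : WithBot ℕ∞) :=
    (ι.isClosedEmbedding.topologicalKrullDim_le).trans (S10829.result k n).le
  have h2 := (AlgSpDec.FibreDimSp.krullDim_le_iff_fibreDimAt (X ↘ Spec (CommRingCat.of k)) n).1 h x
  rw [S2768.result r _ x] at h2
  exact_mod_cast h2

variable (hι : ι ≫ CohB1.ProjSpace.toSpec n k = X ↘ Spec (CommRingCat.of k))

include hι in
/-- `ι_* Ω_X ≅ Ext^{n-r}(ι_* O_X, O(-n-1))`. -/
theorem nonempty_extSh_iso [SmoothOfRelativeDimension r (X ↘ Spec (CommRingCat.of k))]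
    {Ω : X.Modules} (hΩ : ExtPow.IsExtPow r (Omega.sheaf (X ↘ Spec (CommRingCat.of k))) Ω)
    [ModSite.HasSheafHom (O := (CohB1.ProjSpace n k).sheaf) ((Scheme.Modules.pushforward ι).obj (Coh.structureModule X))]
    [HasInjectiveResolutions (ModSite.Mod (CohB1.ProjSpace n k).sheaf)] :
    Nonempty ((Scheme.Modules.pushforward ι).obj Ω ≅
      (ModSite.extSh (O := (CohB1.ProjSpace n k).sheaf) ((Scheme.Modules.pushforward ι).obj (Coh.structureModule X)) (n - r)).obj
        (Twist.twistProjSpace n k (-((n : ℤ) + 1)))) := by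
  classical
  haveI : Smooth (CohB1.ProjSpace.toSpec n k) := CurveEmbed.smooth_toSpec n k
  haveI := H23.PnChart.isIntegral_projSpace n k
  haveI : SmoothOfRelativeDimension n (CohB1.ProjSpace.toSpec n k) :=
    SmoothCrit.smoothOfRelativeDimension_dim _ n (S10829.result k n)
  haveI : IsProper (CohB1.ProjSpace.toSpec n k) := PnCoh.Chow.isProper_toSpec n k
  choose i hi using fun x : CohB1.ProjSpace n k => PnCoh.Chow.cov_coord k x
  obtain ⟨ΩP, hΩP, -⟩ := TopExt.exists_isExtPow (fun x => PnOmega.DD n k (i x).down) _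
    (fun x => PnOmega.isFrame_da n k (i x).down) (OmegaUniv.isQCoh_omega _) hi
  obtain ⟨e1⟩ := S11906.result (Spec (CommRingCat.of k)) (CohB1.ProjSpace n k) X (CohB1.ProjSpace.toSpec n k)
    (X ↘ Spec (CommRingCat.of k)) ι hι n r ΩP hΩP Ω hΩ
  obtain ⟨e2⟩ := PnOmega.nonempty_topForms_iso hΩP
  exact ⟨e1 ≪≫ (ModSite.extSh (O := (CohB1.ProjSpace n k).sheaf)
    ((Scheme.Modules.pushforward ι).obj (Coh.structureModule X)) (n - r)).mapIso e2⟩

include hι in
/-- The top forms are dualizing. -/
theorem exists_trace [SmoothOfRelativeDimension r (X ↘ Spec (CommRingCat.of k))]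
    {Ω : X.Modules} (hΩ : ExtPow.IsExtPow r (Omega.sheaf (X ↘ Spec (CommRingCat.of k))) Ω) :
    ∃ t : Coh.HH X Ω r →ₗ[k] k, ∀ F : X.Modules, Coh.IsCoh F →
      Function.Bijective (Canon.dualityMap k X r Ω t F) := by
  cases isEmpty_or_nonempty ↥X with
  | inl h =>
    refine ⟨0, fun F _ => ⟨fun a b _ => (SmExt.isZero_of_isEmpty F).eq_of_src a b, fun ψ => ⟨0, ?_⟩⟩⟩
    haveI := Euler.subsingleton_HH_of_isZero (SmExt.isZero_of_isEmpty F) r
    exact LinearMap.ext fun x => by rw [Subsingleton.elim x 0, map_zero, map_zero]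
  | inr h =>
    haveI : ModSite.HasSheafHom (O := (CohB1.ProjSpace n k).sheaf)
        ((Scheme.Modules.pushforward ι).obj (Coh.structureModule X)) := ModTensor.hasSheafHom _
    haveI : EnoughInjectives (ModSite.Mod (CohB1.ProjSpace n k).sheaf) := IsGrothendieckAbelian.enoughInjectives
    exact exists_trace_represents (N := n) ι hι r (n - r) (by have := rel_dim_le (r := r) ι; omega)
      (dim_le (k := k) (r := r)) (nonempty_extSh_iso ι hι hΩ)

end Groth.Agent.ExtShX.SmDual
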