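import Groth.Agent.ExtShX.SmDualAll

/-!
# Smooth schemes over a field are pure dimensional
-/

set_option autoImplicit false
set_option linter.style.haveILetI false
set_option backward.isDefEq.respectTransparency false
set_option backward.isDefEq.respectTransparency.types false

universe u

open CategoryTheory CategoryTheory.Limits AlgebraicGeometry TopologicalSpace Opposite

namespace Groth.Agent.ExtShX.SmDual

variable {k : Type u} [Field k] {r : ℕ} {X : Scheme.{u}} [X.Over (Spec (CommRingCat.of k))]

/-- Every component has the relative dimension. -/
theorem dim_component [SmoothOfRelativeDimension r (X ↘ Spec (CommRingCat.of k))] (Z : Set ↥X)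
    (hZ : Z ∈ irreducibleComponents ↥X) : topologicalKrullDim ↥Z = (r : WithBot ℕ∞) := by
  haveI : Smooth (X ↘ Spec (CommRingCat.of k)) := SmoothOfRelativeDimension.smooth (n := r) _
  haveI : Subsingleton ↥(Spec (CommRingCat.of k)) := inferInstanceAs (Subsingleton (PrimeSpectrum k))
  let f := X ↘ Spec (CommRingCat.of k)
  obtain ⟨η, rfl, hη⟩ := FDescent.exists_maximal_of_mem_irreducibleComponents hZ
  obtain ⟨w, hw, -, -, hd⟩ := FibDim.exists_fibMax_generization f η
  rw [S2768.result r f η, hη w hw] at hd
  rw [FibDim.topologicalKrullDim_closure f η]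
  exact hd.symm

end Groth.Agent.ExtShX.SmDual
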