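import Groth.Agent.ExtShX.Stalk
import Groth.Agent.RefX.QCoh
import Groth.Agent.KFlatLib.Scheme.Tilde
import Groth.Agent.PerfGen7.TorAmpTilde
import Groth.Agent.QCoh.SpecFT
import Groth.Agent.SiteBase.DerivedPrecompAcyclic
import Mathlib

/-!
# Local Ext sheaves of quasi-coherent sheaves on an affine scheme
-/

set_option autoImplicit false
set_option linter.style.haveILetI false
set_option backward.isDefEq.respectTransparency false
set_option backward.isDefEq.respectTransparency.types false

universe u

open CategoryTheory CategoryTheory.Limits AlgebraicGeometry TopologicalSpace Opposite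
open scoped TensorProduct

namespace Groth.Agent.ExtShX

/-- Localizations of injective modules over Noetherian rings are injective. -/
theorem injective_of_isLocalizedModule {A : Type u} [CommRing A] [IsNoetherianRing A] (S : Submonoid A)
    (B : Type u) [CommRing B] [Algebra A B] [IsLocalization S B] {I : Type u} [AddCommGroup I] [Module A I]
    [Module.Injective A I] {I' : Type u} [AddCommGroup I'] [Module A I'] [Module B I'] [IsScalarTower A B I']
    (f : I →ₗ[A] I') [IsLocalizedModule S f] : Module.Injective B I' := by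
  refine Module.Baer.injective fun J φ => ?_
  let J₀ : Ideal A := J.comap (algebraMap A B)
  let ψ : J₀ →ₗ[A] I' :=
    { toFun := fun a => φ ⟨algebraMap A B a.1, a.2⟩
      map_add' := fun a b => by
        rw [← map_add]
        exact congrArg φ (Subtype.ext (map_add (algebraMap A B) a.1 b.1))
      map_smul' := fun r a => by
        rw [RingHom.id_apply, ← algebraMap_smul B r (φ _), ← map_smul]
        exact congrArg φ (Subtype.ext (map_mul (algebraMap A B) r a.1)) }
  haveI : Module.FinitePresentation A J₀ := Module.finitePresentation_of_finite A J₀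
  obtain ⟨h, s, hs⟩ := Module.FinitePresentation.exists_lift_of_isLocalizedModule S f ψ
  obtain ⟨g, hg⟩ := Module.Injective.out J₀.subtype Subtype.val_injective h
  refine ⟨LinearMap.toSpanSingleton B I' (IsLocalizedModule.mk' f (g 1) s), fun z hz => ?_⟩
  obtain ⟨a, t, rfl⟩ : ∃ a t, IsLocalization.mk' B a t = z := IsLocalization.exists_mk'_eq S z
  have ha : algebraMap A B a ∈ J := by
    rw [← IsLocalization.mk'_spec B a t]
    exact J.mul_mem_right _ hz
  have key : algebraMap A B a • IsLocalizedModule.mk' f (g 1) s = φ ⟨algebraMap A B a, ha⟩ := by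
    apply IsLocalizedModule.smul_injective f s
    show s.1 • algebraMap A B a • IsLocalizedModule.mk' f (g 1) s = s.1 • φ ⟨algebraMap A B a, ha⟩
    rw [algebraMap_smul, smul_comm]
    have h2 : s.1 • φ ⟨algebraMap A B a, ha⟩ = f (g a) := by
      have := LinearMap.congr_fun hs (⟨a, ha⟩ : J₀)
      rw [show g a = h ⟨a, ha⟩ from hg ⟨a, ha⟩]
      exact this.symm
    rw [h2, show (s.1 : A) • IsLocalizedModule.mk' f (g 1) s = f (g 1) from IsLocalizedModule.mk'_cancel' f (g 1) s,
      ← map_smul, ← map_smul, smul_eq_mul, mul_one]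
  show IsLocalization.mk' B a t • IsLocalizedModule.mk' f (g 1) s = φ ⟨_, hz⟩
  refine ((IsLocalization.map_units B t).smul_left_cancel).1 ?_
  rw [smul_smul, ← map_smul, mul_comm, IsLocalization.mk'_spec, key]
  exact congrArg φ (Subtype.ext (show algebraMap A B a = algebraMap A B t * IsLocalization.mk' B a t by
    rw [mul_comm, IsLocalization.mk'_spec]))

section Spec

variable {R : CommRingCat.{u}}

theorem injective_stalk_tilde [IsNoetherianRing R] (I : ModuleCat.{u} R) [Injective I] (x : Spec R) :
    Injective ((DerSch.stalkFunctor (Spec R) x).obj (tilde I)) := by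
  letI := (KFlatLib.toStalkHom x).toAlgebra
  haveI := PerfGen7.TorAmpBC.isLocalization_toStalkHom (A := R) x
  haveI : Module.Injective R I := Module.injective_module_of_injective_object R I
  haveI := injective_of_isLocalizedModule x.asIdeal.primeCompl ((Spec R).presheaf.stalk x)
    (TensorProduct.mk R ((Spec R).presheaf.stalk x) I 1)
  haveI : Injective ((ModuleCat.extendScalars (KFlatLib.toStalkHom x)).obj I) :=
    Module.injective_object_of_injective_module ((Spec R).presheaf.stalk x)
      (((Spec R).presheaf.stalk x) ⊗[R] I)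
  exact Injective.of_iso ((KFlatLib.stalkTildeIso x).app I).symm this

theorem isZero_extSh_tilde_injective [IsNoetherianRing R] {F : (Spec R).Modules}
    [ModSite.HasSheafHom (O := (Spec R).sheaf) F] [HasInjectiveResolutions (ModSite.Mod (Spec R).sheaf)]
    (hF : CohB1.IsFP F) (I : ModuleCat.{u} R) [Injective I] (i : ℕ) :
    IsZero ((ModSite.extSh (O := (Spec R).sheaf) F (i + 1)).obj (tilde I)) := by
  refine KFlatLib.isZero_of_stalk _ fun x => ?_
  obtain ⟨e⟩ := nonempty_stalk_extSh F hF (tilde I) x (i + 1)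
  haveI := injective_stalk_tilde I x
  haveI : Subsingleton (Abelian.Ext ((DerSch.stalkFunctor (Spec R) x).obj F)
      ((DerSch.stalkFunctor (Spec R) x).obj (tilde I)) (i + 1)) :=
    subsingleton_of_forall_eq 0 Abelian.Ext.eq_zero_of_injective
  exact (ModuleCat.isZero_of_subsingleton _).of_iso e

variable (M N : ModuleCat.{u} R) [ModSite.HasSheafHom (O := (Spec R).sheaf) (tilde M)]

/-- A global section of the internal Hom of `M~` and `G` as a map `M ⟶ Γ(G)`. -/
noncomputable def secHom (G : (Spec R).Modules) (s : moduleSpecΓFunctor.obj (shHom (tilde M) G)) :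
    M ⟶ moduleSpecΓFunctor.obj G :=
  (tilde.isoTop M).hom ≫ moduleSpecΓFunctor.map (HomShX.toHom ((toHomSh (tilde M) G).app ⊤ s))

theorem secHom_add (G : (Spec R).Modules) (s t : moduleSpecΓFunctor.obj (shHom (tilde M) G)) :
    secHom M G (s + t) = secHom M G s + secHom M G t := by
  refine ModuleCat.hom_ext (LinearMap.ext fun m => ?_)
  refine ZClosLib.section_ext G _ _ fun y hy => ?_
  let v : Γ(tilde M, ⊤) := (tilde.isoTop M).hom m
  let a : Γ(shHom (tilde M) G, ⊤) := s
  let b : Γ(shHom (tilde M) G, ⊤) := t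
  show G.presheaf.germ ⊤ y hy (RefX.app le_top ((toHomSh (tilde M) G).app ⊤ (a + b)) v) =
    G.presheaf.germ ⊤ y hy (RefX.app le_top ((toHomSh (tilde M) G).app ⊤ a) v +
      RefX.app le_top ((toHomSh (tilde M) G).app ⊤ b) v)
  rw [map_add, map_add, RefX.germ_app, RefX.germ_app, RefX.germ_app]
  rfl

theorem app_smul_left {F G : (Spec R).Modules} (r : Γ(Spec R, ⊤)) (g : Γ(RefHull.homSh F G, ⊤)) (m : Γ(F, ⊤)) :
    RefX.app le_top (r • g) m = r • RefX.app le_top g m := ZClosLib.section_ext G _ _ fun y hy => by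
  rw [QCoh.germ_smul', RefX.germ_app, RefX.germ_app]
  rfl

theorem secHom_smul (G : (Spec R).Modules) (r : R) (s : moduleSpecΓFunctor.obj (shHom (tilde M) G)) :
    secHom M G (r • s) = r • secHom M G s := by
  refine ModuleCat.hom_ext (LinearMap.ext fun m => ?_)
  let v : Γ(tilde M, ⊤) := (tilde.isoTop M).hom m
  let a : Γ(shHom (tilde M) G, ⊤) := s
  let ρ : Γ(Spec R, ⊤) := (Spec R).presheaf.map (𝟙 (op ⊤)) ((Scheme.ΓSpecIso R).inv r)
  show RefX.app le_top ((toHomSh (tilde M) G).app ⊤ (ρ • a)) v =
    ρ • RefX.app le_top ((toHomSh (tilde M) G).app ⊤ a) v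
  rw [Scheme.Modules.Hom.app_smul, app_smul_left]

theorem secHom_bijective : Function.Bijective (secHom M (tilde N)) := by
  constructor
  · intro s t h
    let a : Γ(shHom (tilde M) (tilde N), ⊤) := s
    let b : Γ(shHom (tilde M) (tilde N), ⊤) := t
    have hab : (toHomSh (tilde M) (tilde N)).app ⊤ a = (toHomSh (tilde M) (tilde N)).app ⊤ b := by
      refine RefX.toLin_injective (inferInstance : Coh.IsQCoh (tilde M)) (isAffineOpen_top (Spec R)) _ _
        fun v => ?_
      obtain ⟨m, hm⟩ := (ConcreteCategory.bijective_of_isIso (tilde.isoTop M).hom).2 v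
      rw [← hm]
      exact ConcreteCategory.congr_hom h m
    haveI : IsIso (toHomSh (tilde M) (tilde N)) := (iso (tilde M) (tilde N)).isIso_hom
    have h2 := congrArg ((inv (toHomSh (tilde M) (tilde N))).app ⊤) hab
    have hid : ∀ w : Γ(shHom (tilde M) (tilde N), ⊤),
        (inv (toHomSh (tilde M) (tilde N))).app ⊤ ((toHomSh (tilde M) (tilde N)).app ⊤ w) = w := fun w => by
      rw [← ConcreteCategory.comp_apply, ← Scheme.Modules.Hom.comp_app, IsIso.hom_inv_id]; rfl
    rw [hid, hid] at h2
    exact h2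
  · intro f
    let w : Γ(RefHull.homSh (tilde M) (tilde N), ⊤) :=
      RefHull.ofHom (tilde.map (f ≫ (tilde.isoTop N).inv)) ⊤
    refine ⟨(fromHomSh (tilde M) (tilde N)).app ⊤ w, ?_⟩
    have hw : (toHomSh (tilde M) (tilde N)).app ⊤ ((fromHomSh (tilde M) (tilde N)).app ⊤ w) = w := by
      rw [← ConcreteCategory.comp_apply, ← Scheme.Modules.Hom.comp_app, fromHomSh_toHomSh]; rfl
    have hh : HomShX.toHom w = tilde.map (f ≫ (tilde.isoTop N).inv) :=
      HomShX.ext_stalk fun x => HomShX.stalkMapₗ_toHom w x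
    show (tilde.isoTop M).hom ≫ moduleSpecΓFunctor.map (HomShX.toHom _) = f
    rw [hw, hh]
    refine (tilde.toOpen_map_app (f ≫ (tilde.isoTop N).inv) ⊤).trans ?_
    exact (Category.assoc _ _ _).trans ((congrArg (fun t => f ≫ t) (tilde.isoTop N).inv_hom_id).trans (Category.comp_id f))

theorem secHom_natural {G G' : (Spec R).Modules} (p : G ⟶ G')
    (s : moduleSpecΓFunctor.obj (shHom (tilde M) G)) :
    secHom M G' (moduleSpecΓFunctor.map ((ModSite.sheafHom (O := (Spec R).sheaf) (tilde M)).map p) s) =
      secHom M G s ≫ moduleSpecΓFunctor.map p := by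
  let a : Γ(shHom (tilde M) G, ⊤) := s
  let q : shHom (tilde M) G ⟶ shHom (tilde M) G' := (ModSite.sheafHom (O := (Spec R).sheaf) (tilde M)).map p
  have h : HomShX.toHom ((toHomSh (tilde M) G').app ⊤ (q.app ⊤ a)) =
      HomShX.toHom ((toHomSh (tilde M) G).app ⊤ a) ≫ p :=
    HomShX.ext_stalk fun x => by
      rw [HomShX.stalkMapₗ_comp, HomShX.stalkMapₗ_toHom, HomShX.stalkMapₗ_toHom, toHomSh_app_val, toHomSh_app_val,
        ← RefHull.stalkMapₗ_germ q (U := ⊤) x trivial a]
      exact evL_natural (tilde M) p x _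
  show (tilde.isoTop M).hom ≫ moduleSpecΓFunctor.map (HomShX.toHom ((toHomSh (tilde M) G').app ⊤ (q.app ⊤ a))) = _
  rw [h, Functor.map_comp, ← Category.assoc]
  rfl

/-- Global sections of the internal Hom of `M~` and `N~`. -/
noncomputable def secIso :
    tilde.functor R ⋙ (ModSite.sheafHom (O := (Spec R).sheaf) (tilde M) : (Spec R).Modules ⥤ (Spec R).Modules) ⋙
      moduleSpecΓFunctor ≅ homL M :=
  NatIso.ofComponents
    (fun N => ((LinearEquiv.ofBijective
        ({ toFun := secHom M (tilde N), map_add' := secHom_add M (tilde N), map_smul' := secHom_smul M (tilde N) } :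
          ↑(moduleSpecΓFunctor.obj (shHom (tilde M) (tilde N))) →ₗ[R] (M ⟶ moduleSpecΓFunctor.obj (tilde N)))
        (secHom_bijective M N)).trans (Linear.homCongr R (Iso.refl M) (tilde.isoTop N).symm)).toModuleIso)
    (fun {N N'} p => ModuleCat.hom_ext (LinearMap.ext fun s => by
      show (𝟙 M) ≫ secHom M (tilde N') (moduleSpecΓFunctor.map
          ((ModSite.sheafHom (O := (Spec R).sheaf) (tilde M)).map (tilde.map p)) s) ≫ (tilde.isoTop N').inv =
        ((𝟙 M) ≫ secHom M (tilde N) s ≫ (tilde.isoTop N).inv) ≫ p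
      rw [secHom_natural, Category.id_comp, Category.id_comp, Category.assoc, Category.assoc]
      refine congrArg (fun t => secHom M (tilde N) s ≫ t) ?_
      rw [Iso.comp_inv_eq, Category.assoc, Iso.eq_inv_comp]
      exact tilde.toOpen_map_app p ⊤))

variable {M}

theorem isQCoh_shHom_tilde (hM : Module.FinitePresentation R M) :
    Coh.IsQCoh (shHom (tilde M) (tilde N)) :=
  (KFlatLib.isQCoh_of_iso (iso (tilde M) (tilde N)).symm
    (RefX.isQCoh_homSh ((QCoh.isFP_tilde_iff M).2 hM) (inferInstance : Coh.IsQCoh (tilde N))))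

/-- The internal Hom out of `M~` on tilde modules. -/
noncomputable def tildeHomIso (hM : Module.FinitePresentation R M) :
    tilde.functor R ⋙ (ModSite.sheafHom (O := (Spec R).sheaf) (tilde M) : (Spec R).Modules ⥤ (Spec R).Modules) ≅
      homL M ⋙ tilde.functor R :=
  (NatIso.ofComponents
    (fun N =>
      haveI : IsIso (shHom (tilde M) (tilde N)).fromTildeΓ :=
        (isQuasicoherent_iff_isIso_fromTildeΓ _).1 (isQCoh_shHom_tilde N hM)
      (asIso (shHom (tilde M) (tilde N)).fromTildeΓ).symm)
    (fun {N N'} p => by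
      haveI : ∀ N : ModuleCat.{u} R, IsIso (shHom (tilde M) (tilde N)).fromTildeΓ := fun N =>
        (isQuasicoherent_iff_isIso_fromTildeΓ _).1 (isQCoh_shHom_tilde N hM)
      simp only [Iso.symm_hom, asIso_inv]
      rw [IsIso.comp_inv_eq, Category.assoc, IsIso.eq_inv_comp]
      exact (Scheme.Modules.fromTildeΓNatTrans.naturality
        ((ModSite.sheafHom (O := (Spec R).sheaf) (tilde M)).map (tilde.map p))).symm) :
    tilde.functor R ⋙ (ModSite.sheafHom (O := (Spec R).sheaf) (tilde M) : (Spec R).Modules ⥤ (Spec R).Modules) ≅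
      (tilde.functor R ⋙ (ModSite.sheafHom (O := (Spec R).sheaf) (tilde M) : (Spec R).Modules ⥤ (Spec R).Modules) ⋙
        moduleSpecΓFunctor) ⋙ tilde.functor R) ≪≫
  Functor.isoWhiskerRight (secIso M) (tilde.functor R)

theorem nonempty_extSh_tilde [IsNoetherianRing R] [HasInjectiveResolutions (ModSite.Mod (Spec R).sheaf)]
    (hM : Module.FinitePresentation R M) (i : ℕ) :
    Nonempty ((ModSite.extSh (O := (Spec R).sheaf) (tilde M) i).obj (tilde N) ≅
      tilde (ModuleCat.of R (Abelian.Ext M N i))) := by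
  haveI : HasInjectiveResolutions (Spec R).Modules := ‹HasInjectiveResolutions (ModSite.Mod (Spec R).sheaf)›
  haveI : EnoughInjectives (Spec R).Modules :=
    SpObjSS.enoughInjectives_of_hasInjectiveResolutions (C := ModSite.Mod (Spec R).sheaf)
  let SH : (Spec R).Modules ⥤ (Spec R).Modules := ModSite.sheafHom (O := (Spec R).sheaf) (tilde M)
  haveI : SH.Additive := ModSite.sheafHom_additive (Spec R).sheaf (tilde M)
  haveI : PreservesFiniteLimits SH := by
    have : PreservesLimitsOfSize.{0, 0} SH :=
      (ModSite.sheafHomAdj (O := (Spec R).sheaf) (tilde M)).rightAdjoint_preservesLimits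
    exact ⟨fun _ => inferInstance⟩
  haveI : (tilde.functor R).Additive := inferInstance
  haveI : (homL M ⋙ tilde.functor R).Additive := Functor.instAdditiveComp _ _
  obtain ⟨e⟩ := SiteBase.nonempty_rightDerived_precomp_of_acyclic (tilde.functor R) SH
    (fun Q hQ j => @isZero_extSh_tilde_injective R _ (tilde M) _ _ ((QCoh.isFP_tilde_iff M).2 hM) Q hQ j) i
  obtain ⟨f⟩ := nonempty_rightDerived_homL M N i
  exact ⟨e.symm.app N ≪≫ ((SiteBase.rightDerivedCongr (tildeHomIso hM) i ≪≫
    SiteBase.rightDerivedCompIso (homL M) (tilde.functor R) i).app N) ≪≫ (tilde.functor R).mapIso f.toModuleIso⟩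

end Spec

end Groth.Agent.ExtShX
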