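import Groth.Agent.KRegLib.Elem
import Mathlib

/-!
# Koszul zigzags in a resolution
-/

set_option autoImplicit false
set_option linter.style.haveILetI false
set_option linter.unusedSectionVars false
set_option backward.isDefEq.respectTransparency false

universe u v w

open Groth.Agent.WiebeLib Groth.Agent.KRegLib

noncomputable section

namespace Groth.Agent.ExtShX.ZigZag

variable {A : Type u} [CommRing A]

section coch

variable {M : Type v} [AddCommGroup M] [Module A M] {p q s a b c : ℕ}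

/-- Pullback of cochains along a map of free modules. -/
def coch (L : Ko A p a →ₗ[A] Ko A q b) : (Idx q b → M) →ₗ[A] (Idx p a → M) where
  toFun y i := ∑ l, L (Pi.single i 1) l • y l
  map_add' y y' := funext fun i => by simp [Finset.sum_add_distrib]
  map_smul' r y := funext fun i => by
    simp only [Pi.smul_apply, RingHom.id_apply, Finset.smul_sum]
    exact Finset.sum_congr rfl fun l _ => smul_comm _ _ _

theorem coch_apply (L : Ko A p a →ₗ[A] Ko A q b) (y : Idx q b → M) (i : Idx p a) :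
    coch L y i = ∑ l, L (Pi.single i 1) l • y l := rfl

theorem sum_coch (L : Ko A p a →ₗ[A] Ko A q b) (v : Ko A p a) (y : Idx q b → M) :
    ∑ l, L v l • y l = ∑ i, v i • coch L y i := by
  have hv : v = ∑ i, v i • (Pi.single i 1 : Ko A p a) := by
    funext i
    simp [Finset.sum_apply, Pi.single_apply]
  simp only [coch_apply, Finset.smul_sum]
  rw [Finset.sum_comm]
  refine Finset.sum_congr rfl fun l _ => ?_
  conv_lhs => rw [hv]
  simp only [map_sum, map_smul, Finset.sum_apply, Pi.smul_apply, smul_eq_mul, Finset.sum_smul, mul_smul]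

theorem coch_comp (L₂ : Ko A q b →ₗ[A] Ko A s c) (L₁ : Ko A p a →ₗ[A] Ko A q b) (y : Idx s c → M) :
    coch (L₂ ∘ₗ L₁) y = coch L₁ (coch L₂ y) := funext fun _ => sum_coch L₂ _ y

theorem coch_map {M' : Type w} [AddCommGroup M'] [Module A M'] (φ : M →ₗ[A] M') (L : Ko A p a →ₗ[A] Ko A q b)
    (y : Idx q b → M) : coch L (fun l => φ (y l)) = fun i => φ (coch L y i) := funext fun i => by
  simp [coch_apply]

end coch

variable {r : ℕ} (f : Fin r → A)

/-- The Koszul coboundary. -/
def δ {M : Type v} [AddCommGroup M] [Module A M] (k : ℕ) : (Idx r k → M) →ₗ[A] (Idx r (k + 1) → M) :=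
  coch (d r f k)

theorem δ_δ {M : Type v} [AddCommGroup M] [Module A M] (k : ℕ) (y : Idx r k → M) :
    δ f (k + 1) (δ f k y) = 0 := by
  refine (coch_comp _ _ y).symm.trans (funext fun i => ?_)
  simp [coch_apply, d_d]

theorem δ_mem {M : Type v} [AddCommGroup M] [Module A M] (k : ℕ) (y : Idx r k → M) (i : Idx r (k + 1)) :
    δ f k y i ∈ Ideal.span (Set.range f) • (⊤ : Submodule A M) :=
  Submodule.sum_mem _ fun l _ => Submodule.smul_mem_smul (d_mem r f k _ l) trivial

/-- The top index. -/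
def top : ∀ n : ℕ, Idx n n
  | 0 => ()
  | n + 1 => Sum.inr (top n)

theorem eq_top : ∀ {n : ℕ} (i : Idx n n), i = top n
  | 0, () => rfl
  | n + 1, Sum.inl i => (isEmpty_idx (Nat.lt_succ_self n)).elim i
  | n + 1, Sum.inr i => congrArg Sum.inr (eq_top i)

theorem subsingleton_idx_zero : ∀ n : ℕ, Subsingleton (Idx n 0)
  | 0 => inferInstanceAs (Subsingleton Unit)
  | n + 1 => subsingleton_idx_zero n

theorem idx_zero_nonempty : ∀ n : ℕ, Nonempty (Idx n 0)
  | 0 => inferInstanceAs (Nonempty Unit)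
  | n + 1 => idx_zero_nonempty n

/-- Every element of `J • M` is a top coboundary. -/
theorem exists_δ_of_mem {M : Type v} [AddCommGroup M] [Module A M] {c : ℕ} (g : Fin (c + 1) → A) {m : M}
    (hm : m ∈ Ideal.span (Set.range g) • (⊤ : Submodule A M)) :
    ∃ y : Idx (c + 1) c → M, δ g c y (top (c + 1)) = m := by
  let T : (Idx (c + 1) c → M) →ₗ[A] M := LinearMap.proj (top (c + 1)) ∘ₗ δ g c
  show m ∈ LinearMap.range T
  have key : ∀ i : Fin (c + 1), ∀ x : M, g i • x ∈ LinearMap.range T := fun i x => by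
    let t : Ko A (c + 1) (c + 1) := Pi.single (top (c + 1)) 1
    let e := eta (c + 1) (Pi.single i (1 : A)) c
    refine ⟨fun l => e (Pi.single l 1) (top (c + 1)) • x, ?_⟩
    show ∑ l, d (c + 1) g c t l • (e (Pi.single l 1) (top (c + 1)) • x) = g i • x
    have h0 : eta (c + 1) (Pi.single i (1 : A)) (c + 1) t = 0 :=
      haveI := subsingleton_ko A (Nat.lt_succ_self (c + 1)); Subsingleton.elim _ _
    have h1 := d_eta (c + 1) g (Pi.single i (1 : A)) c t
    rw [h0, map_zero, zero_add] at h1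
    have h2 := congrFun h1 (top (c + 1))
    simp only [Pi.smul_apply, smul_eq_mul, t, Pi.single_eq_same, mul_one, Pi.single_apply, ite_mul, one_mul,
      zero_mul, Finset.sum_ite_eq', Finset.mem_univ, if_true] at h2
    simp only [smul_smul, ← Finset.sum_smul]
    refine congrArg (· • x) ?_
    refine Eq.trans ?_ h2
    have hv : d (c + 1) g c t = ∑ l, d (c + 1) g c t l • (Pi.single l 1 : Ko A (c + 1) c) := by
      funext j
      simp [Finset.sum_apply, Pi.single_apply]
    show _ = e (d (c + 1) g c t) (top (c + 1))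
    conv_rhs => rw [hv]
    simp [map_sum, map_smul, Finset.sum_apply, e]
  refine Submodule.smul_induction_on hm (fun a ha x _ => ?_) (fun x y hx hy => add_mem hx hy)
  refine Submodule.span_induction (p := fun a _ => a • x ∈ LinearMap.range T) ?_ ?_ ?_ ?_ ha
  · rintro _ ⟨i, rfl⟩; exact key i x
  · simp
  · exact fun a b _ _ ha hb => by rw [add_smul]; exact add_mem ha hb
  · exact fun a b _ hb => by rw [smul_eq_mul, mul_smul]; exact Submodule.smul_mem _ _ hb

section zigzag

variable {I : ℕ → Type v} [∀ i, AddCommGroup (I i)] [∀ i, Module A (I i)]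
  (di : ∀ i, I i →ₗ[A] I (i + 1)) {F : Type v} [AddCommGroup F] [Module A F] (ε : F →ₗ[A] I 0)

/-- A zigzag from a cochain `x` in bidegree `(k, j)` to the family `W`. -/
def Lift : ∀ (j k : ℕ) (_ : Idx r k → I j) (_ : ∀ k, Idx r k → F), Prop
  | 0, k, x, W => ∀ i, x i = ε (W k i)
  | j + 1, k, x, W => ∃ z : Idx r k → I j, (∀ i, di j (z i) = x i) ∧ Lift j (k + 1) (δ f k z) W

/-- `m` is a value of the class of `s`. -/
def Val (s : I r) (m : F) : Prop :=
  ∃ W, Lift f di ε r 0 (fun _ => s) W ∧ W r (top r) = m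

variable {f di ε}

theorem lift_add : ∀ {j k : ℕ} {x x' : Idx r k → I j} {W W' : ∀ k, Idx r k → F},
    Lift f di ε j k x W → Lift f di ε j k x' W' → Lift f di ε j k (x + x') (W + W')
  | 0, k, x, x', W, W', h, h' => fun i => by simp [h i, h' i]
  | j + 1, k, x, x', W, W', ⟨z, hz, h⟩, ⟨z', hz', h'⟩ =>
    ⟨z + z', fun i => by simp [hz i, hz' i], by rw [map_add]; exact lift_add h h'⟩

theorem lift_smul (a : A) : ∀ {j k : ℕ} {x : Idx r k → I j} {W : ∀ k, Idx r k → F},
    Lift f di ε j k x W → Lift f di ε j k (a • x) (a • W)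
  | 0, k, x, W, h => fun i => by simp [h i]
  | j + 1, k, x, W, ⟨z, hz, h⟩ => ⟨a • z, fun i => by simp [hz i], by rw [map_smul]; exact lift_smul a h⟩

variable (hε : Function.Injective ε) (hεd : ∀ m, di 0 (ε m) = 0) (hdd : ∀ j x, di (j + 1) (di j x) = 0)
  (h0 : ∀ y, di 0 y = 0 → ∃ m, ε m = y) (hex : ∀ j y, di (j + 1) y = 0 → ∃ z, di j z = y)

theorem δ_di (j k : ℕ) (z : Idx r k → I j) :
    δ f k (fun i => di j (z i)) = fun i => di j (δ f k z i) :=
  coch_map (di j) (d r f k) z

include h0 hex in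
theorem exists_lift : ∀ (j k : ℕ) (x : Idx r k → I j), (∀ i, di j (x i) = 0) → δ f k x = 0 →
    ∃ W, Lift f di ε j k x W
  | 0, k, x, hx, _ => by
    choose m hm using fun i => h0 (x i) (hx i)
    exact ⟨Function.update 0 k m, fun i => by rw [Function.update_self]; exact (hm i).symm⟩
  | j + 1, k, x, hx, hδ => by
    choose z hz using fun i => hex j (x i) (hx i)
    obtain ⟨W, hW⟩ := exists_lift j (k + 1) (δ f k z)
      (fun i => by
        have h := congrFun (δ_di (f := f) (di := di) j k z) i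
        rw [funext hz, hδ] at h
        exact h.symm)
      (δ_δ f k z)
    exact ⟨W, z, hz, hW⟩

include hε h0 hex in
theorem lift_δ_of_closed : ∀ (j k : ℕ) (y : Idx r k → I j), k + 1 + j = r → (∀ i, di j (y i) = 0) →
    ∀ {W : ∀ k, Idx r k → F}, Lift f di ε j (k + 1) (δ f k y) W →
      W r (top r) ∈ Ideal.span (Set.range f) • (⊤ : Submodule A F)
  | 0, k, y, hk, hy, W, h => by
    obtain rfl : k + 1 = r := by omega
    choose g hg using fun i => h0 (y i) (hy i)
    have : W (k + 1) (top (k + 1)) = δ f k g (top (k + 1)) := hε (by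
      rw [← h (top (k + 1)), ← funext hg, δ, coch_map]; rfl)
    rw [this]
    exact δ_mem f k g _
  | j + 1, k, y, hk, hy, W, ⟨z, hz, h⟩ => by
    choose y' hy' using fun i => hex j (y i) (hy i)
    refine lift_δ_of_closed j (k + 1) (z - δ f k y') (by omega) (fun i => ?_) ?_
    · rw [Pi.sub_apply, map_sub, hz, sub_eq_zero, ← congrFun (δ_di (f := f) (di := di) j k y') i, funext hy']
    · rw [map_sub, δ_δ, sub_zero]
      exact h

include hε h0 hex in
theorem mem_of_lift_zero : ∀ (j k : ℕ), k + j = r → ∀ {W : ∀ k, Idx r k → F},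
    Lift f di ε j k (0 : Idx r k → I j) W → W r (top r) ∈ Ideal.span (Set.range f) • (⊤ : Submodule A F)
  | 0, k, hk, W, h => by
    obtain rfl : k = r := by omega
    rw [show W k (top k) = 0 from hε ((h _).symm.trans (map_zero ε).symm)]
    exact zero_mem _
  | j + 1, k, hk, W, ⟨z, hz, h⟩ =>
    lift_δ_of_closed hε h0 hex j k z (by omega) (fun i => hz i) h

include h0 hex in
theorem exists_val {s : I r} (hs : ∀ i, f i • s = 0) (hds : di r s = 0) : ∃ m, Val f di ε s m := by
  obtain ⟨W, hW⟩ := exists_lift (f := f) h0 hex r 0 (fun _ => s) (fun _ => hds) (funext fun i => by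
    refine Finset.sum_eq_zero fun l _ => ?_
    refine Submodule.span_induction (p := fun a _ => a • s = 0) ?_ ?_ ?_ ?_ (d_mem r f 0 _ l)
    · rintro _ ⟨i, rfl⟩; exact hs i
    · simp
    · exact fun a b _ _ ha hb => by rw [add_smul, ha, hb, add_zero]
    · exact fun a b _ hb => by rw [smul_eq_mul, mul_smul, hb, smul_zero])
  exact ⟨_, W, hW, rfl⟩

theorem val_add {s s' : I r} {m m' : F} (h : Val f di ε s m) (h' : Val f di ε s' m') :
    Val f di ε (s + s') (m + m') := by
  obtain ⟨W, hW, rfl⟩ := h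
  obtain ⟨W', hW', rfl⟩ := h'
  exact ⟨W + W', lift_add hW hW', rfl⟩

theorem val_smul (a : A) {s : I r} {m : F} (h : Val f di ε s m) : Val f di ε (a • s) (a • m) := by
  obtain ⟨W, hW, rfl⟩ := h
  exact ⟨a • W, lift_smul a hW, rfl⟩

include hε h0 hex in
theorem val_sub_mem {s : I r} {m m' : F} (h : Val f di ε s m) (h' : Val f di ε s m') :
    m - m' ∈ Ideal.span (Set.range f) • (⊤ : Submodule A F) := by
  obtain ⟨W, hW, rfl⟩ := h
  obtain ⟨W', hW', rfl⟩ := h'
  have := lift_add hW (lift_smul (-1) hW')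
  rw [neg_one_smul, add_neg_cancel] at this
  have h2 := mem_of_lift_zero hε h0 hex r 0 (zero_add r) this
  rwa [neg_one_smul, Pi.add_apply, Pi.add_apply, Pi.neg_apply, Pi.neg_apply, ← sub_eq_add_neg] at h2

theorem lift_zero : ∀ (j k : ℕ), Lift f di ε j k 0 0
  | 0, k => fun i => (map_zero ε).symm
  | j + 1, k => ⟨0, fun i => map_zero _, by rw [map_zero]; exact lift_zero j (k + 1)⟩

theorem val_coboundary {c : ℕ} {g : Fin (c + 1) → A} {v : I c} (hv : ∀ i, g i • v = 0) :
    Val g di ε (di c v) 0 := by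
  refine ⟨0, ⟨fun _ => v, fun _ => rfl, ?_⟩, rfl⟩
  have hδ : δ g 0 (fun _ => v) = 0 := funext fun i => by
    refine Finset.sum_eq_zero fun l _ => ?_
    refine Submodule.span_induction (p := fun a _ => a • v = 0) ?_ ?_ ?_ ?_ (d_mem (c + 1) g 0 _ l)
    · rintro _ ⟨i, rfl⟩; exact hv i
    · simp
    · exact fun a b _ _ ha hb => by rw [add_smul, ha, hb, add_zero]
    · exact fun a b _ hb => by rw [smul_eq_mul, mul_smul, hb, smul_zero]
  rw [hδ]
  exact lift_zero c 1

section columns

variable (hcol : ∀ (j k : ℕ) (y : Idx r (k + 1) → I j), δ f (k + 1) y = 0 → ∃ z, δ f k z = y)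

include hεd hdd hcol in
theorem exists_start : ∀ (j k : ℕ), k + j = r → ∀ m : F,
    ∃ (x : Idx r k → I j) (W : ∀ k, Idx r k → F),
      δ f k x = 0 ∧ (∀ i, di j (x i) = 0) ∧ Lift f di ε j k x W ∧ W r (top r) = m
  | 0, k, hk, m => by
    obtain rfl : k = r := by omega
    exact ⟨fun _ => ε m, fun _ _ => m, funext fun i => (isEmpty_idx (Nat.lt_succ_self k)).elim i,
      fun _ => hεd m, fun _ => rfl, rfl⟩
  | j + 1, k, hk, m => by
    obtain ⟨x', W, hδ, hd, hW, hm⟩ := exists_start j (k + 1) (by omega) m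
    obtain ⟨z, rfl⟩ := hcol j k x' hδ
    refine ⟨fun i => di j (z i), W, ?_, fun i => hdd j _, ⟨z, fun _ => rfl, hW⟩, hm⟩
    rw [δ_di]
    funext i
    exact hd i

include hεd hdd hcol in
theorem val_surjective (m : F) : ∃ s : I r, (∀ i, f i • s = 0) ∧ di r s = 0 ∧ Val f di ε s m := by
  obtain ⟨x, W, hδ, hd, hW, hm⟩ := exists_start hεd hdd hcol r 0 (zero_add r) m
  haveI := subsingleton_idx_zero r
  obtain ⟨i₀⟩ := idx_zero_nonempty r
  have hx : x = fun _ => x i₀ := funext fun i => congrArg x (Subsingleton.elim i i₀)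
  refine ⟨x i₀, fun i => ?_, hd i₀, W, hx ▸ hW, hm⟩
  let L : A := ∑ l, (Pi.single i (1 : A) : Fin r → A) l * f l
  have h1 : L • (Pi.single i₀ 1 : Ko A r 0) = d r f 0 (eta r (Pi.single i 1) 0 (Pi.single i₀ 1)) :=
    (d_eta_zero r f (Pi.single i 1) _).symm
  have h2 : ∑ l, (L • (Pi.single i₀ 1 : Ko A r 0)) l • x l = 0 := by
    rw [h1, sum_coch]
    show ∑ l, _ • δ f 0 x l = 0
    simp [hδ]
  simpa [L, Pi.single_apply, ite_smul, Finset.sum_ite_eq'] using h2

include hε hεd hdd hcol in
theorem coboundary_of_lift : ∀ (j k : ℕ), k + j = r → ∀ (x : Idx r k → I j) {W : ∀ k, Idx r k → F},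
    δ f k x = 0 → (∀ i, di j (x i) = 0) → Lift f di ε j k x W →
    W r (top r) ∈ Ideal.span (Set.range f) • (⊤ : Submodule A F) →
    (∃ k', ∃ h : k = k' + 1, ∃ y : Idx r k' → I j, (∀ i, di j (y i) = 0) ∧ δ f k' y = h ▸ x) ∨
      (k = 0 ∧ j = 0 ∧ x = 0) ∨
      (k = 0 ∧ ∃ j', ∃ h : j = j' + 1, ∃ v : Idx r k → I j', δ f k v = 0 ∧ ∀ i, di j' (v i) = (h ▸ x) i)
  | 0, k, hk, x, W, _, _, h, hm => by
    obtain rfl : k = r := by omega
    rcases k with _ | k'
    · refine Or.inr (Or.inl ⟨rfl, rfl, funext fun i => ?_⟩)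
      have he : Set.range f = ∅ := Set.range_eq_empty f
      rw [he, Ideal.span_empty, Submodule.bot_smul, Submodule.mem_bot] at hm
      rw [eq_top i, h, hm, map_zero]
      rfl
    · obtain ⟨g, hg⟩ := exists_δ_of_mem f hm
      refine Or.inl ⟨k', rfl, fun i => ε (g i), fun i => hεd _, ?_⟩
      rw [δ, coch_map]
      funext i
      show ε (coch (d (k' + 1) f k') g i) = x i
      rw [h i, eq_top i]
      exact congrArg ε hg
  | j + 1, k, hk, x, W, hδ, hd, ⟨z, hz, h⟩, hm => by
    have hd' : ∀ i, di j (δ f k z i) = 0 := fun i => by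
      rw [← congrFun (δ_di (f := f) (di := di) j k z) i, funext hz, hδ]
      rfl
    rcases coboundary_of_lift j (k + 1) (by omega) (δ f k z) (δ_δ f k z) hd' h hm with
      ⟨k', hk', y, hdy, hy⟩ | ⟨hk', -, -⟩ | ⟨hk', -⟩
    · obtain rfl : k = k' := by omega
      have hzy : δ f k (z - y) = 0 := by rw [map_sub, hy]; exact sub_self _
      rcases k with _ | k''
      · exact Or.inr (Or.inr ⟨rfl, j, rfl, z - y, hzy, fun i => by
          rw [Pi.sub_apply, map_sub, hdy, sub_zero, hz]⟩)
      · obtain ⟨y'', hy''⟩ := hcol j k'' (z - y) hzy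
        refine Or.inl ⟨k'', rfl, fun i => di j (y'' i), fun i => hdd j _, ?_⟩
        rw [δ_di, hy'']
        funext i
        show di j (z i - y i) = x i
        rw [map_sub, hdy, sub_zero, hz]
    · omega
    · omega

end columns

include hε hεd hdd in
theorem eq_coboundary_of_mem {c : ℕ} {g : Fin (c + 1) → A}
    (hcol : ∀ (j k : ℕ) (y : Idx (c + 1) (k + 1) → I j), δ g (k + 1) y = 0 → ∃ z, δ g k z = y)
    {s : I (c + 1)} {m : F} (hs : ∀ i, g i • s = 0) (hds : di (c + 1) s = 0) (h : Val g di ε s m)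
    (hm : m ∈ Ideal.span (Set.range g) • (⊤ : Submodule A F)) :
    ∃ v : I c, (∀ i, g i • v = 0) ∧ di c v = s := by
  obtain ⟨W, hW, rfl⟩ := h
  have hδ : δ g 0 (fun _ => s) = 0 := funext fun i => by
    refine Finset.sum_eq_zero fun l _ => ?_
    refine Submodule.span_induction (p := fun a _ => a • s = 0) ?_ ?_ ?_ ?_ (d_mem (c + 1) g 0 _ l)
    · rintro _ ⟨i, rfl⟩; exact hs i
    · simp
    · exact fun a b _ _ ha hb => by rw [add_smul, ha, hb, add_zero]
    · exact fun a b _ hb => by rw [smul_eq_mul, mul_smul, hb, smul_zero]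
  rcases coboundary_of_lift hε hεd hdd hcol (c + 1) 0 (zero_add _) (fun _ => s) hδ (fun _ => hds) hW hm with
    ⟨k', hk', -⟩ | ⟨-, hj, -⟩ | ⟨-, j', hj', v, hv, hdv⟩
  · omega
  · omega
  obtain rfl : c = j' := by omega
  haveI := subsingleton_idx_zero (c + 1)
  obtain ⟨i₀⟩ := idx_zero_nonempty (c + 1)
  refine ⟨v i₀, fun i => ?_, hdv i₀⟩
  let L : A := ∑ l, (Pi.single i (1 : A) : Fin (c + 1) → A) l * g l
  have h1 : L • (Pi.single i₀ 1 : Ko A (c + 1) 0) = d (c + 1) g 0 (eta (c + 1) (Pi.single i 1) 0 (Pi.single i₀ 1)) :=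
    (d_eta_zero (c + 1) g (Pi.single i 1) _).symm
  have h2 : ∑ l, (L • (Pi.single i₀ 1 : Ko A (c + 1) 0)) l • v l = 0 := by
    rw [h1, sum_coch]
    show ∑ l, _ • δ g 0 v l = 0
    simp [hv]
  simpa [L, Pi.single_apply, ite_smul, Finset.sum_ite_eq'] using h2

section change

variable {g : Fin r → A} (C : Matrix (Fin r) (Fin r) A)

theorem U_top : ∀ (m : ℕ) (D : Fin m → Fin r → A), U m D m (Pi.single (top m) 1) = prodRows m D := by
  intro m
  induction m with
  | zero =>
    intro D
    show (base r).symm (base 0 (Pi.single (top 0) 1)) = (base r).symm 1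
    refine congrArg _ ?_
    show (Pi.single (top 0) (1 : A) : Ko A 0 0) () = 1
    exact Pi.single_eq_same (M := fun _ : Idx 0 0 => A) (top 0) 1
  | succ m ih =>
    intro D
    have hf : fstL m m (Pi.single (top (m + 1)) (1 : A)) = 0 :=
      haveI := subsingleton_ko A (Nat.lt_succ_self m); Subsingleton.elim _ _
    have hs : sndL m m (Pi.single (top (m + 1)) (1 : A)) = Pi.single (top m) 1 := funext fun i => by
      rw [eq_top i]
      show (Pi.single (top (m + 1)) (1 : A) : Ko A (m + 1) (m + 1)) (Sum.inr (top m)) = _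
      rw [show (Sum.inr (top m) : Idx (m + 1) (m + 1)) = top (m + 1) from rfl, Pi.single_eq_same, Pi.single_eq_same]
    rw [prodRows_succ]
    show U m _ (m + 1) (fstL m m _) + eta r (D 0) m (U m _ m (sndL m m _)) = _
    rw [hf, hs, map_zero, zero_add, ih]

theorem U_top_eq_det :
    U r (fun i j => C i j) r (Pi.single (top r) 1) (top r) = C.det := by
  let φ : (Fin r → A) [⋀^Fin r]→ₗ[A] A :=
    { toMultilinearMap := (LinearMap.proj (top r)).compMultilinearMap (prodRows r)
      map_eq_zero_of_eq' := fun D i j h hij => by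
        show prodRows r D (top r) = 0
        rw [prodRows_eq_zero r D i j h hij]
        rfl }
  have hφ := φ.eq_smul_basis_det (Pi.basisFun A (Fin r))
  have h1 : φ (Pi.basisFun A (Fin r)) = 1 := by
    show prodRows r (fun i => Pi.basisFun A (Fin r) i) (top r) = 1
    rw [← U_top]
    have : (fun i => Pi.basisFun A (Fin r) i) = fun i => (Pi.single i 1 : Fin r → A) := funext fun i => by simp
    rw [this, U_one, Pi.single_eq_same]
  rw [U_top]
  show φ (fun i => fun j => C i j) = _
  rw [hφ, h1]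
  simp only [one_smul]
  exact (Pi.basisFun_det_apply (R := A) (fun i j => C i j))

theorem lift_change (hfg : ∀ i, f i = ∑ j, C i j * g j) : ∀ (j k : ℕ) {x : Idx r k → I j} {W : ∀ k, Idx r k → F},
    Lift g di ε j k x W →
      Lift f di ε j k (coch (U r (fun i l => C i l) k) x) (fun k => coch (U r (fun i l => C i l) k) (W k))
  | 0, k, x, W, h => fun i => by
    show coch _ x i = ε (coch _ (W k) i)
    rw [show x = fun i => ε (W k i) from funext h, coch_map]
  | j + 1, k, x, W, ⟨z, hz, h⟩ => by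
    refine ⟨coch (U r (fun i l => C i l) k) z, fun i => ?_, ?_⟩
    · rw [← congrFun (coch_map (di j) (U r (fun i l => C i l) k) z) i, funext hz]
    · have hd : U r (fun i l => C i l) k ∘ₗ d r f k = d r g k ∘ₗ U r (fun i l => C i l) (k + 1) :=
        LinearMap.ext fun v => by
          show U r _ k (d r f k v) = d r g k (U r _ (k + 1) v)
          rw [d_U g r (fun i l => C i l) k v, ← funext hfg]
      rw [show δ f k (coch (U r (fun i l => C i l) k) z) = coch (U r (fun i l => C i l) (k + 1)) (δ g k z) from by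
        rw [δ, δ, ← coch_comp, hd, coch_comp]]
      exact lift_change hfg j (k + 1) h

theorem val_change (hfg : ∀ i, f i = ∑ j, C i j * g j) {s : I r} {m : F} (h : Val g di ε s m) :
    Val f di ε s (C.det • m) := by
  obtain ⟨W, hW, rfl⟩ := h
  refine ⟨fun k => coch (U r (fun i l => C i l) k) (W k), ?_, ?_⟩
  · refine (congrArg (fun x => Lift f di ε r 0 x fun k => coch (U r (fun i l => C i l) k) (W k)) ?_).mp
      (lift_change C hfg r 0 hW)
    funext i
    haveI := subsingleton_idx_zero r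
    rw [coch_apply, Fintype.sum_subsingleton _ i, U_zero_apply, LinearEquiv.symm_apply_apply, Pi.single_eq_same,
      one_smul]
  · show coch _ (W r) (top r) = _
    rw [coch_apply, Finset.sum_eq_single (top r) (fun l _ hl => absurd (eq_top l) hl)
      (fun hl => absurd (Finset.mem_univ _) hl), U_top_eq_det]

end change

section map

variable {B : Type u} [CommRing B] {σ : A →+* B}
  {I' : ℕ → Type w} [∀ i, AddCommGroup (I' i)] [∀ i, Module B (I' i)]
  {di' : ∀ i, I' i →ₗ[B] I' (i + 1)} {F' : Type w} [AddCommGroup F'] [Module B F'] {ε' : F' →ₗ[B] I' 0}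
  (φ : ∀ i, I i →ₛₗ[σ] I' i) (φF : F →ₛₗ[σ] F') (hφd : ∀ j x, φ (j + 1) (di j x) = di' j (φ j x))
  (hφε : ∀ m, φ 0 (ε m) = ε' (φF m))

theorem δ_map {M : Type v} [AddCommGroup M] [Module A M] {M' : Type w} [AddCommGroup M'] [Module B M']
    (ψ : M →ₛₗ[σ] M') (k : ℕ) (y : Idx r k → M) (i : Idx r (k + 1)) :
    δ (fun t => σ (f t)) k (fun l => ψ (y l)) i = ψ (δ f k y i) := by
  show ∑ l, _ = ψ (∑ l, _)
  rw [map_sum]
  refine Finset.sum_congr rfl fun l _ => ?_
  rw [LinearMap.map_smulₛₗ]
  refine congrArg (· • ψ (y l)) ?_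
  have h := congrFun (d_map σ r f k (Pi.single i 1)) l
  have : (fun l => σ ((Pi.single i (1 : A) : Ko A r (k + 1)) l)) = Pi.single i 1 := funext fun l => by
    simp [Pi.single_apply, apply_ite σ]
  rw [this] at h
  exact h

include hφd hφε in
theorem lift_map : ∀ (j k : ℕ) {x : Idx r k → I j} {W : ∀ k, Idx r k → F}, Lift f di ε j k x W →
    Lift (fun t => σ (f t)) di' ε' j k (fun i => φ j (x i)) (fun k i => φF (W k i))
  | 0, k, x, W, h => fun i => by
    show φ 0 (x i) = ε' (φF (W k i))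
    rw [h i, hφε]
  | j + 1, k, x, W, ⟨z, hz, h⟩ => by
    refine ⟨fun i => φ j (z i), fun i => by rw [← hφd, hz], ?_⟩
    have := lift_map j (k + 1) h
    rwa [show (fun i => φ j (δ f k z i)) = δ (fun t => σ (f t)) k (fun l => φ j (z l)) from
      funext fun i => (δ_map (φ j) k z i).symm] at this

include hφd hφε in
theorem val_map {s : I r} {m : F} (h : Val f di ε s m) :
    Val (fun t => σ (f t)) di' ε' (φ r s) (φF m) := by
  obtain ⟨W, hW, rfl⟩ := h
  exact ⟨_, lift_map φ φF hφd hφε r 0 hW, rfl⟩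

end map

end zigzag

end Groth.Agent.ExtShX.ZigZag
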